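import Groth.Agent.NodePtLib.Field
import Groth.Agent.NodalLib.Family
import Groth.Agent.S4673

/-!
# At-worst-nodal families and base change
-/

set_option autoImplicit false
set_option backward.isDefEq.respectTransparency false
set_option linter.style.haveILetI false
set_option linter.unusedSectionVars false

universe u

open CategoryTheory CategoryTheory.Limits AlgebraicGeometry IsLocalRing

noncomputable section

namespace Groth.Agent.NodePtLib

variable (k : Type u) [Field k] (X : Scheme.{u}) [X.Over (Spec (CommRingCat.of k))]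
  [LocallyOfFiniteType (X ↘ Spec (CommRingCat.of k))]

theorem comps1_bc_iff (K : Type u) [Field K] [Algebra k K] :
    NodalLib.Comps1 (Curv2.bc k X K) ↔ NodalLib.Comps1 X := by
  have h : (fun Z : Set ↥(Curv2.bc k X K) => topologicalKrullDim ↥Z) '' irreducibleComponents ↥(Curv2.bc k X K) =
      (fun Z : Set ↥X => topologicalKrullDim ↥Z) '' irreducibleComponents ↥X :=
    Groth.Agent.S4673.result (K := K) (X ↘ Spec (CommRingCat.of k))
  constructor
  · intro hc Z hZ
    obtain ⟨W, hW, e⟩ := h.ge (Set.mem_image_of_mem _ hZ)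
    exact e.symm.trans (hc W hW)
  · intro hc Z hZ
    obtain ⟨W, hW, e⟩ := h.le (Set.mem_image_of_mem _ hZ)
    exact e.symm.trans (hc W hW)

variable {k X}

theorem atWorstNodal_bc (hc : NodalLib.Comps1 X) (h : Curv2.AtWorstNodal k X) (K : Type u) [Field K] [Algebra k K] :
    @Curv2.AtWorstNodal K _ (Curv2.bc k X K) ⟨Curv2.bcSnd k X K⟩ := by
  letI : (Curv2.bc k X K).Over (Spec (CommRingCat.of K)) := ⟨Curv2.bcSnd k X K⟩
  intro y _
  have hd := fun Z hZ => (hc Z hZ).le
  haveI : LocallyOfFinitePresentation (X ↘ Spec (CommRingCat.of k)) :=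
    haveI := LocallyOfFiniteType.isLocallyNoetherian (X ↘ Spec (CommRingCat.of k))
    LocallyOfFinitePresentation.iff_locallyOfFiniteType.mpr inferInstance
  have hsm : (∃ U : X.Opens, Curv2.bcFst k X K y ∈ U ∧ Smooth (U.ι ≫ (X ↘ Spec (CommRingCat.of k)))) ∨
      Curv2.IsNode k X (Curv2.bcFst k X K y) := by
    by_cases hx : IsClosed ({Curv2.bcFst k X K y} : Set X)
    · exact h _ hx
    · exact Or.inl (smooth_nhd_of_not_closed k X hd h hx)
  rcases hsm with hs | hn
  · exact Or.inl ((PointBC.smooth_nhd_iff (X ↘ Spec (CommRingCat.of k)) _ y (Or.inr stalkMap_ofHom_flat)).2 hs)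
  · exact Or.inr ((isNode_bc_iff k X hd K y).1 hn)

theorem atWorstNodal_of_bc (hc : NodalLib.Comps1 X) (K : Type u) [Field K] [Algebra k K]
    (h : @Curv2.AtWorstNodal K _ (Curv2.bc k X K) ⟨Curv2.bcSnd k X K⟩) : Curv2.AtWorstNodal k X := by
  letI : (Curv2.bc k X K).Over (Spec (CommRingCat.of K)) := ⟨Curv2.bcSnd k X K⟩
  intro x hx
  have hd := fun Z hZ => (hc Z hZ).le
  haveI : LocallyOfFinitePresentation (X ↘ Spec (CommRingCat.of k)) :=
    haveI := LocallyOfFiniteType.isLocallyNoetherian (X ↘ Spec (CommRingCat.of k))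
    LocallyOfFinitePresentation.iff_locallyOfFiniteType.mpr inferInstance
  haveI : LocallyOfFiniteType (Curv2.bcSnd k X K) :=
    inferInstanceAs (LocallyOfFiniteType (pullback.snd (X ↘ Spec (CommRingCat.of k)) _))
  haveI : JacobsonSpace (Curv2.bc k X K) := LocallyOfFiniteType.jacobsonSpace (Curv2.bcSnd k X K)
  obtain ⟨y, hy, hyc⟩ := nonempty_inter_closedPoints (Z := Curv2.bcFst k X K ⁻¹' {x})
    ((Set.singleton_nonempty x).preimage (surjective_bcFst k X K))
    (hx.preimage (Curv2.bcFst k X K).continuous).isLocallyClosed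
  have hy' : Curv2.bcFst k X K y = x := hy
  rw [← hy']
  rcases h y hyc with hs | hn
  · exact Or.inl ((PointBC.smooth_nhd_iff (X ↘ Spec (CommRingCat.of k)) _ y (Or.inr stalkMap_ofHom_flat)).1 hs)
  · exact Or.inr ((isNode_bc_iff k X hd K y).2 hn)

/-- The fibre of a base change is the fibre with extended scalars. -/
theorem exists_fiberIso {X Y Y' : Scheme.{u}} (f : X ⟶ Y) (g : Y' ⟶ Y) (s' : Y') :
    ∃ e : pullback (f.fiberToSpecResidueField (g s')) (Spec.map (g.residueFieldMap s')) ≅
        (pullback.snd f g).fiber s',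
      e.hom ≫ (pullback.snd f g).fiberToSpecResidueField s' = pullback.snd _ _ := by
  let q := f.fiberToSpecResidueField (g s')
  let r := Spec.map (g.residueFieldMap s')
  let j := Y'.fromSpecResidueField s'
  have hr : r ≫ Y.fromSpecResidueField (g s') = j ≫ g :=
    Scheme.Hom.SpecMap_residueFieldMap_fromSpecResidueField g s'
  let m : pullback q r ⟶ pullback f g :=
    pullback.lift (pullback.fst q r ≫ f.fiberι (g s')) (pullback.snd q r ≫ j) (by
      rw [Category.assoc, Category.assoc, f.fiber_fac, ← hr, pullback.condition_assoc])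
  have hm : IsPullback m (pullback.snd q r) (pullback.snd f g) j := by
    refine IsPullback.of_right ?_ (pullback.lift_snd _ _ _) (IsPullback.of_hasPullback f g)
    rw [pullback.lift_fst, ← hr]
    exact (IsPullback.of_hasPullback q r).paste_horiz
      (IsPullback.of_hasPullback f (Y.fromSpecResidueField (g s')))
  exact ⟨hm.isoPullback, hm.isoPullback_hom_snd⟩

/-- Nodal fibres of a base change. -/
theorem fibre_nodal_iff {X S S' : Scheme.{u}} (f : X ⟶ S) [LocallyOfFiniteType f] (g : S' ⟶ S) (s' : S') :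
    (NodalLib.Comps1 ((pullback.snd f g).fiber s') ∧ @Curv2.AtWorstNodal (S'.residueField s') _
      ((pullback.snd f g).fiber s') ⟨(pullback.snd f g).fiberToSpecResidueField s'⟩) ↔
    (NodalLib.Comps1 (f.fiber (g s')) ∧ @Curv2.AtWorstNodal (S.residueField (g s')) _
      (f.fiber (g s')) ⟨f.fiberToSpecResidueField (g s')⟩) := by
  let k := S.residueField (g s')
  let K := S'.residueField s'
  letI : Algebra k K := (g.residueFieldMap s').hom.toAlgebra
  let F := f.fiber (g s')
  letI : F.Over (Spec (CommRingCat.of k)) := ⟨f.fiberToSpecResidueField (g s')⟩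
  haveI : LocallyOfFiniteType (F ↘ Spec (CommRingCat.of k)) :=
    inferInstanceAs (LocallyOfFiniteType (pullback.snd f _))
  obtain ⟨e, he⟩ := exists_fiberIso f g s'
  let W := Curv2.bc k F K
  letI : W.Over (Spec (CommRingCat.of K)) := ⟨Curv2.bcSnd k F K⟩
  let F' := (pullback.snd f g).fiber s'
  letI : F'.Over (Spec (CommRingCat.of K)) := ⟨(pullback.snd f g).fiberToSpecResidueField s'⟩
  haveI : LocallyOfFiniteType (F' ↘ Spec (CommRingCat.of K)) :=
    inferInstanceAs (LocallyOfFiniteType (pullback.snd (pullback.snd f g) _))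
  haveI : LocallyOfFiniteType (W ↘ Spec (CommRingCat.of K)) :=
    inferInstanceAs (LocallyOfFiniteType (pullback.snd (F ↘ Spec (CommRingCat.of k)) _))
  let e' : W ≅ F' := e
  have he' : e'.hom ≫ (F' ↘ Spec (CommRingCat.of K)) = (W ↘ Spec (CommRingCat.of K)) := he
  have he'' : e'.inv ≫ (W ↘ Spec (CommRingCat.of K)) = (F' ↘ Spec (CommRingCat.of K)) := by
    rw [← he', e'.inv_hom_id_assoc]
  constructor
  · rintro ⟨h1, h2⟩
    have h1' : NodalLib.Comps1 F := (comps1_bc_iff k F K).1
      (NodalLib.comps1_of_etale (F' ↘ Spec (CommRingCat.of K)) e'.hom h1)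
    exact ⟨h1', atWorstNodal_of_bc h1' K (NodalLib.atWorstNodal_of_etale e'.hom he' h2)⟩
  · rintro ⟨h1, h2⟩
    exact ⟨NodalLib.comps1_of_etale (W ↘ Spec (CommRingCat.of K)) e'.inv ((comps1_bc_iff k F K).2 h1),
      NodalLib.atWorstNodal_of_etale e'.inv he'' (atWorstNodal_bc h1 h2 K)⟩

end Groth.Agent.NodePtLib
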