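import Groth.Agent.NodePtLib.Geom
import Groth.Agent.PointBC.Basic
import Groth.Agent.S5090
import Mathlib.RingTheory.LocalProperties.Reduced
import Mathlib.FieldTheory.Normal.Basic
import Mathlib.AlgebraicGeometry.Morphisms.UniversallyOpen

/-!
# Nodes under arbitrary field extensions
-/

set_option autoImplicit false
set_option backward.isDefEq.respectTransparency false
set_option linter.style.haveILetI false
set_option linter.unusedSectionVars false

universe u

open CategoryTheory CategoryTheory.Limits AlgebraicGeometry IsLocalRing TopologicalSpace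

noncomputable section

namespace Groth.Agent.NodePtLib

/-- In dimension at most one the non-closed points have no proper generalisation. -/
theorem maximal_of_not_closed {X : Scheme.{u}}
    (hdim : ∀ Z ∈ irreducibleComponents (X : Type u), topologicalKrullDim Z ≤ 1) {x : X}
    (hx : ¬ IsClosed ({x} : Set X)) (a : X) (ha : a ⤳ x) : a = x := by
  by_contra hne
  obtain ⟨c, hc, hcx⟩ : ∃ c, x ⤳ c ∧ c ≠ x := by
    by_contra! h
    refine hx (closure_eq_iff_isClosed.1 (Set.Subset.antisymm (fun c hc => ?_) subset_closure))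
    exact h c (specializes_iff_mem_closure.2 hc)
  obtain ⟨Z, hZ, haZ⟩ := exists_mem_irreducibleComponents_subset_of_isIrreducible _
    (isIrreducible_singleton (x := a)).closure
  have hac : a ⤳ c := ha.trans hc
  let p : Fin 3 → Z := ![⟨c, haZ (specializes_iff_mem_closure.1 hac)⟩,
    ⟨x, haZ (specializes_iff_mem_closure.1 ha)⟩, ⟨a, haZ (subset_closure rfl)⟩]
  let C : Fin 3 → IrreducibleCloseds Z := fun i => ⟨closure {p i}, isIrreducible_singleton.closure, isClosed_closure⟩
  have hlt : ∀ i i' : Fin 3, (p i' : X) ⤳ p i → (p i : X) ≠ p i' → C i < C i' := by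
    intro i i' hs hne'
    have hsub : p i' ⤳ p i := subtype_specializes_iff _ _ |>.2 hs
    refine lt_of_le_of_ne (show closure ({p i} : Set Z) ⊆ closure {p i'} from closure_minimal
      (Set.singleton_subset_iff.2 (specializes_iff_mem_closure.1 hsub)) isClosed_closure) fun h => hne' ?_
    have hcl : closure ({p i} : Set Z) = closure {p i'} := congrArg IrreducibleCloseds.carrier h
    have h' : p i ⤳ p i' := specializes_iff_mem_closure.2 (by rw [hcl]; exact subset_closure rfl)
    exact (((subtype_specializes_iff _ _).1 h').antisymm hs).eq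
  let s : LTSeries (IrreducibleCloseds Z) :=
    { length := 2
      toFun := C
      step := fun i => by
        fin_cases i
        · exact hlt 0 1 hc hcx
        · exact hlt 1 2 ha (Ne.symm hne) }
  have h2 : (2 : WithBot ℕ∞) ≤ topologicalKrullDim Z := Order.LTSeries.length_le_krullDim s
  exact absurd (h2.trans (hdim Z hZ)) (by decide)

theorem dim_le_of_eq {X : Scheme.{u}} (hdim : topologicalKrullDim X = 1) :
    ∀ Z ∈ irreducibleComponents (X : Type u), topologicalKrullDim Z ≤ 1 := fun Z _ =>
  (topologicalKrullDim_subspace_le X Z).trans hdim.le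

theorem stalkMap_ofHom_flat {k K : Type u} [Field k] [Field K] [Algebra k K] :
    Flat (Spec.map (CommRingCat.ofHom (algebraMap k K))) := by
  rw [HasRingHomProperty.Spec_iff (P := @Flat)]
  exact RingHom.flat_algebraMap_iff.2 inferInstance

variable (k : Type u) [Field k] (X : Scheme.{u}) [X.Over (Spec (CommRingCat.of k))]
  [LocallyOfFiniteType (X ↘ Spec (CommRingCat.of k))]

theorem surjective_bcFst (K : Type u) [Field K] [Algebra k K] : Function.Surjective (Curv2.bcFst k X K) := fun x => by
  obtain ⟨z, hz, -⟩ := Scheme.Pullback.exists_preimage_pullback (f := X ↘ Spec (CommRingCat.of k))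
    (g := Spec.map (CommRingCat.ofHom (algebraMap k K))) x (closedPoint K) (Subsingleton.elim _ _)
  exact ⟨z, hz⟩

/-- Every geometric point over a node is an ordinary double point. -/
theorem ordPtBc_of_isNode (x : X) (hx : Curv2.IsNode k X x) (xb : Curv2.bc k X (AlgebraicClosure k))
    (hxb : Curv2.bcFst k X (AlgebraicClosure k) xb = x) : NodalLib.OrdPtBc k X xb := by
  obtain ⟨hxc, z, hz, h⟩ := hx
  let K := AlgebraicClosure k
  letI : (Curv2.bc k X K).Over (Spec (CommRingCat.of K)) := ⟨Curv2.bcSnd k X K⟩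
  haveI : LocallyOfFiniteType (Curv2.bcSnd k X K) :=
    inferInstanceAs (LocallyOfFiniteType (pullback.snd (X ↘ Spec (CommRingCat.of k)) _))
  letI := Curv2.resAlgebra k X x
  have point : ∀ w : Curv2.bc k X K, Curv2.bcFst k X K w = x → ∃ (p : Spec (CommRingCat.of K) ⟶ Curv2.bc k X K)
      (e : X.residueField x →ₐ[k] K), p ≫ Curv2.bcSnd k X K = 𝟙 _ ∧ p (IsLocalRing.closedPoint K) = w ∧
        p ≫ Curv2.bcFst k X K = Spec.map (CommRingCat.ofHom e.toRingHom) ≫ X.fromSpecResidueField x := by
    intro w hw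
    have hwc : IsClosed ({w} : Set (Curv2.bc k X K)) := NodalLib.closed_over hxc w hw
    let p := pointOfClosedPoint (Curv2.bcSnd k X K) w hwc
    have hp : p ≫ Curv2.bcSnd k X K = 𝟙 _ := pointOfClosedPoint_comp _ _ _
    have hpw : p (IsLocalRing.closedPoint K) = w := pointOfClosedPoint_apply _ _ _ _
    obtain ⟨x', e', he'⟩ : ∃ (x' : X) (e' : X.residueField x' ⟶ CommRingCat.of K),
        Spec.map e' ≫ X.fromSpecResidueField x' = p ≫ Curv2.bcFst k X K :=
      ⟨_, _, (Scheme.SpecToEquivOfField K X).symm_apply_apply (p ≫ Curv2.bcFst k X K)⟩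
    obtain rfl : x' = x := by
      have := congrArg (fun φ : Spec (CommRingCat.of K) ⟶ X => φ (IsLocalRing.closedPoint K)) he'
      simpa [Scheme.fromSpecResidueField_apply, hpw, hw] using this
    have hk : CommRingCat.ofHom (Curv2.resMap k X x') ≫ e' = CommRingCat.ofHom (algebraMap k K) := by
      refine Spec.map_injective ?_
      rw [Spec.map_comp, GeomIrred.spec_resMap, ← Category.assoc, he', Category.assoc,
        show Curv2.bcFst k X K ≫ (X ↘ Spec (CommRingCat.of k)) =
          Curv2.bcSnd k X K ≫ Spec.map (CommRingCat.ofHom (algebraMap k K)) from pullback.condition,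
        ← Category.assoc, hp, Category.id_comp]
    exact ⟨p, { e'.hom with commutes' := fun c => RingHom.congr_fun (congrArg CommRingCat.Hom.hom hk) c },
      hp, hpw, he'.symm⟩
  obtain ⟨p, e₁, hp, hpz, hp1⟩ := point z hz
  obtain ⟨p', e₂, hp', hpz', hp2⟩ := point xb hxb
  let θ : e₁.fieldRange ≃ₐ[k] e₂.fieldRange :=
    (AlgEquiv.ofInjectiveField e₁).symm.trans (AlgEquiv.ofInjectiveField e₂)
  let σ : K ≃ₐ[k] K := θ.liftNormal K
  have hσ : ∀ a, σ (e₁ a) = e₂ a := fun a => by
    have h := θ.liftNormal_commutes K (AlgEquiv.ofInjectiveField e₁ a)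
    exact h.trans (congrArg (fun y => ((AlgEquiv.ofInjectiveField e₂) y : K))
      ((AlgEquiv.ofInjectiveField e₁).symm_apply_apply a))
  obtain ⟨j, hj, hj2, hord⟩ := NodalLib.ordPt_compare k (k' := k) (X := X)
    (by rw [Algebra.algebraMap_self, CommRingCat.ofHom_id, Spec.map_id, Category.comp_id]) σ
  let t : Spec (CommRingCat.of K) ⟶ Spec (CommRingCat.of K) := Spec.map (CommRingCat.ofHom σ.toRingEquiv.toRingHom)
  have hpp : p' ≫ j = t ≫ p := by
    refine pullback.hom_ext ?_ ?_
    · rw [Category.assoc, hj, hp2, Category.assoc, hp1, ← Category.assoc, ← Spec.map_comp]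
      congr 2
      ext a
      exact (hσ a).symm
    · rw [Category.assoc, hj2, ← Category.assoc, hp', Category.id_comp, Category.assoc, hp, Category.comp_id]
  have hjz : j xb = z := by
    rw [← hpz', ← Scheme.Hom.comp_apply, hpp, Scheme.Hom.comp_apply]
    exact (congrArg p (Subsingleton.elim _ _)).trans hpz
  refine (hord xb (NodalLib.closed_over hxc xb hxb)).1 ?_
  rw [hjz]
  exact h

/-- A node is a node after any extension of the ground field, and conversely. -/
theorem isNode_bc_iff (hdim : ∀ Z ∈ irreducibleComponents (X : Type u), topologicalKrullDim Z ≤ 1)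
    (K : Type u) [Field K] [Algebra k K] (y : Curv2.bc k X K) :
    Curv2.IsNode k X (Curv2.bcFst k X K y) ↔ @Curv2.IsNode K _ (Curv2.bc k X K) ⟨Curv2.bcSnd k X K⟩ y := by
  let kb := AlgebraicClosure k
  let Kb := AlgebraicClosure K
  letI : (Curv2.bc k X K).Over (Spec (CommRingCat.of K)) := ⟨Curv2.bcSnd k X K⟩
  haveI : LocallyOfFiniteType (Curv2.bc k X K ↘ Spec (CommRingCat.of K)) :=
    inferInstanceAs (LocallyOfFiniteType (pullback.snd (X ↘ Spec (CommRingCat.of k)) _))
  let Y := Curv2.bc k X K
  let Z := Curv2.bc K Y Kb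
  letI : (Curv2.bc k X kb).Over (Spec (CommRingCat.of kb)) := ⟨Curv2.bcSnd k X kb⟩
  letI : Z.Over (Spec (CommRingCat.of Kb)) := ⟨Curv2.bcSnd K Y Kb⟩
  haveI : LocallyOfFiniteType (Curv2.bc k X kb ↘ Spec (CommRingCat.of kb)) :=
    inferInstanceAs (LocallyOfFiniteType (pullback.snd (X ↘ Spec (CommRingCat.of k)) _))
  let τ : kb →ₐ[k] Kb := IsAlgClosed.lift
  letI : Algebra kb Kb := τ.toRingHom.toAlgebra
  let t : Spec (CommRingCat.of Kb) ⟶ Spec (CommRingCat.of kb) := Spec.map (CommRingCat.ofHom (algebraMap kb Kb))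
  let s : Spec (CommRingCat.of kb) ⟶ Spec (CommRingCat.of k) := Spec.map (CommRingCat.ofHom (algebraMap k kb))
  let sK : Spec (CommRingCat.of Kb) ⟶ Spec (CommRingCat.of K) := Spec.map (CommRingCat.ofHom (algebraMap K Kb))
  let e : Spec (CommRingCat.of K) ⟶ Spec (CommRingCat.of k) := Spec.map (CommRingCat.ofHom (algebraMap k K))
  have hts : t ≫ s = sK ≫ e := by
    rw [← Spec.map_comp, ← Spec.map_comp, ← CommRingCat.ofHom_comp, ← CommRingCat.ofHom_comp]
    congr 2
    exact RingHom.ext fun c => (τ.commutes c).trans (IsScalarTower.algebraMap_apply k K Kb c)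
  let j : Z ⟶ Curv2.bc k X kb := pullback.lift (Curv2.bcFst K Y Kb ≫ Curv2.bcFst k X K) (Curv2.bcSnd K Y Kb ≫ t) (by
    rw [Category.assoc, Category.assoc]
    erw [hts]
    rw [← Category.assoc (Curv2.bcSnd K Y Kb)]
    erw [← pullback.condition]
    rw [Category.assoc]
    exact congrArg (Curv2.bcFst K Y Kb ≫ ·) pullback.condition)
  have hj1 : j ≫ Curv2.bcFst k X kb = Curv2.bcFst K Y Kb ≫ Curv2.bcFst k X K := pullback.lift_fst _ _ _
  have sq : IsPullback j (Z ↘ Spec (CommRingCat.of Kb)) (Curv2.bc k X kb ↘ Spec (CommRingCat.of kb)) t := by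
    refine IsPullback.of_right ?_ (pullback.lift_snd _ _ _) (IsPullback.of_hasPullback _ s)
    rw [hj1, hts]
    exact (IsPullback.of_hasPullback (Curv2.bcSnd k X K) sK).paste_horiz
      (IsPullback.of_hasPullback (X ↘ Spec (CommRingCat.of k)) e)
  have hjapp : ∀ z, Curv2.bcFst k X kb (j z) = Curv2.bcFst k X K (Curv2.bcFst K Y Kb z) := fun z => by
    rw [← Scheme.Hom.comp_apply, hj1, Scheme.Hom.comp_apply]
  constructor
  · intro hx
    have hxc := hx.1
    have hyc : IsClosed ({y} : Set Y) := by
      obtain ⟨z, hz⟩ := surjective_bcFst K Y Kb y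
      refine closure_eq_iff_isClosed.1 (Set.Subset.antisymm (fun y' hy' => ?_) subset_closure)
      haveI : IsIntegralHom (Curv2.bcFst K Y Kb) := by
        haveI : IsIntegralHom sK :=
          IsIntegralHom.SpecMap_iff.2 (algebraMap_isIntegral_iff.2 Algebra.IsAlgebraic.isIntegral)
        exact inferInstanceAs (IsIntegralHom (pullback.fst _ sK))
      obtain ⟨z', hz', hzy⟩ : y' ∈ Curv2.bcFst K Y Kb '' closure {z} :=
        (closure_minimal (s := ({y} : Set Y)) (t := Curv2.bcFst K Y Kb '' closure {z})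
          (Set.singleton_subset_iff.2 ⟨z, subset_closure (Set.mem_singleton z), hz⟩)
          ((Curv2.bcFst K Y Kb).isClosedMap _ isClosed_closure)) hy'
      have hs : j z ⤳ j z' := (specializes_iff_mem_closure.2 hz').map j.continuous
      have hjz : Curv2.bcFst k X kb (j z) = Curv2.bcFst k X K y := by rw [hjapp, hz]
      have hjc : IsClosed ({j z} : Set (Curv2.bc k X kb)) := NodalLib.closed_over hxc (j z) hjz
      have hjj : j z = j z' := (hs.mem_closed hjc rfl).symm
      rw [Set.mem_singleton_iff, ← hzy, ← eq_of_map_eq sq hjc hjj, hz]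
    obtain ⟨z, hz⟩ := surjective_bcFst K Y Kb y
    have hjz : Curv2.bcFst k X kb (j z) = Curv2.bcFst k X K y := by rw [hjapp, hz]
    exact ⟨hyc, z, hz, (ordPt_iff sq z (NodalLib.closed_over hxc (j z) hjz) (NodalLib.closed_over hyc z hz)).1
      (ordPtBc_of_isNode k X _ hx (j z) hjz)⟩
  · rintro ⟨hyc, z, hz, h⟩
    have hjz : Curv2.bcFst k X kb (j z) = Curv2.bcFst k X K y := by rw [hjapp, hz]
    by_cases hxc : IsClosed ({Curv2.bcFst k X K y} : Set X)
    · exact ⟨hxc, j z, hjz,
        (ordPt_iff sq z (NodalLib.closed_over hxc (j z) hjz) (NodalLib.closed_over hyc z hz)).2 h⟩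
    · refine absurd h (not_ordPt_of_maximal sq z fun v' hv' => ?_)
      haveI : IsIntegralHom (Curv2.bcFst k X kb) := by
        haveI : IsIntegralHom s :=
          IsIntegralHom.SpecMap_iff.2 (algebraMap_isIntegral_iff.2 Algebra.IsAlgebraic.isIntegral)
        exact inferInstanceAs (IsIntegralHom (pullback.fst _ s))
      have hs := hv'.map (Curv2.bcFst k X kb).continuous
      rw [hjz] at hs
      exact NormalSch.eq_of_specializes_of_eq (Curv2.bcFst k X kb) hv'
        ((maximal_of_not_closed hdim hxc _ hs).trans hjz.symm)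

/-- An at-worst-nodal curve is smooth at its non-closed points. -/
theorem smooth_nhd_of_not_closed (hdim : ∀ Z ∈ irreducibleComponents (X : Type u), topologicalKrullDim Z ≤ 1)
    (hX : Curv2.AtWorstNodal k X) {x : X} (hx : ¬ IsClosed ({x} : Set X)) :
    ∃ U : X.Opens, x ∈ U ∧ Smooth (U.ι ≫ (X ↘ Spec (CommRingCat.of k))) := by
  haveI : JacobsonSpace X := LocallyOfFiniteType.jacobsonSpace (X ↘ Spec (CommRingCat.of k))
  haveI : LocallyOfFinitePresentation (X ↘ Spec (CommRingCat.of k)) :=
    haveI := LocallyOfFiniteType.isLocallyNoetherian (X ↘ Spec (CommRingCat.of k))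
    LocallyOfFinitePresentation.iff_locallyOfFiniteType.mpr inferInstance
  obtain ⟨c, hc, hcc⟩ := nonempty_inter_closedPoints (Z := closure ({x} : Set X)) (Set.singleton_nonempty x).closure
    isClosed_closure.isLocallyClosed
  have hs : x ⤳ c := specializes_iff_mem_closure.2 hc
  rcases hX c hcc with ⟨U, hU, hsm⟩ | ⟨-, zb, hzb, hord⟩
  · exact ⟨U, hs.mem_open U.2 hU, hsm⟩
  let kb := AlgebraicClosure k
  let Xb := Curv2.bc k X kb
  letI : Xb.Over (Spec (CommRingCat.of kb)) := ⟨Curv2.bcSnd k X kb⟩
  haveI : LocallyOfFiniteType (Curv2.bcSnd k X kb) :=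
    inferInstanceAs (LocallyOfFiniteType (pullback.snd (X ↘ Spec (CommRingCat.of k)) _))
  haveI : LocallyOfFinitePresentation (Curv2.bcSnd k X kb) :=
    inferInstanceAs (LocallyOfFinitePresentation (pullback.snd (X ↘ Spec (CommRingCat.of k)) _))
  haveI := LocallyOfFiniteType.isLocallyNoetherian (Curv2.bcSnd k X kb)
  haveI := stalkMap_ofHom_flat (k := k) (K := kb)
  haveI : Flat (Curv2.bcFst k X kb) := inferInstanceAs (Flat (pullback.fst _ _))
  haveI : IsIntegralHom (Curv2.bcFst k X kb) := by
    haveI : IsIntegralHom (Spec.map (CommRingCat.ofHom (algebraMap k kb))) :=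
      IsIntegralHom.SpecMap_iff.2 (algebraMap_isIntegral_iff.2 Algebra.IsAlgebraic.isIntegral)
    exact inferInstanceAs (IsIntegralHom (pullback.fst _ _))
  obtain ⟨xb, hxb, hxbx⟩ := Flat.generalizingMap (Curv2.bcFst k X kb) (hzb.symm ▸ hs)
  letI := Curv2.stalkAlgebra kb Xb zb
  haveI := isReduced_of_ordDoublePt (K := kb) (A := Xb.presheaf.stalk zb) hord
  haveI : _root_.IsReduced (Xb.presheaf.stalk xb) := by
    letI := (Xb.presheaf.stalkSpecializes hxb).hom.toAlgebra
    haveI := Groth.Agent.S5090.isLocalization_stalkSpecializes hxb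
    exact isReduced_localizationPreserves
      ((maximalIdeal (Xb.presheaf.stalk xb)).comap (Xb.presheaf.stalkSpecializes hxb).hom).primeCompl
      (Xb.presheaf.stalk xb) inferInstance
  haveI : Ring.KrullDimLE 0 (Xb.presheaf.stalk xb) := Ring.krullDimLE_iff.2 (ASp.ringKrullDim_stalk_eq_zero
    fun v hv => NormalSch.eq_of_specializes_of_eq (Curv2.bcFst k X kb) hv
      ((maximal_of_not_closed hdim hx _ (hxbx ▸ hv.map (Curv2.bcFst k X kb).continuous)).trans hxbx.symm)).le
  have hF : IsField (Xb.presheaf.stalk xb) := Ring.KrullDimLE.isField_of_isReduced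
  have h := (PointBC.smooth_nhd_iff (X ↘ Spec (CommRingCat.of k)) (Spec.map (CommRingCat.ofHom (algebraMap k kb))) xb
    (Or.inr inferInstance)).1 ((FlatLocus.exists_smooth_nhd_iff _ _).2
      (formallySmooth_stalkMap_of_isField (Curv2.bcSnd k X kb) hF))
  obtain ⟨U, hU, hsm⟩ := h
  exact ⟨U, hxbx ▸ hU, hsm⟩

end Groth.Agent.NodePtLib
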