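import Groth.Agent.NodePtLib.StalkBC
import Groth.Agent.NodePtLib.Field
import Groth.Agent.FinBirLib.Smooth

/-!
# Nodes by the Jacobian ideal
-/

set_option autoImplicit false
set_option backward.isDefEq.respectTransparency false
set_option linter.style.haveILetI false
set_option linter.unusedSectionVars false

universe u

open CategoryTheory CategoryTheory.Limits AlgebraicGeometry IsLocalRing

noncomputable section

namespace Groth.Agent.NodePtLib

section Algebra

variable {K : Type u} [Field K] {O : Type u} [CommRing O] [IsLocalRing O] [IsNoetherianRing O] [Algebra K O]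

theorem exists_min_gens (K : Type u) [Field K] [Algebra K O] :
    ∃ (n : ℕ) (x : Fin n → O), maximalIdeal O = Ideal.span (Set.range x) ∧
      ∀ c : Fin n → K, ∑ i, algebraMap K O (c i) * x i ∈ maximalIdeal O ^ 2 → c = 0 := by
  classical
  have hP : ∃ n, ∃ x : Fin n → O, maximalIdeal O = Ideal.span (Set.range x) := by
    obtain ⟨n, x, hx⟩ := Submodule.fg_iff_exists_fin_generating_family.1
      (Ideal.fg_of_isNoetherianRing (maximalIdeal O))
    exact ⟨n, x, hx.symm⟩
  obtain ⟨x, hx⟩ := Nat.find_spec hP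
  have hmin : ∀ k < Nat.find hP, ¬ ∃ x : Fin k → O, maximalIdeal O = Ideal.span (Set.range x) :=
    fun k hk => Nat.find_min hP hk
  generalize Nat.find hP = n at x hx hmin
  refine ⟨n, x, hx, fun c hc => ?_⟩
  funext j
  by_contra hj
  obtain ⟨n, rfl⟩ : ∃ n', n = n' + 1 := Nat.exists_eq_succ_of_ne_zero (fun h => by subst h; exact j.elim0)
  have hxm : ∀ i, x i ∈ maximalIdeal O := fun i => hx.ge (Ideal.subset_span ⟨i, rfl⟩)
  refine hmin n (by omega) ⟨x ∘ j.succAbove, span_eq_of_le_sup
    (Ideal.span_le.2 (by rintro _ ⟨i, rfl⟩; exact hxm _)) ?_⟩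
  conv_lhs => rw [hx]
  rw [Ideal.span_le]
  rintro _ ⟨i, rfl⟩
  rcases Fin.eq_self_or_eq_succAbove j i with rfl | ⟨i, rfl⟩
  · have hinv : algebraMap K O (c i)⁻¹ * algebraMap K O (c i) = 1 := by
      rw [← map_mul, inv_mul_cancel₀ hj, map_one]
    rw [Fin.sum_univ_succAbove _ i] at hc
    rw [show x i = -(algebraMap K O (c i)⁻¹ * ∑ l, algebraMap K O (c (i.succAbove l)) * x (i.succAbove l)) +
      algebraMap K O (c i)⁻¹ * (algebraMap K O (c i) * x i +
        ∑ l, algebraMap K O (c (i.succAbove l)) * x (i.succAbove l)) by linear_combination -(x i) * hinv]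
    refine Submodule.add_mem_sup (neg_mem (Ideal.mul_mem_left _ _ (Ideal.sum_mem _ fun l _ =>
      Ideal.mul_mem_left _ _ (Ideal.subset_span ⟨l, rfl⟩)))) ?_
    rw [← pow_two]
    exact Ideal.mul_mem_left _ _ hc
  · exact Submodule.mem_sup_left (Ideal.subset_span ⟨i, rfl⟩)

/-- A trivial Jacobian ideal and a non-zero-divisor give regularity. -/
theorem isRegularLocalRing_of_fitt_top [Algebra.EssFiniteType K O] (hK : Rational K O)
    (hJ : Fitt.ideal O Ω[O⁄K] 1 = ⊤) {t : O} (ht : t ∈ maximalIdeal O) (htd : t ∈ nonZeroDivisors O) :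
    IsRegularLocalRing O := by
  classical
  obtain ⟨n, x, hx, hind⟩ := exists_min_gens (O := O) K
  obtain ⟨g, hg⟩ := FittLib.exists_span_of_ideal_eq_top hJ
  have hn : n ≤ 1 := by
    by_contra hn
    have hxm : ∀ i, x i ∈ maximalIdeal O := fun i => hx.ge (Ideal.subset_span ⟨i, rfl⟩)
    let a : Fin n := ⟨0, by omega⟩
    let b : Fin n := ⟨1, by omega⟩
    obtain ⟨Da, hDa⟩ := exists_coord hK hxm hind a
    obtain ⟨Db, hDb⟩ := exists_coord hK hxm hind b
    have hmem : ∀ i, ∃ r : O, KaehlerDifferential.D K O (x i) = r • g 0 := fun i => by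
      have h : KaehlerDifferential.D K O (x i) ∈ Submodule.span O (Set.range g) := hg ▸ trivial
      rw [Set.range_unique, Submodule.mem_span_singleton] at h
      obtain ⟨r, hr⟩ := h
      exact ⟨r, hr.symm⟩
    obtain ⟨r, hr⟩ := hmem a
    obtain ⟨s, hs⟩ := hmem b
    have happ : ∀ (D : Derivation K O (O ⧸ maximalIdeal O)) (r : O) (i : Fin n),
        KaehlerDifferential.D K O (x i) = r • g 0 → D (x i) = r • D.liftKaehlerDifferential (g 0) := fun D r i h => by
      rw [← Derivation.liftKaehlerDifferential_comp_D D (x i), h, map_smul]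
    have e1 := happ Da r a hr
    have e2 := happ Db r a hr
    have e3 := happ Db s b hs
    rw [hDa, if_pos rfl] at e1
    rw [hDb, if_neg (by simp [a, b, Fin.ext_iff])] at e2
    rw [hDb, if_pos rfl] at e3
    have hru : IsUnit r := by
      by_contra hru
      obtain ⟨y, hy⟩ := Ideal.Quotient.mk_surjective (Da.liftKaehlerDifferential (g 0))
      rw [← hy, Algebra.smul_def, Ideal.Quotient.algebraMap_eq,
        Ideal.Quotient.eq_zero_iff_mem.2 ((mem_maximalIdeal _).2 hru), zero_mul] at e1
      haveI : Nontrivial (O ⧸ maximalIdeal O) :=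
        Ideal.Quotient.nontrivial_iff.2 (maximalIdeal.isMaximal O).ne_top
      exact one_ne_zero e1
    obtain ⟨ε, rfl⟩ := hru
    have h0 : Db.liftKaehlerDifferential (g 0) = 0 := by
      have h := congrArg ((↑ε⁻¹ : O) • ·) e2
      simpa [smul_smul] using h.symm
    rw [h0, smul_zero] at e3
    haveI : Nontrivial (O ⧸ maximalIdeal O) :=
      Ideal.Quotient.nontrivial_iff.2 (maximalIdeal.isMaximal O).ne_top
    exact one_ne_zero e3
  refine IsRegularLocalRing.of_spanFinrank_maximalIdeal_le (R := O) ?_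
  have h1 : (maximalIdeal O).spanFinrank ≤ 1 := by
    rw [hx]
    refine (Submodule.spanFinrank_span_le_ncard_of_finite (Set.finite_range x)).trans ?_
    rw [← Nat.card_coe_set_eq]
    exact (Finite.card_range_le x).trans (by rwa [Nat.card_fin])
  have h2 : (1 : WithBot ℕ∞) ≤ ringKrullDim O := by
    by_contra hcon
    haveI : Ring.KrullDimLE 0 O := Ring.krullDimLE_iff.2 (by
      rw [not_le] at hcon
      generalize ringKrullDim O = d at hcon ⊢
      induction d with
      | bot => exact bot_le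
      | coe d =>
        norm_cast at hcon ⊢
        exact (ENat.lt_one_iff_eq_zero.1 hcon).le)
    obtain ⟨e, he⟩ := Ring.KrullDimLE.isNilpotent_iff_mem_maximalIdeal.2 ht
    exact zero_notMem_nonZeroDivisors (he ▸ pow_mem htd e)
  exact le_trans (by exact_mod_cast h1) h2

end Algebra

section Scheme

attribute [local instance] Curv2.stalkAlgebra

/-- Ordinary double points by the Jacobian ideal. -/
theorem ordPt_iff_fitt {K : Type u} [Field K] [IsAlgClosed K] {V : Scheme.{u}} [V.Over (Spec (CommRingCat.of K))]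
    [LocallyOfFiniteType (V ↘ Spec (CommRingCat.of K))] {v : V} (hv : IsClosed ({v} : Set V)) :
    OrdPt K V v ↔ Fitt.ideal (V.presheaf.stalk v) Ω[V.presheaf.stalk v⁄K] 1 = maximalIdeal (V.presheaf.stalk v) ∧
      ∃ t ∈ maximalIdeal (V.presheaf.stalk v), t ∈ nonZeroDivisors (V.presheaf.stalk v) := by
  haveI := LocallyOfFiniteType.isLocallyNoetherian (V ↘ Spec (CommRingCat.of K))
  haveI := essFiniteType_stalk (k := K) v
  exact isOrdDoublePt_iff_fitt (rational_stalk (K := K) hv)

variable (k : Type u) [Field k] (X : Scheme.{u}) [X.Over (Spec (CommRingCat.of k))]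

/-- The Jacobian ideal of a local ring. -/
def jac (x : X) : Ideal (X.presheaf.stalk x) := Fitt.ideal (X.presheaf.stalk x) Ω[X.presheaf.stalk x⁄k] 1

variable [LocallyOfFiniteType (X ↘ Spec (CommRingCat.of k))]

local notation "kb" => AlgebraicClosure k

theorem flat_bcFst (K : Type u) [Field K] [Algebra k K] : Flat (Curv2.bcFst k X K) :=
  haveI := stalkMap_ofHom_flat (k := k) (K := K)
  inferInstanceAs (Flat (pullback.fst _ _))

theorem jac_bc (K : Type u) [Field K] [Algebra k K] (z : Curv2.bc k X K) :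
    @jac K _ (Curv2.bc k X K) ⟨Curv2.bcSnd k X K⟩ z =
      (jac k X (Curv2.bcFst k X K z)).map ((Curv2.bcFst k X K).stalkMap z).hom :=
  fitt_stalk_bc K z 1

theorem map_maximal_le (K : Type u) [Field K] [Algebra k K] (z : Curv2.bc k X K) :
    (maximalIdeal (X.presheaf.stalk (Curv2.bcFst k X K z))).map ((Curv2.bcFst k X K).stalkMap z).hom ≤
      maximalIdeal ((Curv2.bc k X K).presheaf.stalk z) :=
  (((local_hom_TFAE ((Curv2.bcFst k X K).stalkMap z).hom).out 0 2).1
    ((Curv2.bcFst k X K).toLRSHom.prop z))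

theorem comap_map_stalk (K : Type u) [Field K] [Algebra k K] (z : Curv2.bc k X K)
    (I : Ideal (X.presheaf.stalk (Curv2.bcFst k X K z))) :
    (I.map ((Curv2.bcFst k X K).stalkMap z).hom).comap ((Curv2.bcFst k X K).stalkMap z).hom = I := by
  haveI := flat_bcFst k X K
  algebraize [((Curv2.bcFst k X K).stalkMap z).hom]
  haveI : IsLocalHom (algebraMap (X.presheaf.stalk (Curv2.bcFst k X K z)) ((Curv2.bc k X K).presheaf.stalk z)) :=
    (Curv2.bcFst k X K).toLRSHom.prop z
  haveI : Module.Flat (X.presheaf.stalk (Curv2.bcFst k X K z)) ((Curv2.bc k X K).presheaf.stalk z) :=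
    Flat.stalkMap (Curv2.bcFst k X K) z
  haveI : Module.FaithfullyFlat (X.presheaf.stalk (Curv2.bcFst k X K z)) ((Curv2.bc k X K).presheaf.stalk z) :=
    Module.FaithfullyFlat.of_flat_of_isLocalHom
  exact Ideal.comap_map_eq_self_of_faithfullyFlat I

theorem nzd_map (K : Type u) [Field K] [Algebra k K] (z : Curv2.bc k X K)
    {t : X.presheaf.stalk (Curv2.bcFst k X K z)} (ht : t ∈ nonZeroDivisors _) :
    ((Curv2.bcFst k X K).stalkMap z).hom t ∈ nonZeroDivisors ((Curv2.bc k X K).presheaf.stalk z) := by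
  haveI := flat_bcFst k X K
  algebraize [((Curv2.bcFst k X K).stalkMap z).hom]
  haveI : Module.Flat (X.presheaf.stalk (Curv2.bcFst k X K z)) ((Curv2.bc k X K).presheaf.stalk z) :=
    Flat.stalkMap (Curv2.bcFst k X K) z
  rw [mem_nonZeroDivisors_iff_right]
  intro c hc
  have h : Function.Injective (LinearMap.lsmul (X.presheaf.stalk (Curv2.bcFst k X K z))
      (X.presheaf.stalk (Curv2.bcFst k X K z)) t) := fun a b e =>
    (mul_cancel_left_mem_nonZeroDivisors ht).1 e
  have h' := Module.Flat.lTensor_preserves_injective_linearMap (M := (Curv2.bc k X K).presheaf.stalk z) _ h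
  have e : TensorProduct.rid (X.presheaf.stalk (Curv2.bcFst k X K z)) ((Curv2.bc k X K).presheaf.stalk z)
      (LinearMap.lTensor ((Curv2.bc k X K).presheaf.stalk z) (LinearMap.lsmul _ _ t) (c ⊗ₜ 1)) = 0 := by
    rw [LinearMap.lTensor_tmul, TensorProduct.rid_tmul, LinearMap.lsmul_apply, smul_eq_mul, mul_one,
      Algebra.smul_def, mul_comm]
    exact hc
  have h0 : (c ⊗ₜ[X.presheaf.stalk (Curv2.bcFst k X K z)] (1 : X.presheaf.stalk (Curv2.bcFst k X K z))) = 0 :=
    h' (by rw [map_zero]; exact (TensorProduct.rid _ _).injective (by rw [e, map_zero]))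
  have := congrArg (TensorProduct.rid _ _) h0
  rwa [TensorProduct.rid_tmul, one_smul, map_zero] at this

variable {k X}

/-- At a node the Jacobian ideal generates the geometric maximal ideal. -/
theorem jac_map_of_isNode {z : Curv2.bc k X kb} (hx : Curv2.IsNode k X (Curv2.bcFst k X kb z)) :
    (jac k X (Curv2.bcFst k X kb z)).map ((Curv2.bcFst k X kb).stalkMap z).hom =
      maximalIdeal ((Curv2.bc k X kb).presheaf.stalk z) := by
  letI : (Curv2.bc k X kb).Over (Spec (CommRingCat.of kb)) := ⟨Curv2.bcSnd k X kb⟩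
  haveI : LocallyOfFiniteType (Curv2.bc k X kb ↘ Spec (CommRingCat.of kb)) :=
    inferInstanceAs (LocallyOfFiniteType (pullback.snd (X ↘ Spec (CommRingCat.of k)) _))
  rw [← jac_bc]
  exact ((ordPt_iff_fitt (NodalLib.closed_over hx.1 z rfl)).1 (ordPtBc_of_isNode k X _ hx z rfl)).1

/-- At a node the maximal ideal generates the geometric maximal ideal. -/
theorem map_maximal_of_isNode {z : Curv2.bc k X kb} (hx : Curv2.IsNode k X (Curv2.bcFst k X kb z)) :
    (maximalIdeal (X.presheaf.stalk (Curv2.bcFst k X kb z))).map ((Curv2.bcFst k X kb).stalkMap z).hom =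
      maximalIdeal ((Curv2.bc k X kb).presheaf.stalk z) := by
  refine le_antisymm (map_maximal_le k X kb z) ?_
  rw [← jac_map_of_isNode hx]
  refine Ideal.map_mono (IsLocalRing.le_maximalIdeal fun h => ?_)
  have := jac_map_of_isNode hx
  rw [h, Ideal.map_top] at this
  exact (maximalIdeal.isMaximal _).ne_top this.symm

/-- At a node the Jacobian ideal is the maximal ideal. -/
theorem jac_eq_maximal_of_isNode {z : Curv2.bc k X kb} (hx : Curv2.IsNode k X (Curv2.bcFst k X kb z)) :
    jac k X (Curv2.bcFst k X kb z) = maximalIdeal _ := by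
  rw [← comap_map_stalk k X kb z (jac k X _), jac_map_of_isNode hx, ← map_maximal_of_isNode hx, comap_map_stalk]

/-- A node has a non-zero-divisor in its maximal ideal. -/
theorem exists_nzd_of_isNode {z : Curv2.bc k X kb} (hx : Curv2.IsNode k X (Curv2.bcFst k X kb z)) :
    ∃ t ∈ maximalIdeal (X.presheaf.stalk (Curv2.bcFst k X kb z)), t ∈ nonZeroDivisors _ := by
  classical
  haveI := LocallyOfFiniteType.isLocallyNoetherian (X ↘ Spec (CommRingCat.of k))
  letI : (Curv2.bc k X kb).Over (Spec (CommRingCat.of kb)) := ⟨Curv2.bcSnd k X kb⟩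
  haveI : LocallyOfFiniteType (Curv2.bc k X kb ↘ Spec (CommRingCat.of kb)) :=
    inferInstanceAs (LocallyOfFiniteType (pullback.snd (X ↘ Spec (CommRingCat.of k)) _))
  obtain ⟨-, t', ht', htd'⟩ := (ordPt_iff_fitt (NodalLib.closed_over hx.1 z rfl)).1 (ordPtBc_of_isNode k X _ hx z rfl)
  haveI := flat_bcFst k X kb
  let A := X.presheaf.stalk (Curv2.bcFst k X kb z)
  by_contra! hcon
  have hsub : (maximalIdeal A : Set A) ⊆ ⋃ p ∈ associatedPrimes A A, (p : Set A) := fun a ha => by
    rw [biUnion_associatedPrimes_eq_compl_nonZeroDivisors A]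
    exact hcon a ha
  obtain ⟨p, hp, hle⟩ := (Ideal.subset_union_prime_finite (associatedPrimes.finite A A) (maximalIdeal A) (maximalIdeal A)
    (fun p hp _ _ => hp.isPrime)).1 hsub
  obtain ⟨hprime, c, hc⟩ := hp
  have hc0 : c ≠ 0 := fun h => hprime.ne_top (by
    rw [hc, h, Ideal.eq_top_iff_one]
    exact Ideal.le_radical (Submodule.mem_colon_singleton.2 (by simp)))
  have hp' : p = maximalIdeal A := ((maximalIdeal.isMaximal A).eq_of_le hprime.ne_top hle).symm
  obtain ⟨e, he⟩ := Ideal.exists_pow_le_of_le_radical_of_fg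
    (show maximalIdeal A ≤ ((⊥ : Submodule A A).colon {c}).radical by rw [← hp', hc])
    (Ideal.fg_of_isNoetherianRing _)
  have hz : ∀ a ∈ maximalIdeal A ^ e, a * c = 0 := fun a ha => by
    simpa [Submodule.mem_colon_singleton] using he ha
  have ht2 : t' ^ e * ((Curv2.bcFst k X kb).stalkMap z).hom c = 0 := by
    have hmem : t' ^ e ∈ ((maximalIdeal A) ^ e).map ((Curv2.bcFst k X kb).stalkMap z).hom := by
      rw [Ideal.map_pow]
      exact Ideal.pow_mem_pow ((map_maximal_of_isNode hx).ge ht') e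
    revert hmem
    generalize t' ^ e = y
    intro hmem
    induction hmem using Submodule.span_induction with
    | mem w hw => obtain ⟨a, ha, rfl⟩ := hw; rw [← map_mul, hz a ha, map_zero]
    | zero => rw [zero_mul]
    | add w w' _ _ h h' => rw [add_mul, h, h', add_zero]
    | smul r w _ h => rw [smul_eq_mul, mul_assoc, h, mul_zero]
  rw [mul_comm, mul_right_mem_nonZeroDivisors_eq_zero_iff (pow_mem htd' e)] at ht2
  exact hc0 (ASp.injective_stalkMap_of_flat (Curv2.bcFst k X kb) z (ht2.trans (map_zero _).symm))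

/-- A node from the Jacobian ideal. -/
theorem isNode_of_jac {z : Curv2.bc k X kb} (hc : IsClosed ({Curv2.bcFst k X kb z} : Set X))
    (hJ : (jac k X (Curv2.bcFst k X kb z)).map ((Curv2.bcFst k X kb).stalkMap z).hom =
      maximalIdeal ((Curv2.bc k X kb).presheaf.stalk z))
    {t : X.presheaf.stalk (Curv2.bcFst k X kb z)} (ht : t ∈ maximalIdeal _) (htd : t ∈ nonZeroDivisors _) :
    Curv2.IsNode k X (Curv2.bcFst k X kb z) := by
  letI : (Curv2.bc k X kb).Over (Spec (CommRingCat.of kb)) := ⟨Curv2.bcSnd k X kb⟩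
  haveI : LocallyOfFiniteType (Curv2.bc k X kb ↘ Spec (CommRingCat.of kb)) :=
    inferInstanceAs (LocallyOfFiniteType (pullback.snd (X ↘ Spec (CommRingCat.of k)) _))
  refine ⟨hc, z, rfl, (ordPt_iff_fitt (NodalLib.closed_over hc z rfl)).2 ⟨(jac_bc k X kb z).trans hJ,
    _, map_maximal_le k X kb z (Ideal.mem_map_of_mem _ ht), nzd_map k X kb z htd⟩⟩

/-- A trivial Jacobian ideal gives a smooth point. -/
theorem smooth_of_jac_top {z : Curv2.bc k X kb} (hc : IsClosed ({Curv2.bcFst k X kb z} : Set X))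
    (hJ : jac k X (Curv2.bcFst k X kb z) = ⊤)
    {t : X.presheaf.stalk (Curv2.bcFst k X kb z)} (ht : t ∈ maximalIdeal _) (htd : t ∈ nonZeroDivisors _) :
    ∃ U : X.Opens, Curv2.bcFst k X kb z ∈ U ∧ Smooth (U.ι ≫ (X ↘ Spec (CommRingCat.of k))) := by
  haveI := LocallyOfFiniteType.isLocallyNoetherian (X ↘ Spec (CommRingCat.of k))
  haveI : LocallyOfFinitePresentation (X ↘ Spec (CommRingCat.of k)) :=
    LocallyOfFinitePresentation.iff_locallyOfFiniteType.mpr inferInstance
  letI : (Curv2.bc k X kb).Over (Spec (CommRingCat.of kb)) := ⟨Curv2.bcSnd k X kb⟩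
  haveI : LocallyOfFiniteType (Curv2.bc k X kb ↘ Spec (CommRingCat.of kb)) :=
    inferInstanceAs (LocallyOfFiniteType (pullback.snd (X ↘ Spec (CommRingCat.of k)) _))
  haveI := LocallyOfFiniteType.isLocallyNoetherian (Curv2.bc k X kb ↘ Spec (CommRingCat.of kb))
  haveI : LocallyOfFinitePresentation (Curv2.bcSnd k X kb) :=
    inferInstanceAs (LocallyOfFinitePresentation (pullback.snd (X ↘ Spec (CommRingCat.of k)) _))
  have hzc := NodalLib.closed_over hc z rfl
  haveI := essFiniteType_stalk (k := kb) z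
  haveI : IsRegularLocalRing ((Curv2.bc k X kb).presheaf.stalk z) :=
    isRegularLocalRing_of_fitt_top (rational_stalk (K := kb) hzc)
      ((jac_bc k X kb z).trans (by rw [hJ, Ideal.map_top]))
      (map_maximal_le k X kb z (Ideal.mem_map_of_mem _ ht)) (nzd_map k X kb z htd)
  exact (PointBC.smooth_nhd_iff (X ↘ Spec (CommRingCat.of k)) _ z (Or.inr stalkMap_ofHom_flat)).1
    ((FlatLocus.exists_smooth_nhd_iff _ _).2
      (FinBirLib.mem_smoothLocus_of_regular_algClosed (Curv2.bcSnd k X kb) z hzc))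

end Scheme

end Groth.Agent.NodePtLib
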