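import Groth.Agent.NodePtLib.QuadBC
import Groth.Agent.NodePtLib.NodeFitt
import Mathlib.RingTheory.Unramified.Field
import Mathlib.Algebra.TrivSqZeroExt.Basic

/-!
# Nodes and quadratic points
-/

set_option autoImplicit false
set_option backward.isDefEq.respectTransparency false
set_option linter.unusedSectionVars false
set_option linter.style.haveILetI false

universe u

open CategoryTheory CategoryTheory.Limits AlgebraicGeometry IsLocalRing TensorProduct

noncomputable section

namespace Groth.Agent.NodePtLib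

attribute [local instance] Curv2.stalkAlgebra

variable {k : Type u} [Field k] {X : Scheme.{u}} [X.Over (Spec (CommRingCat.of k))]

/-- The local ring of a point of a base change is a localisation of the tensor product. -/
theorem exists_localization_stalk_bc (K : Type u) [Field K] [Algebra k K] (z : Curv2.bc k X K) :
    letI : (Curv2.bc k X K).Over (Spec (CommRingCat.of K)) := ⟨Curv2.bcSnd k X K⟩
    ∃ (ψ : X.presheaf.stalk (Curv2.bcFst k X K z) ⊗[k] K →+* (Curv2.bc k X K).presheaf.stalk z)
      (M : Submonoid (X.presheaf.stalk (Curv2.bcFst k X K z) ⊗[k] K)),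
      (letI := ψ.toAlgebra; IsLocalization M ((Curv2.bc k X K).presheaf.stalk z)) ∧
      ∀ a c, ψ (a ⊗ₜ c) = ((Curv2.bcFst k X K).stalkMap z).hom a *
        algebraMap K ((Curv2.bc k X K).presheaf.stalk z) c := by
  letI : (Curv2.bc k X K).Over (Spec (CommRingCat.of K)) := ⟨Curv2.bcSnd k X K⟩
  let x := Curv2.bcFst k X K z
  let A := X.presheaf.stalk x
  let L := (Curv2.bc k X K).presheaf.stalk z
  let φ : A →+* L := ((Curv2.bcFst k X K).stalkMap z).hom
  let T := A ⊗[k] K
  have hkφ : φ.comp (algebraMap k A) = (algebraMap K L).comp (algebraMap k K) := by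
    refine RingHom.ext fun c => ?_
    show (Curv2.bcFst k X K).stalkMap z (X.presheaf.germ ⊤ x trivial
        ((X ↘ Spec (CommRingCat.of k)).appTop ((Scheme.ΓSpecIso (CommRingCat.of k)).inv c))) =
      (Curv2.bc k X K).presheaf.germ ⊤ z trivial ((Curv2.bcSnd k X K).appTop
        ((Scheme.ΓSpecIso (CommRingCat.of K)).inv (algebraMap k K c)))
    rw [Scheme.Hom.germ_stalkMap_apply]
    refine congrArg ((Curv2.bc k X K).presheaf.germ ⊤ z trivial) ?_
    have hn : (Scheme.ΓSpecIso (CommRingCat.of K)).inv (algebraMap k K c) =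
        (Spec.map (CommRingCat.ofHom (algebraMap k K))).appTop ((Scheme.ΓSpecIso (CommRingCat.of k)).inv c) :=
      congrArg (fun g => g c) (Scheme.ΓSpecIso_inv_naturality (CommRingCat.ofHom (algebraMap k K)))
    rw [hn]
    have hsq := congrArg (fun g => g.appTop ((Scheme.ΓSpecIso (CommRingCat.of k)).inv c))
      (pullback.condition : Curv2.bcFst k X K ≫ (X ↘ Spec (CommRingCat.of k)) =
        Curv2.bcSnd k X K ≫ Spec.map (CommRingCat.ofHom (algebraMap k K)))
    simpa using hsq
  letI : Algebra k L := ((algebraMap K L).comp (algebraMap k K)).toAlgebra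
  haveI : IsScalarTower k K L := IsScalarTower.of_algebraMap_eq fun c => rfl
  let φ' : A →ₐ[k] L := { φ with commutes' := fun c => RingHom.congr_fun hkφ c }
  let ψ : T →ₐ[k] L := Algebra.TensorProduct.lift φ' (IsScalarTower.toAlgHom k K L) fun a b => Commute.all _ _
  have hψl : ∀ a : A, ψ (a ⊗ₜ (1 : K)) = φ a := fun a =>
    (Algebra.TensorProduct.lift_tmul φ' (IsScalarTower.toAlgHom k K L) _ a 1).trans (by rw [map_one, mul_one]; rfl)
  have hψr : ∀ c : K, ψ ((1 : A) ⊗ₜ c) = algebraMap K L c := fun c =>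
    (Algebra.TensorProduct.lift_tmul φ' (IsScalarTower.toAlgHom k K L) _ 1 c).trans (by rw [map_one, one_mul]; rfl)
  letI : Algebra T L := ψ.toRingHom.toAlgebra
  obtain ⟨p, hp, -⟩ := Scheme.exists_preimage_of_isPullback (GeomRedPtLib.isPullback_tensorPt (k := k) K x) z
    (closedPoint A) (Scheme.fromSpecStalk_closedPoint).symm
  have hfac : Spec.map (CommRingCat.ofHom ψ.toRingHom) ≫ GeomRedPtLib.tensorPt k X K x =
      (Curv2.bc k X K).fromSpecStalk z := by
    refine pullback.hom_ext ?_ ?_
    · rw [Category.assoc]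
      erw [pullback.lift_fst]
      rw [← Category.assoc, ← Spec.map_comp]
      refine Eq.trans ?_ (Scheme.SpecMap_stalkMap_fromSpecStalk (f := Curv2.bcFst k X K) (x := z))
      congr 2
      ext a
      exact hψl a
    · rw [Category.assoc]
      erw [pullback.lift_snd]
      rw [← Spec.map_comp]
      refine Eq.trans ?_ (GeomRedPtLib.fromSpecStalk_over (k := K) (X := Curv2.bc k X K) z).symm
      congr 1
      ext a
      exact hψr a
  haveI : IsIso ((GeomRedPtLib.tensorPt k X K x).stalkMap p) := by
    let t := GeomRedPtLib.tensorPt k X K x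
    refine (ConcreteCategory.isIso_iff_bijective _).2 ⟨?_, t.stalkMap_surjective p⟩
    exact ASp.injective_stalkMap_of_flat t p
  haveI : Mono (GeomRedPtLib.tensorPt k X K x) := inferInstance
  let θ := (Curv2.bc k X K).presheaf.stalkCongr (.of_eq hp :
    Inseparable (GeomRedPtLib.tensorPt k X K x p) z)
  have hθ : Spec.map θ.hom ≫ (Curv2.bc k X K).fromSpecStalk (GeomRedPtLib.tensorPt k X K x p) =
      (Curv2.bc k X K).fromSpecStalk z := Scheme.SpecMap_stalkSpecializes_fromSpecStalk (specializes_of_eq hp.symm)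
  have hψ : CommRingCat.ofHom ψ.toRingHom =
      StructureSheaf.toStalk (CommRingCat.of T) p ≫ inv ((GeomRedPtLib.tensorPt k X K x).stalkMap p) ≫ θ.hom := by
    refine Spec.map_injective ?_
    rw [← cancel_mono (GeomRedPtLib.tensorPt k X K x), hfac, Spec.map_comp, Spec.map_comp, Category.assoc,
      Category.assoc, ← hθ]
    have h := Scheme.SpecMap_stalkMap_fromSpecStalk (f := GeomRedPtLib.tensorPt k X K x) (x := p)
    rw [Spec.fromSpecStalk_eq'] at h
    congr 1
    rw [← h, ← Category.assoc, ← Spec.map_comp, IsIso.hom_inv_id, Spec.map_id, Category.id_comp]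
  letI : Algebra T ((Spec (CommRingCat.of T)).presheaf.stalk p) := StructureSheaf.stalkAlgebra _ p
  haveI : IsLocalization p.asIdeal.primeCompl ((Spec (CommRingCat.of T)).presheaf.stalk p) :=
    StructureSheaf.IsLocalization.to_stalk (CommRingCat.of T) p
  let σ : (Spec (CommRingCat.of T)).presheaf.stalk p ≃ₐ[T] L :=
    { ((asIso ((GeomRedPtLib.tensorPt k X K x).stalkMap p)).symm ≪≫ θ).commRingCatIsoToRingEquiv with
      commutes' := fun a => (congrArg (fun g => g.hom a) hψ).symm }
  exact ⟨ψ.toRingHom, p.asIdeal.primeCompl, IsLocalization.isLocalization_of_algEquiv _ σ, fun a c =>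
    (Algebra.TensorProduct.lift_tmul φ' (IsScalarTower.toAlgHom k K L) _ a c).trans rfl⟩

section Alg

variable {K A B : Type u} [Field K] [Algebra k K] [CommRing A] [IsLocalRing A] [Algebra k A] [CommRing B]
  [IsLocalRing B] [Algebra K B]

theorem map_maximal_eq_of_separable (φ : A →+* B) (hφ : IsLocalHom φ) (ψ : A ⊗[k] K →+* B)
    (M : Submonoid (A ⊗[k] K)) (hloc : letI := ψ.toAlgebra; IsLocalization M B)
    (hψ : ∀ a c, ψ (a ⊗ₜ c) = φ a * algebraMap K B c) [Module.Finite k (ResidueField A)]
    [Algebra.IsSeparable k (ResidueField A)] : (maximalIdeal A).map φ = maximalIdeal B := by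
  classical
  haveI := hφ
  letI := ψ.toAlgebra
  haveI := hloc
  let I := (maximalIdeal A).map φ
  have hI : I ≤ maximalIdeal B := ((local_hom_TFAE φ).out 0 2).1 hφ
  refine le_antisymm hI fun l hl => ?_
  obtain ⟨⟨t, s⟩, hts⟩ := IsLocalization.surj (M := M) (S := B) l
  haveI : Algebra.FormallyUnramified k (ResidueField A) := Algebra.FormallyUnramified.of_isSeparable k _
  let R := K ⊗[k] ResidueField A
  haveI : Module.Finite K R := inferInstance
  haveI : IsArtinianRing R := IsArtinianRing.of_finite K R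
  haveI : _root_.IsReduced R := Algebra.FormallyUnramified.isReduced_of_field K R
  let χ : A ⊗[k] K →ₐ[k] R := Algebra.TensorProduct.lift
    ((Algebra.TensorProduct.includeRight : ResidueField A →ₐ[k] R).comp (IsScalarTower.toAlgHom k A (ResidueField A)))
    Algebra.TensorProduct.includeLeft fun _ _ => Commute.all _ _
  let ρ₀ : ResidueField A →+* B ⧸ I := Ideal.quotientMap I φ Ideal.le_comap_map
  have hk : ∀ c : k, φ (algebraMap k A c) = algebraMap K B (algebraMap k K c) := fun c => by
    have h1 := hψ (algebraMap k A c) 1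
    have h2 := hψ 1 (algebraMap k K c)
    rw [map_one, mul_one] at h1
    rw [map_one, one_mul] at h2
    rw [← h1, ← h2, Algebra.algebraMap_eq_smul_one, Algebra.algebraMap_eq_smul_one, TensorProduct.smul_tmul]
  letI : Algebra k (B ⧸ I) := ((algebraMap K (B ⧸ I)).comp (algebraMap k K)).toAlgebra
  let ρ₁ : ResidueField A →ₐ[k] B ⧸ I := { ρ₀ with commutes' := fun c => congrArg (Ideal.Quotient.mk I) (hk c) }
  let ρ₂ : K →ₐ[k] B ⧸ I := { algebraMap K (B ⧸ I) with commutes' := fun _ => rfl }
  let ρ : R →ₐ[k] B ⧸ I := Algebra.TensorProduct.lift ρ₂ ρ₁ fun _ _ => Commute.all _ _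
  have hcomm : ∀ w, ρ (χ w) = Ideal.Quotient.mk I (ψ w) := fun w => by
    induction w using TensorProduct.induction_on with
    | zero => simp
    | tmul a c =>
      have h1 : χ (a ⊗ₜ c) = c ⊗ₜ residue A a := by
        rw [show χ (a ⊗ₜ c) = ((1 : K) ⊗ₜ residue A a) * (c ⊗ₜ (1 : ResidueField A)) from
          Algebra.TensorProduct.lift_tmul _ _ _ a c, Algebra.TensorProduct.tmul_mul_tmul, one_mul, mul_one]
      rw [h1, show ρ (c ⊗ₜ residue A a) = ρ₂ c * ρ₁ (residue A a) from Algebra.TensorProduct.lift_tmul _ _ _ c _, hψ,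
        map_mul, mul_comm]
      rfl
    | add w w' h h' => simp only [map_add, h, h']
  obtain ⟨n, y, hy⟩ := IsArtinian.exists_pow_succ_smul_dvd (χ t) (1 : R)
  simp only [smul_eq_mul, mul_one] at hy
  have hreg : χ t * (1 - χ t * y) = 0 := eq_zero_of_pow_eq_zero (n := n + 1) (by
    rw [show (χ t * (1 - χ t * y)) ^ (n + 1) = χ t * (1 - χ t * y) ^ n * (χ t ^ n - χ t ^ n.succ * y) by
      rw [Nat.succ_eq_add_one, pow_succ (χ t) n, mul_pow, pow_succ (1 - χ t * y) n]; ring, hy, sub_self, mul_zero])
  have h := congrArg ρ hreg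
  rw [map_mul, map_sub, map_one, map_mul, map_zero, hcomm] at h
  obtain ⟨y', hy'⟩ := Ideal.Quotient.mk_surjective (ρ y)
  rw [← hy', ← map_mul, ← map_one (Ideal.Quotient.mk I), ← map_sub, ← map_mul, Ideal.Quotient.eq_zero_iff_mem] at h
  have ht : ψ t ∈ maximalIdeal B := by
    rw [show ψ t = l * algebraMap (A ⊗[k] K) B s from hts.symm]
    exact Ideal.mul_mem_right _ _ hl
  obtain ⟨e, he⟩ := notMem_maximalIdeal.1 (fun hm : 1 - ψ t * y' ∈ maximalIdeal B => (mem_maximalIdeal _).1 (by
    rw [show (1 : B) = 1 - ψ t * y' + ψ t * y' by ring]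
    exact add_mem hm (Ideal.mul_mem_right _ _ ht)) isUnit_one)
  have ht' : ψ t ∈ I := by
    rw [show ψ t = ψ t * (1 - ψ t * y') * (↑e⁻¹ : B) by rw [← he, mul_assoc, e.mul_inv, mul_one]]
    exact Ideal.mul_mem_right _ _ h
  obtain ⟨e', he'⟩ := IsLocalization.map_units B s
  rw [show l = ψ t * (↑e'⁻¹ : B) by
    rw [show ψ t = l * algebraMap (A ⊗[k] K) B s from hts.symm, ← he', mul_assoc, e'.mul_inv, mul_one]]
  exact Ideal.mul_mem_right _ _ ht'

theorem isSeparable_of_map_maximal_eq (φ : A →+* B) (hφ : IsLocalHom φ) (ψ : A ⊗[k] K →+* B)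
    (M : Submonoid (A ⊗[k] K)) (hloc : letI := ψ.toAlgebra; IsLocalization M B)
    (hψ : ∀ a c, ψ (a ⊗ₜ c) = φ a * algebraMap K B c) (hB : Rational K B)
    (hm : (maximalIdeal A).map φ = maximalIdeal B) [Algebra.EssFiniteType k (ResidueField A)] :
    Algebra.IsSeparable k (ResidueField A) := by
  classical
  haveI := hφ
  letI := ψ.toAlgebra
  haveI := hloc
  let κ := ResidueField A
  let L := ResidueField B
  let ι : κ →+* L := ResidueField.map φ
  letI : Algebra k L := ((algebraMap K L).comp (algebraMap k K)).toAlgebra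
  have hk : ∀ c : k, residue B (φ (algebraMap k A c)) = algebraMap k L c := fun c => by
    have h1 := hψ (algebraMap k A c) 1
    have h2 := hψ 1 (algebraMap k K c)
    rw [map_one, mul_one] at h1
    rw [map_one, one_mul] at h2
    rw [← h1, Algebra.algebraMap_eq_smul_one c, TensorProduct.smul_tmul, ← Algebra.algebraMap_eq_smul_one, h2]
    rfl
  refine (Algebra.FormallyUnramified.iff_isSeparable (K := k) κ).1 ⟨?_⟩
  have hd : ∀ c : κ, KaehlerDifferential.D k κ c = 0 := by
    intro c
    rw [← Module.forall_dual_apply_eq_zero_iff κ]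
    intro ℓ
    let D : Derivation k κ κ := ℓ.compDer (KaehlerDifferential.D k κ)
    show D c = 0
    let F : A →ₐ[k] TrivSqZeroExt L L :=
      { toFun := fun a => TrivSqZeroExt.inl (residue B (φ a)) + TrivSqZeroExt.inr (ι (D (residue A a)))
        map_one' := by simp
        map_mul' := fun a b => by
          refine TrivSqZeroExt.ext ?_ ?_
          · simp
          · simp only [map_mul, Derivation.leibniz, smul_eq_mul, map_add, TrivSqZeroExt.snd_add,
              TrivSqZeroExt.snd_inl, TrivSqZeroExt.snd_inr, zero_add, TrivSqZeroExt.snd_mul, TrivSqZeroExt.fst_add,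
              TrivSqZeroExt.fst_inl, TrivSqZeroExt.fst_inr, add_zero, MulOpposite.smul_eq_mul_unop,
              MulOpposite.unop_op]
            have e : ∀ a : A, (ResidueField.map φ) (residue A a) = residue B (φ a) := fun _ => rfl
            simp only [ι, e]
            exact congrArg₂ (· + ·) rfl (mul_comm _ _)
        map_zero' := by simp
        map_add' := fun a b => by
          refine TrivSqZeroExt.ext ?_ ?_
          · show residue B (φ (a + b)) + 0 = residue B (φ a) + 0 + (residue B (φ b) + 0)
            rw [map_add, map_add]; ring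
          · show 0 + ι (D (residue A (a + b))) = 0 + ι (D (residue A a)) + (0 + ι (D (residue A b)))
            rw [map_add, map_add, map_add]; ring
        commutes' := fun t => by
          refine TrivSqZeroExt.ext ?_ ?_
          · simp [TrivSqZeroExt.algebraMap_eq_inl', hk]
          · have : D (residue A (algebraMap k A t)) = 0 := D.map_algebraMap t
            simp [TrivSqZeroExt.algebraMap_eq_inl', this] }
    let G : K →ₐ[k] TrivSqZeroExt L L :=
      { (TrivSqZeroExt.inlHom L L).comp (algebraMap K L) with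
        commutes' := fun t => by simp [TrivSqZeroExt.algebraMap_eq_inl']; rfl }
    let Φ : A ⊗[k] K →ₐ[k] TrivSqZeroExt L L := Algebra.TensorProduct.lift F G fun _ _ => Commute.all _ _
    have hfst : ∀ w, (Φ w).fst = residue B (ψ w) := fun w => by
      induction w using TensorProduct.induction_on with
      | zero => simp
      | tmul a t => simp [Φ, F, G, hψ]; exact Or.inl rfl
      | add w w' h h' => simp only [map_add, TrivSqZeroExt.fst_add, h, h']
    have hu : ∀ s : M, IsUnit (Φ.toRingHom s) := fun s => by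
      rw [TrivSqZeroExt.isUnit_iff_isUnit_fst]
      exact (hfst (s : A ⊗[k] K)).symm ▸ (IsLocalization.map_units B s).map (residue B)
    let Θ : B →+* TrivSqZeroExt L L := IsLocalization.lift hu
    have hΘ : ∀ w, Θ (ψ w) = Φ w := fun w => IsLocalization.lift_eq hu w
    have hΘm : maximalIdeal B ≤ RingHom.ker Θ := by
      rw [← hm, Ideal.map_le_iff_le_comap]
      intro a ha
      rw [Ideal.mem_comap, RingHom.mem_ker, show φ a = ψ (a ⊗ₜ 1) by rw [hψ, map_one, mul_one], hΘ]
      have h1 : residue B (φ a) = 0 := (residue_eq_zero_iff _).2 (hm ▸ Ideal.mem_map_of_mem φ ha)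
      refine TrivSqZeroExt.ext ?_ ?_ <;> simp [Φ, F, G, h1, (residue_eq_zero_iff a).2 ha]
    obtain ⟨a, rfl⟩ := residue_surjective c
    obtain ⟨α, hα⟩ := hB (φ a)
    have h0 : Θ (ψ (a ⊗ₜ 1 - 1 ⊗ₜ α)) = 0 := hΘm (by
      rw [map_sub, hψ, hψ, map_one, map_one, mul_one, one_mul]; exact hα)
    rw [hΘ] at h0
    have h1 := congrArg TrivSqZeroExt.snd h0
    simp [Φ, F, G] at h1
    exact h1
  refine ⟨fun a b => ?_⟩
  have h : (⊤ : Submodule κ Ω[κ⁄k]) ≤ ⊥ := by
    rw [← KaehlerDifferential.span_range_derivation, Submodule.span_le]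
    rintro _ ⟨c, rfl⟩
    exact hd c
  exact ((Submodule.mem_bot κ).1 (h (x := a) trivial)).trans ((Submodule.mem_bot κ).1 (h (x := b) trivial)).symm

end Alg

/-- The residue field of a closed point is finite over the base field. -/
theorem essFiniteType_residue [LocallyOfFiniteType (X ↘ Spec (CommRingCat.of k))] (x : X) :
    Algebra.EssFiniteType k (ResidueField (X.presheaf.stalk x)) := by
  haveI := essFiniteType_stalk (k := k) x
  exact Algebra.EssFiniteType.comp k (X.presheaf.stalk x) (ResidueField (X.presheaf.stalk x))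

variable [LocallyOfFiniteType (X ↘ Spec (CommRingCat.of k))]

/-- Nodes are the quadratic points with separable residue field. -/
theorem isNode_iff_quadPt {x : X} (hx : IsClosed ({x} : Set X)) :
    Curv2.IsNode k X x ↔ Algebra.IsSeparable k (ResidueField (X.presheaf.stalk x)) ∧
      _root_.IsReduced (X.presheaf.stalk x) ∧ QuadPt (X.presheaf.stalk x) := by
  let K := AlgebraicClosure k
  letI : (Curv2.bc k X K).Over (Spec (CommRingCat.of K)) := ⟨Curv2.bcSnd k X K⟩
  haveI : LocallyOfFiniteType (Curv2.bc k X K ↘ Spec (CommRingCat.of K)) :=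
    inferInstanceAs (LocallyOfFiniteType (pullback.snd (X ↘ Spec (CommRingCat.of k)) _))
  obtain ⟨z, rfl⟩ := surjective_bcFst k X K x
  haveI := LocallyOfFiniteType.isLocallyNoetherian (X ↘ Spec (CommRingCat.of k))
  haveI := LocallyOfFiniteType.isLocallyNoetherian (Curv2.bc k X K ↘ Spec (CommRingCat.of K))
  have hB : Rational K ((Curv2.bc k X K).presheaf.stalk z) := rational_stalk (NodalLib.closed_over hx z rfl)
  obtain ⟨ψ, M, hloc, hψ⟩ := exists_localization_stalk_bc (k := k) (X := X) K z
  haveI := flat_bcFst k X K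
  haveI := essFiniteType_residue (k := k) (Curv2.bcFst k X K z)
  let φ := ((Curv2.bcFst k X K).stalkMap z).hom
  have hφ : IsLocalHom φ := (Curv2.bcFst k X K).toLRSHom.prop z
  letI : Algebra (X.presheaf.stalk (Curv2.bcFst k X K z)) ((Curv2.bc k X K).presheaf.stalk z) := φ.toAlgebra
  haveI : IsLocalHom (algebraMap (X.presheaf.stalk (Curv2.bcFst k X K z)) ((Curv2.bc k X K).presheaf.stalk z)) := hφ
  haveI : Module.Flat (X.presheaf.stalk (Curv2.bcFst k X K z)) ((Curv2.bc k X K).presheaf.stalk z) :=
    Flat.stalkMap (Curv2.bcFst k X K) z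
  constructor
  · intro hn
    have hord := ordPtBc_of_isNode k X _ hn z rfl
    have hm := map_maximal_of_isNode hn
    have hnp : ∀ w, maximalIdeal ((Curv2.bc k X K).presheaf.stalk z) ≠ Ideal.span {w} := fun w hw => by
      haveI := essFiniteType_stalk (k := K) z
      have h1 := fitt_eq_top_of_principal hB hw
      have h2 := ((ordPt_iff_fitt (NodalLib.closed_over hx z rfl)).1 hord).1
      exact (maximalIdeal.isMaximal _).ne_top (h2.symm.trans h1)
    exact ⟨isSeparable_of_map_maximal_eq φ hφ ψ M hloc hψ hB hm, quadPt_of_isOrdDoublePt hB hm hord hnp⟩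
  · rintro ⟨hs, hr, hq⟩
    haveI := hs
    haveI := hr
    haveI : Algebra.FormallyUnramified k (ResidueField (X.presheaf.stalk (Curv2.bcFst k X K z))) :=
      Algebra.FormallyUnramified.of_isSeparable k _
    haveI : Module.Finite k (ResidueField (X.presheaf.stalk (Curv2.bcFst k X K z))) :=
      Algebra.FormallyUnramified.finite_of_free k _
    have hm := map_maximal_eq_of_separable φ hφ ψ M hloc hψ
    exact ⟨hx, z, rfl, isOrdDoublePt_of_quadPt hB hm hq⟩

end Groth.Agent.NodePtLib
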