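import Groth.Agent.NodePtLib.Open
import Groth.Agent.NodePtLib.Family
import Groth.Agent.NodePtLib.QuadNode
import Groth.Agent.GeomRk.FibreRk
import Groth.Agent.S4673
import Groth.Agent.S1592

/-!
# The largest open with nodal fibres
-/

set_option autoImplicit false
set_option backward.isDefEq.respectTransparency false
set_option linter.style.haveILetI false
set_option linter.unusedSectionVars false

universe u

open CategoryTheory CategoryTheory.Limits AlgebraicGeometry IsLocalRing TopologicalSpace
open Groth.Agent.FibreDepth Groth.Agent.DimFormulaLib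

noncomputable section

namespace Groth.Agent.NodePtLib

/-- A generic point. -/
def Gen {T : Type u} [TopologicalSpace T] (z : T) : Prop := ∀ w : T, w ⤳ z → w = z

/-- Generic generalisations have curves as closures. -/
def CompsAt {F : Scheme.{u}} (y : F) : Prop :=
  ∀ z : F, z ⤳ y → Gen (T := (F : Type u)) z → topologicalKrullDim ↥(closure ({z} : Set F)) = 1

theorem gen_of_reduced_depth_zero {F : Scheme.{u}} [IsLocallyNoetherian F] {y z : F} (hzy : z ⤳ y)
    [_root_.IsReduced (F.presheaf.stalk y)]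
    (h0 : LocCoh.depth (F.presheaf.stalk z) (F.presheaf.stalk z) = 0) : Gen (T := (F : Type u)) z := by
  haveI : _root_.IsReduced (F.presheaf.stalk z) := by
    letI := (F.presheaf.stalkSpecializes hzy).hom.toAlgebra
    haveI := Groth.Agent.S5090.isLocalization_stalkSpecializes hzy
    exact isReduced_localizationPreserves
      ((maximalIdeal (F.presheaf.stalk z)).comap (F.presheaf.stalkSpecializes hzy).hom).primeCompl
      (F.presheaf.stalk z) inferInstance
  have hF : IsField (F.presheaf.stalk z) := by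
    refine isField_iff_maximalIdeal_eq.2 ?_
    obtain ⟨-, c, hc⟩ := Depth.depth_self_eq_zero_iff.1 h0
    rw [Submodule.eq_bot_iff]
    intro a ha
    have hc0 : c ≠ 0 := fun h => (maximalIdeal.isMaximal (F.presheaf.stalk z)).ne_top (by
      rw [hc, h, Ideal.eq_top_iff_one]
      exact Ideal.le_radical (Submodule.mem_colon_singleton.2 (by simp)))
    have hac : a * c = 0 := by
      rw [hc] at ha
      obtain ⟨n, hn⟩ := ha
      rw [Submodule.mem_colon_singleton, Submodule.mem_bot, smul_eq_mul] at hn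
      exact eq_zero_of_pow_eq_zero (n := n + 1)
        (by rw [show (a * c) ^ (n + 1) = a * c ^ n * (a ^ n * c) by ring, hn, mul_zero])
    by_cases hcm : c ∈ maximalIdeal (F.presheaf.stalk z)
    · exfalso
      have hcc : c * c = 0 := by
        rw [hc] at hcm
        obtain ⟨n, hn⟩ := hcm
        rw [Submodule.mem_colon_singleton, Submodule.mem_bot, smul_eq_mul] at hn
        exact eq_zero_of_pow_eq_zero (n := n + 1)
          (by rw [show (c * c) ^ (n + 1) = c * c ^ n * (c ^ n * c) by ring, hn, mul_zero])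
      exact hc0 (eq_zero_of_pow_eq_zero (n := 2) (by rw [pow_two]; exact hcc))
    · obtain ⟨e, he⟩ := notMem_maximalIdeal.1 hcm
      rwa [← he, e.mul_left_eq_zero] at hac
  exact fun w hw => ASp.eq_of_ringKrullDim_stalk_eq_zero (ringKrullDim_eq_zero_of_isField hF) hw

theorem depth_zero_of_gen {F : Scheme.{u}} [IsLocallyNoetherian F] {z : F} (hz : Gen (T := (F : Type u)) z) :
    LocCoh.depth (F.presheaf.stalk z) (F.presheaf.stalk z) = 0 := by
  haveI : Ring.KrullDimLE 0 (F.presheaf.stalk z) :=
    Ring.krullDimLE_iff.2 (ASp.ringKrullDim_stalk_eq_zero hz).le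
  refine Depth.depth_self_eq_zero_iff.2 ?_
  obtain ⟨p, hp⟩ := associatedPrimes.nonempty (F.presheaf.stalk z) (F.presheaf.stalk z)
  haveI := hp.isPrime
  rwa [Ring.KrullDimLE.eq_maximalIdeal_of_isPrime p] at hp

variable {X S : Scheme.{u}}

/-- The locus on which all associated points of the fibre span curves. -/
def dimLocus (f : X ⟶ S) : Set X :=
  {x : X | ∀ x', x' ⤳ x → f.base x' = f.base x →
    LocCoh.depth ((f.fiber (f.base x')).presheaf.stalk (f.asFiber x')) ((f.fiber (f.base x')).presheaf.stalk (f.asFiber x')) = 0 →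
      ∃ n ∈ ({1} : Finset ℕ), clDim f x' = (n : WithBot ℕ∞)}

theorem isOpen_dimLocus (f : X ⟶ S) [Flat f] [LocallyOfFinitePresentation f] : IsOpen (dimLocus f) :=
  isOpen_ass_dims (exists_model_self f) (Flat.stalkMap f) {1}

theorem mem_dimLocus_iff (f : X ⟶ S) (x : X) :
    x ∈ dimLocus f ↔ ∀ z : f.fiber (f.base x), f.asFiber x ∈ closure {z} →
      LocCoh.depth ((f.fiber (f.base x)).presheaf.stalk z) ((f.fiber (f.base x)).presheaf.stalk z) = 0 →
        topologicalKrullDim ↥(closure ({z} : Set ↥(f.fiber (f.base x)))) = 1 := by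
  rw [forall_fiber_iff f (fun s z => LocCoh.depth ((f.fiber s).presheaf.stalk z) ((f.fiber s).presheaf.stalk z) = 0 →
    topologicalKrullDim ↥(closure ({z} : Set ↥(f.fiber s))) = 1) x]
  refine forall_congr' fun x' => forall₃_congr fun _ _ _ => ?_
  show (∃ n ∈ ({1} : Finset ℕ), clDim f x' = (n : WithBot ℕ∞)) ↔ _
  simp [clDim]

/-- The points with nodal fibre nearby. -/
def NodalPt (f : X ⟶ S) (x : X) : Prop :=
  GoodPt f x ∧ CompsAt (f.asFiber x)

theorem isReduced_of_goodPt (f : X ⟶ S) [Flat f] [LocallyOfFinitePresentation f] {x : X} (h : GoodPt f x) :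
    _root_.IsReduced ((f.fiber (f.base x)).presheaf.stalk (f.asFiber x)) := by
  letI : (f.fiber (f.base x)).Over (Spec (CommRingCat.of (S.residueField (f.base x)))) :=
    ⟨f.fiberToSpecResidueField (f.base x)⟩
  haveI : LocallyOfFiniteType (f.fiber (f.base x) ↘ Spec (CommRingCat.of (S.residueField (f.base x)))) :=
    inferInstanceAs (LocallyOfFiniteType (pullback.snd f _))
  rcases h with hs | hn
  · haveI := regular_of_smooth_nhd (k := S.residueField (f.base x)) (X := f.fiber (f.base x)) (x := f.asFiber x)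
      ((smooth_fibre_iff f _ _).1 (by rw [f.fiberι_asFiber]; exact hs))
    haveI := RegLocal.isDomain (R := (f.fiber (f.base x)).presheaf.stalk (f.asFiber x))
    infer_instance
  · exact ((isNode_iff_quadPt (k := S.residueField (f.base x)) hn.1).1 hn).2.1

theorem nodalPt_iff (f : X ⟶ S) [Flat f] [LocallyOfFinitePresentation f] (x : X) :
    NodalPt f x ↔ x ∈ dimLocus f ∧ GoodPt f x := by
  haveI : LocallyOfFiniteType (f.fiberToSpecResidueField (f.base x)) := inferInstance
  haveI := LocallyOfFiniteType.isLocallyNoetherian (f.fiberToSpecResidueField (f.base x))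
  rw [mem_dimLocus_iff]
  refine ⟨fun ⟨hg, hc⟩ => ⟨fun z hz h0 => ?_, hg⟩, fun ⟨hd, hg⟩ => ⟨hg, fun z hz hgen => ?_⟩⟩
  · haveI := isReduced_of_goodPt f hg
    exact hc z (specializes_iff_mem_closure.2 hz) (gen_of_reduced_depth_zero (specializes_iff_mem_closure.2 hz) h0)
  · exact hd z (specializes_iff_mem_closure.1 hz) (depth_zero_of_gen hgen)

theorem trdeg_of_compsAt {k : Type u} [Field k] {F : Scheme.{u}} (q : F ⟶ Spec (CommRingCat.of k))
    [LocallyOfFiniteType q] {z : F} :
    topologicalKrullDim ↥(closure ({z} : Set F)) = 1 ↔ resTrdegAt q z = 1 := by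
  obtain ⟨a, t, -, ht, -, hh⟩ := field_dims q z
  rw [topologicalKrullDim_closure_singleton, hh, ht]
  constructor
  · intro h
    have : t = 1 := by exact_mod_cast h
    rw [this, Nat.cast_one]
  · intro h
    have : t = 1 := by exact_mod_cast h
    rw [this]; rfl

theorem comps1_of_dimLocus (f : X ⟶ S) [Flat f] [LocallyOfFinitePresentation f] (U : X.Opens)
    (hU : (U : Set X) ⊆ dimLocus f) (s : S) : NodalLib.Comps1 ((U.ι ≫ f).fiber s) := by
  rw [NodalLib.comps1_iff ((U.ι ≫ f).fiberToSpecResidueField s)]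
  intro z hz
  have hgen : Gen (T := ((f.fiber s : Scheme.{u}) : Type u)) (NodalLib.fibreMap f U.ι s z) :=
    fun w hw => NodalLib.generic_map (NodalLib.fibreMap f U.ι s) hz w hw
  rw [← FlatDim.resTrdegAt_congr (NodalLib.fibreMap_snd f U.ι s) z, NodalLib.resTrdegAt_etale_comp]
  refine (trdeg_of_compsAt _).1 ?_
  haveI := LocallyOfFiniteType.isLocallyNoetherian (f.fiberToSpecResidueField s)
  have hm : f.fiberι s (NodalLib.fibreMap f U.ι s z) ∈ dimLocus f := hU (by
    rw [← Scheme.Hom.comp_apply, NodalLib.fibreMap_ι, Scheme.Hom.comp_apply]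
    exact ((U.ι ≫ f).fiberι s z).2)
  rw [mem_dimLocus_iff] at hm
  exact (fib_transfer f s (NodalLib.fibreMap f U.ι s z) fun s w => (∀ z' : f.fiber s, w ∈ closure {z'} →
    LocCoh.depth ((f.fiber s).presheaf.stalk z') ((f.fiber s).presheaf.stalk z') = 0 →
      topologicalKrullDim ↥(closure ({z'} : Set ↥(f.fiber s))) = 1)).2.1 hm _ (subset_closure rfl) (depth_zero_of_gen hgen)

theorem goodPt_of_family (f : X ⟶ S) (hf : Curv2.IsNodalFamily f) (x : X) : GoodPt f x := by
  haveI := hf.1
  haveI := hf.2.1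
  obtain ⟨hc, hn⟩ := hf.2.2 (f.base x)
  letI : (f.fiber (f.base x)).Over (Spec (CommRingCat.of (S.residueField (f.base x)))) :=
    ⟨f.fiberToSpecResidueField (f.base x)⟩
  haveI : LocallyOfFiniteType (f.fiber (f.base x) ↘ Spec (CommRingCat.of (S.residueField (f.base x)))) :=
    inferInstanceAs (LocallyOfFiniteType (pullback.snd f _))
  rcases smooth_or_node_at (k := S.residueField (f.base x)) hc hn (f.asFiber x) with hs | hn'
  · refine Or.inl ?_
    have h := (smooth_fibre_iff f (f.base x) (f.asFiber x)).2 hs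
    rwa [f.fiberι_asFiber] at h
  · exact Or.inr hn'

theorem nodalPt_of_family (f : X ⟶ S) [Flat f] [LocallyOfFinitePresentation f] (V : X.Opens)
    (hV : Curv2.IsNodalFamily (V.ι ≫ f)) {x : X} (hx : x ∈ V) : NodalPt f x := by
  refine ⟨(goodPt_restrict_iff f V ⟨x, hx⟩).1 (goodPt_of_family _ hV ⟨x, hx⟩), fun z hz hgen => ?_⟩
  let s := f.base x
  have hzV : f.fiberι s z ∈ V := by
    refine Specializes.mem_open ?_ V.2 hx
    have h := hz.map (f.fiberι s).continuous
    rwa [f.fiberι_asFiber] at h
  obtain ⟨z₀, hz₀⟩ := NodalLib.exists_fibreMap_eq f V.ι s (y := ⟨f.fiberι s z, hzV⟩) (x := z) rfl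
  subst hz₀
  rw [trdeg_of_compsAt (f.fiberToSpecResidueField s), ← NodalLib.resTrdegAt_etale_comp, FlatDim.resTrdegAt_congr (NodalLib.fibreMap_snd f V.ι s)]
  exact (NodalLib.comps1_iff ((V.ι ≫ f).fiberToSpecResidueField s)).1 (hV.2.2 s).1 z₀
    (NodalLib.generic_over (NodalLib.fibreMap f V.ι s) hgen)

/-- The open set of nodal points. -/
theorem exists_nodalOpen (f : X ⟶ S) [Flat f] [LocallyOfFinitePresentation f] :
    ∃ U : X.Opens, (U : Set X) = {x | NodalPt f x} ∧ Curv2.IsNodalFamily (U.ι ≫ f) := by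
  let W : X.Opens := ⟨dimLocus f, isOpen_dimLocus f⟩
  have hopen : IsOpen {x | NodalPt f x} := by
    have h : {x | NodalPt f x} = W.ι '' {w | GoodPt (W.ι ≫ f) w} := by
      ext x
      constructor
      · intro hx
        rw [Set.mem_ofPred_eq, nodalPt_iff] at hx
        exact ⟨⟨x, hx.1⟩, (goodPt_restrict_iff f W ⟨x, hx.1⟩).2 hx.2, rfl⟩
      · rintro ⟨w, hw, rfl⟩
        rw [Set.mem_ofPred_eq, nodalPt_iff]
        exact ⟨w.2, (goodPt_restrict_iff f W w).1 hw⟩
    rw [h]
    exact W.ι.isOpenEmbedding.isOpenMap _ (isOpen_goodPt (W.ι ≫ f) (comps1_of_dimLocus f W subset_rfl))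
  let U : X.Opens := ⟨_, hopen⟩
  refine ⟨U, rfl, inferInstance, inferInstance, fun s => ⟨comps1_of_dimLocus f U (fun x hx =>
    ((nodalPt_iff f x).1 hx).1) s, fun y hy => ?_⟩⟩
  have hg := (goodPt_restrict_iff f U ((U.ι ≫ f).fiberι s y)).2 ((U.ι ≫ f).fiberι s y).2.1
  refine (fib_transfer (U.ι ≫ f) s y fun s y => IsClosed ({y} : Set ((U.ι ≫ f).fiber s)) →
    (∃ O : ((U.ι ≫ f).fiber s).Opens, y ∈ O ∧ Smooth (O.ι ≫ (U.ι ≫ f).fiberToSpecResidueField s)) ∨
      @Curv2.IsNode (S.residueField s) _ ((U.ι ≫ f).fiber s) ⟨(U.ι ≫ f).fiberToSpecResidueField s⟩ y).2.1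
    (fun _ => ?_) hy
  rcases hg with hs | hn
  · exact Or.inl ((smooth_fibre_iff (U.ι ≫ f) _ _).1 (by rw [(U.ι ≫ f).fiberι_asFiber]; exact hs))
  · exact Or.inr hn

/-! ### Change of the base -/

theorem exists_fiberIso' {X Y Y' : Scheme.{u}} (f : X ⟶ Y) (g : Y' ⟶ Y) (s' : Y') :
    ∃ e : pullback (f.fiberToSpecResidueField (g s')) (Spec.map (g.residueFieldMap s')) ≅
        (pullback.snd f g).fiber s',
      e.hom ≫ (pullback.snd f g).fiberToSpecResidueField s' = pullback.snd _ _ ∧
      e.hom ≫ (pullback.snd f g).fiberι s' ≫ pullback.fst f g = pullback.fst _ _ ≫ f.fiberι (g s') := by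
  let q := f.fiberToSpecResidueField (g s')
  let r := Spec.map (g.residueFieldMap s')
  let j := Y'.fromSpecResidueField s'
  have hr : r ≫ Y.fromSpecResidueField (g s') = j ≫ g :=
    Scheme.Hom.SpecMap_residueFieldMap_fromSpecResidueField g s'
  let m : pullback q r ⟶ pullback f g :=
    pullback.lift (pullback.fst q r ≫ f.fiberι (g s')) (pullback.snd q r ≫ j) (by
      rw [Category.assoc, Category.assoc, f.fiber_fac, ← hr, pullback.condition_assoc])
  have hm : IsPullback m (pullback.snd q r) (pullback.snd f g) j := by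
    refine IsPullback.of_right ?_ (pullback.lift_snd _ _ _) (IsPullback.of_hasPullback f g)
    rw [pullback.lift_fst, ← hr]
    exact (IsPullback.of_hasPullback q r).paste_horiz
      (IsPullback.of_hasPullback f (Y.fromSpecResidueField (g s')))
  refine ⟨hm.isoPullback, hm.isoPullback_hom_snd, ?_⟩
  rw [← Category.assoc, show hm.isoPullback.hom ≫ (pullback.snd f g).fiberι s' = m from hm.isoPullback_hom_fst]
  exact pullback.lift_fst _ _ _

/-- Nodal points descend along base changes. -/
theorem nodalPt_fst {S' : Scheme.{u}} (f : X ⟶ S) [Flat f] [LocallyOfFinitePresentation f] (g : S' ⟶ S)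
    {x' : ↥(pullback f g)} (h : NodalPt (pullback.snd f g) x') : NodalPt f (pullback.fst f g x') := by
  let P := pullback.snd f g
  let x := pullback.fst f g x'
  let s' := P.base x'
  let k := S.residueField (g s')
  let K := S'.residueField s'
  letI : Algebra k K := (g.residueFieldMap s').hom.toAlgebra
  let F := f.fiber (g s')
  letI : F.Over (Spec (CommRingCat.of k)) := ⟨f.fiberToSpecResidueField (g s')⟩
  haveI : LocallyOfFiniteType (F ↘ Spec (CommRingCat.of k)) :=
    inferInstanceAs (LocallyOfFiniteType (pullback.snd f _))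
  let B := Curv2.bc k F K
  letI : B.Over (Spec (CommRingCat.of K)) := ⟨Curv2.bcSnd k F K⟩
  haveI : LocallyOfFiniteType (B ↘ Spec (CommRingCat.of K)) :=
    inferInstanceAs (LocallyOfFiniteType (pullback.snd (F ↘ Spec (CommRingCat.of k)) _))
  let F' := P.fiber s'
  letI : F'.Over (Spec (CommRingCat.of K)) := ⟨P.fiberToSpecResidueField s'⟩
  haveI : LocallyOfFiniteType (F' ↘ Spec (CommRingCat.of K)) :=
    inferInstanceAs (LocallyOfFiniteType (pullback.snd P _))
  obtain ⟨e₀, he₀, he₀'⟩ := exists_fiberIso' f g s'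
  let e : B ≅ F' := e₀
  have he : e.hom ≫ (F' ↘ Spec (CommRingCat.of K)) = (B ↘ Spec (CommRingCat.of K)) := he₀
  let π := Curv2.bcFst k F K
  haveI := flat_bcFst k F K
  let b : B := e.inv (P.asFiber x')
  have hb : e.hom b = P.asFiber x' := by rw [← Scheme.Hom.comp_apply, e.inv_hom_id]; rfl
  have hbx : f.fiberι (g s') (π b) = x := by
    rw [← Scheme.Hom.comp_apply, show π ≫ f.fiberι (g s') = e.hom ≫ P.fiberι s' ≫ pullback.fst f g from he₀'.symm,
      Scheme.Hom.comp_apply, Scheme.Hom.comp_apply, hb, P.fiberι_asFiber]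
  have hfx : f.base x = g s' := by
    show f (pullback.fst f g x') = g (pullback.snd f g x')
    rw [← Scheme.Hom.comp_apply, ← Scheme.Hom.comp_apply, pullback.condition]
  -- generic points
  have hdim : CompsAt (π b) := by
    intro z hz hgen
    obtain ⟨z₁, hz₁, rfl⟩ := Flat.generalizingMap π hz
    obtain ⟨η, hη, hW⟩ := Groth.Agent.S4673.dim_component (irreducibleComponent_mem_irreducibleComponents z₁)
    have hη₁ : η ⤳ z₁ := specializes_iff_mem_closure.2 (hW.ge mem_irreducibleComponent)
    have hπη : π η = π z₁ := hgen _ (hη₁.map π.continuous)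
    have hkey : topologicalKrullDim ↥(closure ({π η} : Set F)) = topologicalKrullDim ↥(closure ({η} : Set B)) := by
      haveI : Surjective (Spec.map (CommRingCat.ofHom (algebraMap k K))) :=
        ⟨fun x => ⟨(default : PrimeSpectrum K), @Subsingleton.elim (PrimeSpectrum k) _ _ _⟩⟩
      exact (Groth.Agent.SmoothInterDim.dim_closure_bc (F ↘ Spec (CommRingCat.of k))
        (Spec.map (CommRingCat.ofHom (algebraMap k K))) rfl (π η) η (specializes_refl _) fun w _ hw => hη w hw).symm
    rw [← hπη, hkey, trdeg_of_compsAt (B ↘ Spec (CommRingCat.of K)), ← FlatDim.resTrdegAt_congr he,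
      NodalLib.resTrdegAt_etale_comp, ← trdeg_of_compsAt]
    refine h.2 _ (hb ▸ (hη₁.trans hz₁).map e.hom.continuous) (fun w hw => ?_)
    exact NodalLib.generic_map e.hom hη w hw
  refine ⟨?_, ?_⟩
  · rcases h.1 with hs | hn
    · exact Or.inl ((PointBC.smooth_nhd_iff f g x' (Or.inl inferInstance)).1 hs)
    · refine Or.inr ?_
      have hnB : Curv2.IsNode K B b := by
        have := (NodalLib.isNode_iff_etale (k := K) e.hom he b).1 (by rw [hb]; exact hn)
        exact this
      -- an open of the fibre whose components are curves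
      let W : X.Opens := ⟨dimLocus f, isOpen_dimLocus f⟩
      let O : F.Opens := f.fiberι (g s') ⁻¹ᵁ W
      haveI := LocallyOfFiniteType.isLocallyNoetherian (f.fiberToSpecResidueField (g s'))
      have hbO : π b ∈ O := by
        show f.fiberι (g s') (π b) ∈ dimLocus f
        rw [mem_dimLocus_iff]
        haveI := LocallyOfFiniteType.isLocallyNoetherian (F ↘ Spec (CommRingCat.of k))
        haveI : _root_.IsReduced (B.presheaf.stalk b) := ((isNode_iff_quadPt (k := K) hnB.1).1 hnB).2.1
        haveI : _root_.IsReduced (F.presheaf.stalk (π b)) :=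
          isReduced_of_injective (π.stalkMap b).hom (ASp.injective_stalkMap_of_flat π b)
        refine (fib_transfer f (g s') (π b) fun s w => ∀ z' : f.fiber s, w ∈ closure {z'} →
          LocCoh.depth ((f.fiber s).presheaf.stalk z') ((f.fiber s).presheaf.stalk z') = 0 →
            topologicalKrullDim ↥(closure ({z'} : Set ↥(f.fiber s))) = 1).2.2 fun z hz h0 => ?_
        exact hdim z (specializes_iff_mem_closure.2 hz)
          (gen_of_reduced_depth_zero (specializes_iff_mem_closure.2 hz) h0)
      letI : (O : Scheme.{u}).Over (Spec (CommRingCat.of k)) := ⟨O.ι ≫ (F ↘ Spec (CommRingCat.of k))⟩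
      haveI : LocallyOfFiniteType ((O : Scheme.{u}) ↘ Spec (CommRingCat.of k)) :=
        inferInstanceAs (LocallyOfFiniteType (O.ι ≫ _))
      have hOd : NodalLib.Comps1 (O : Scheme.{u}) := by
        rw [NodalLib.comps1_iff ((O : Scheme.{u}) ↘ Spec (CommRingCat.of k))]
        intro z hz
        have hgz : Gen (T := ((F : Scheme.{u}) : Type u)) (O.ι z) := fun w hw => NodalLib.generic_map O.ι hz w hw
        rw [show resTrdegAt ((O : Scheme.{u}) ↘ Spec (CommRingCat.of k)) z =
          resTrdegAt (O.ι ≫ (F ↘ Spec (CommRingCat.of k))) z from rfl, NodalLib.resTrdegAt_etale_comp,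
          ← trdeg_of_compsAt]
        have hmem := (mem_dimLocus_iff f (f.fiberι (g s') (O.ι z))).1 z.2
        exact (fib_transfer f (g s') (O.ι z) fun s w => ∀ z' : f.fiber s, w ∈ closure {z'} →
          LocCoh.depth ((f.fiber s).presheaf.stalk z') ((f.fiber s).presheaf.stalk z') = 0 →
            topologicalKrullDim ↥(closure ({z'} : Set ↥(f.fiber s))) = 1).2.1 hmem _ (subset_closure rfl)
            (depth_zero_of_gen hgz)
      let BO := Curv2.bc k (O : Scheme.{u}) K
      letI : BO.Over (Spec (CommRingCat.of K)) := ⟨Curv2.bcSnd k (O : Scheme.{u}) K⟩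
      let i := Spec.map (CommRingCat.ofHom (algebraMap k K))
      let j : BO ⟶ B := pullback.map _ _ (F ↘ Spec (CommRingCat.of k)) i O.ι (𝟙 _) (𝟙 _)
        (Category.comp_id _) (by rw [Category.comp_id, Category.id_comp])
      have hj1 : j ≫ π = Curv2.bcFst k (O : Scheme.{u}) K ≫ O.ι := pullback.lift_fst _ _ _
      have hj2 : j ≫ (B ↘ Spec (CommRingCat.of K)) = (BO ↘ Spec (CommRingCat.of K)) :=
        (pullback.lift_snd _ _ _).trans (Category.comp_id _)
      have hsq : IsPullback (Curv2.bcFst k (O : Scheme.{u}) K) j O.ι π := by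
        refine (IsPullback.of_right ?_ hj1 (IsPullback.of_hasPullback (F ↘ Spec (CommRingCat.of k)) i).flip).flip
        rw [show j ≫ pullback.snd (F ↘ Spec (CommRingCat.of k)) i = Curv2.bcSnd k (O : Scheme.{u}) K from hj2]
        exact (IsPullback.of_hasPullback _ _).flip
      haveI : IsOpenImmersion j := MorphismProperty.of_isPullback hsq inferInstance
      obtain ⟨b₀, hb₀, hb₀'⟩ := Scheme.exists_preimage_of_isPullback hsq ⟨π b, hbO⟩ b rfl
      haveI : LocallyOfFiniteType (BO ↘ Spec (CommRingCat.of K)) :=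
        inferInstanceAs (LocallyOfFiniteType (pullback.snd ((O : Scheme.{u}) ↘ Spec (CommRingCat.of k)) _))
      have hn₀ : Curv2.IsNode K BO b₀ :=
        (NodalLib.isNode_iff_etale (k := K) j hj2 b₀).1 (by rw [hb₀']; exact hnB)
      have hnO := (isNode_bc_iff k (O : Scheme.{u}) (fun Z hZ => (hOd Z hZ).le) K b₀).2 hn₀
      rw [hb₀] at hnO
      have hnF := (NodalLib.isNode_iff_etale (k := k) O.ι rfl _).2 hnO
      exact (fib_transfer f (g s') (π b) fun s w =>
        @Curv2.IsNode (S.residueField s) _ (f.fiber s) ⟨f.fiberToSpecResidueField s⟩ w).2.2 hnF |>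
          (fun h => by rwa [hbx] at h)
  · have h2 := (fib_transfer f (g s') (π b) fun s w => CompsAt (F := f.fiber s) w).2.2 hdim
    rwa [hbx] at h2

end Groth.Agent.NodePtLib
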