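import Groth.Agent.NodePtLib.Sub
import Groth.Agent.GorLib.Artinian
import Groth.Agent.GorLib.Quotient
import Groth.Agent.S0342
import Groth.Agent.S0344

/-!
# At-worst-nodal curves are Gorenstein and geometrically reduced
-/

set_option autoImplicit false
set_option backward.isDefEq.respectTransparency false
set_option linter.style.haveILetI false
set_option linter.unusedSectionVars false

universe u

open CategoryTheory CategoryTheory.Limits AlgebraicGeometry IsLocalRing

noncomputable section

namespace Groth.Agent.NodePtLib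

theorem gorenstein_of_node {K : Type u} [Field K] {O : Type u} [CommRing O] [IsLocalRing O] [IsNoetherianRing O]
    [Algebra K O] [Algebra.EssFiniteType K O] (hK : Rational K O) {u v : O} (h : Gens u v) (hd : NodeDim K O) :
    LocCoh.IsGorensteinLocalRing O := by
  classical
  let m := maximalIdeal O
  let t := u + v
  have ht : t ∈ m := add_mem h.mem_left h.mem_right
  have htd : t ∈ nonZeroDivisors O := sum_gens_mem_nonZeroDivisors hK h hd
  refine (GorLib.gorenstein_quot_iff O t ht (fun a b e => (mul_cancel_left_mem_nonZeroDivisors htd).1 e)).2 ?_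
  have hne : Ideal.span {t} ≠ ⊤ := fun e =>
    (maximalIdeal.isMaximal O).ne_top (top_le_iff.1 (e ▸ (Ideal.span_singleton_le_iff_mem m).2 ht))
  haveI : Nontrivial (O ⧸ Ideal.span {t}) := Ideal.Quotient.nontrivial_iff.2 hne
  haveI : IsLocalRing (O ⧸ Ideal.span {t}) := .of_surjective' (Ideal.Quotient.mk _) Ideal.Quotient.mk_surjective
  -- the square of the maximal ideal dies
  have hsq : m ^ 2 ≤ Ideal.span {t} := by
    have h1 : m ^ 2 ≤ Ideal.span {t} ⊔ m * m ^ 2 := by
      rw [← pow_succ', pow_two, Ideal.mul_le]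
      intro r hr s hs
      rw [show m = maximalIdeal O from rfl, h.1, Ideal.mem_span_pair] at hr hs
      obtain ⟨r₀, r₁, rfl⟩ := hr
      obtain ⟨s₀, s₁, rfl⟩ := hs
      rw [show (r₀ * u + r₁ * v) * (s₀ * u + s₁ * v) = (r₀ * s₀ * u + r₁ * s₁ * v) * t +
        ((r₀ * s₁ + r₁ * s₀) - r₀ * s₀ - r₁ * s₁) * (u * v) by simp only [t]; ring]
      exact Submodule.add_mem_sup (Ideal.mul_mem_left _ _ (Ideal.mem_span_singleton_self t))
        (Ideal.mul_mem_left _ _ h.2)
    exact Submodule.le_of_le_smul_of_le_jacobson_bot (Ideal.fg_of_isNoetherianRing _)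
      (IsLocalRing.maximalIdeal_le_jacobson ⊥) h1
  let π := Ideal.Quotient.mk (Ideal.span {t})
  have hmap : ∀ r : O, π r ∈ maximalIdeal (O ⧸ Ideal.span {t}) → r ∈ m := fun r hr => by
    rw [mem_maximalIdeal] at hr ⊢
    exact fun hu => hr (hu.map π)
  have hπu : π u ≠ 0 := fun e => by
    have e' := Ideal.Quotient.eq_zero_iff_mem.1 e
    obtain ⟨c, hc⟩ := Ideal.mem_span_singleton'.1 e'
    obtain ⟨c₀, hc₀⟩ := hK c
    have hli := Fintype.linearIndependent_iff.1 (linearIndependent_monQ hK h hd (N := 2) (by norm_num))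
      (Sum.elim ![0, c₀ - 1] ![c₀]) (by
        rw [Fintype.sum_sum_type, Fin.sum_univ_two, Fin.sum_univ_one]
        simp only [Sum.elim_inl, Sum.elim_inr, monQ, mon, Matrix.cons_val_zero, Matrix.cons_val_one, zero_smul,
          zero_add, smul_mk, ← map_add, Ideal.Quotient.eq_zero_iff_mem, Fin.val_one, Fin.val_zero, pow_one,
          map_sub, map_one]
        rw [show (algebraMap K O c₀ - 1) * u + algebraMap K O c₀ * v = -((c - algebraMap K O c₀) * t) by
          linear_combination hc]
        rw [pow_two]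
        exact neg_mem (Ideal.mul_mem_mul hc₀ ht))
    have h1 : c₀ = 1 := sub_eq_zero.1 (by simpa using hli (.inl 1))
    have h2 : c₀ = 0 := by simpa using hli (.inr 0)
    exact one_ne_zero (h1.symm.trans h2)
  haveI : IsArtinianRing (O ⧸ Ideal.span {t}) := by
    haveI : Ring.KrullDimLE 0 (O ⧸ Ideal.span {t}) := Ring.KrullDimLE.mk₀ fun P hP => by
      have hc : m ≤ P.comap π := fun r hr => by
        refine hP.mem_of_pow_mem 2 ?_
        rw [← map_pow, Ideal.Quotient.eq_zero_iff_mem.2 (hsq (Ideal.pow_mem_pow hr 2))]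
        exact P.zero_mem
      haveI : (P.comap π).IsMaximal :=
        (maximalIdeal.isMaximal O).eq_of_le (Ideal.comap_ne_top _ hP.ne_top) hc ▸ maximalIdeal.isMaximal O
      have hmap := Ideal.map_eq_top_or_isMaximal_of_surjective π Ideal.Quotient.mk_surjective ‹(P.comap π).IsMaximal›
      rw [Ideal.map_comap_of_surjective _ Ideal.Quotient.mk_surjective] at hmap
      exact hmap.resolve_left hP.ne_top
    exact IsNoetherianRing.isArtinianRing_of_krullDimLE_zero
  refine GorLib.gorenstein_of_simpleSocle ⟨π u, hπu, fun r hr => ?_, fun x hx => ?_⟩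
  · obtain ⟨r, rfl⟩ := Ideal.Quotient.mk_surjective r
    rw [← map_mul]
    exact Ideal.Quotient.eq_zero_iff_mem.2 (hsq (by rw [pow_two]; exact Ideal.mul_mem_mul (hmap r hr) h.mem_left))
  · obtain ⟨x, rfl⟩ := Ideal.Quotient.mk_surjective x
    have hxm : x ∈ m := by
      by_contra hxm
      obtain ⟨e, he⟩ := notMem_maximalIdeal.1 hxm
      have hu : π u ∈ maximalIdeal (O ⧸ Ideal.span {t}) := by
        rw [mem_maximalIdeal]
        intro huu
        exact hπu ((huu.pow 2).mul_right_eq_zero.1 (by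
          rw [← map_pow, Ideal.Quotient.eq_zero_iff_mem.2 (hsq (Ideal.pow_mem_pow h.mem_left 2)), zero_mul] : π u ^ 2 * π u = 0))
      exact hπu ((he ▸ (e.isUnit.map π)).mul_left_eq_zero.1 (hx _ hu))
    rw [show m = maximalIdeal O from rfl, h.1, Ideal.mem_span_pair] at hxm
    obtain ⟨a, b, rfl⟩ := hxm
    refine ⟨π (a - b), ?_⟩
    rw [← map_mul, Ideal.Quotient.mk_eq_mk_iff_sub_mem]
    exact Ideal.mem_span_singleton'.2 ⟨b, by simp only [t]; ring⟩

variable {k : Type u} [Field k] {X : Scheme.{u}} [X.Over (Spec (CommRingCat.of k))]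
  [LocallyOfFiniteType (X ↘ Spec (CommRingCat.of k))]

theorem smooth_or_node_at (hc : NodalLib.Comps1 X) (hX : Curv2.AtWorstNodal k X) (x : X) :
    (∃ U : X.Opens, x ∈ U ∧ Smooth (U.ι ≫ (X ↘ Spec (CommRingCat.of k)))) ∨ Curv2.IsNode k X x := by
  by_cases hx : IsClosed ({x} : Set X)
  · exact hX x hx
  · exact Or.inl (smooth_nhd_of_not_closed k X (fun Z hZ => (hc Z hZ).le) hX hx)

theorem regular_of_smooth_nhd {x : X} (h : ∃ U : X.Opens, x ∈ U ∧ Smooth (U.ι ≫ (X ↘ Spec (CommRingCat.of k)))) :
    IsRegularLocalRing (X.presheaf.stalk x) := by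
  obtain ⟨U, hU, hs⟩ := h
  haveI := hs
  haveI := ASp.isRegularLocalRing_stalk_of_smooth_field (U.ι ≫ (X ↘ Spec (CommRingCat.of k))) ⟨x, hU⟩
  exact IsRegularLocalRing.of_ringEquiv (asIso (U.ι.stalkMap ⟨x, hU⟩)).commRingCatIsoToRingEquiv.symm

theorem gorenstein_stalk (hc : NodalLib.Comps1 X) (hX : Curv2.AtWorstNodal k X) (x : X) :
    LocCoh.IsGorensteinLocalRing (X.presheaf.stalk x) := by
  rcases smooth_or_node_at hc hX x with hs | hn
  · haveI := regular_of_smooth_nhd hs
    exact Groth.Agent.S0342.result _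
  · let K := AlgebraicClosure k
    obtain ⟨z, rfl⟩ := surjective_bcFst k X K x
    letI : (Curv2.bc k X K).Over (Spec (CommRingCat.of K)) := ⟨Curv2.bcSnd k X K⟩
    haveI : LocallyOfFiniteType (Curv2.bc k X K ↘ Spec (CommRingCat.of K)) :=
      inferInstanceAs (LocallyOfFiniteType (pullback.snd (X ↘ Spec (CommRingCat.of k)) _))
    haveI := LocallyOfFiniteType.isLocallyNoetherian (Curv2.bc k X K ↘ Spec (CommRingCat.of K))
    haveI := LocallyOfFiniteType.isLocallyNoetherian (X ↘ Spec (CommRingCat.of k))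
    letI := Curv2.stalkAlgebra K (Curv2.bc k X K) z
    have hK := rational_stalk (K := K) (NodalLib.closed_over hn.1 z rfl)
    obtain ⟨hd, a, b, hg⟩ := (isOrdDoublePt_iff K _ hK).1 (ordPtBc_of_isNode k X _ hn z rfl)
    haveI := flat_bcFst k X K
    letI : Algebra (X.presheaf.stalk (Curv2.bcFst k X K z)) ((Curv2.bc k X K).presheaf.stalk z) :=
      ((Curv2.bcFst k X K).stalkMap z).hom.toAlgebra
    haveI : IsLocalHom (algebraMap (X.presheaf.stalk (Curv2.bcFst k X K z)) ((Curv2.bc k X K).presheaf.stalk z)) :=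
      (Curv2.bcFst k X K).toLRSHom.prop z
    haveI : Module.Flat (X.presheaf.stalk (Curv2.bcFst k X K z)) ((Curv2.bc k X K).presheaf.stalk z) :=
      Flat.stalkMap (Curv2.bcFst k X K) z
    haveI := essFiniteType_stalk (k := K) z
    exact ((Groth.Agent.S0344.result _ _).1 (gorenstein_of_node hK hg hd)).1

theorem isReduced_of_atWorstNodal (hc : NodalLib.Comps1 X) (hX : Curv2.AtWorstNodal k X) : IsReduced X := by
  haveI : ∀ x : X, _root_.IsReduced (X.presheaf.stalk x) := fun x => by
    rcases smooth_or_node_at hc hX x with hs | hn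
    · haveI := regular_of_smooth_nhd hs
      obtain ⟨d, hd⟩ : ∃ d : ℕ, ringKrullDim (X.presheaf.stalk x) = d :=
        ⟨_, (IsRegularLocalRing.spanFinrank_maximalIdeal (R := X.presheaf.stalk x)).symm⟩
      haveI : IsDomain (X.presheaf.stalk x) := RegLocal.isDomain_aux d _ hd
      infer_instance
    · let K := AlgebraicClosure k
      obtain ⟨z, rfl⟩ := surjective_bcFst k X K x
      letI : (Curv2.bc k X K).Over (Spec (CommRingCat.of K)) := ⟨Curv2.bcSnd k X K⟩
      haveI : LocallyOfFiniteType (Curv2.bc k X K ↘ Spec (CommRingCat.of K)) :=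
        inferInstanceAs (LocallyOfFiniteType (pullback.snd (X ↘ Spec (CommRingCat.of k)) _))
      haveI := LocallyOfFiniteType.isLocallyNoetherian (Curv2.bc k X K ↘ Spec (CommRingCat.of K))
      letI := Curv2.stalkAlgebra K (Curv2.bc k X K) z
      haveI := isReduced_of_ordDoublePt (K := K) (A := (Curv2.bc k X K).presheaf.stalk z)
        (ordPtBc_of_isNode k X _ hn z rfl)
      haveI := flat_bcFst k X K
      exact isReduced_of_injective ((Curv2.bcFst k X K).stalkMap z).hom
        (ASp.injective_stalkMap_of_flat (Curv2.bcFst k X K) z)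
  exact isReduced_of_isReduced_stalk X

theorem geometricallyReduced_of_atWorstNodal (hc : NodalLib.Comps1 X) (hX : Curv2.AtWorstNodal k X) :
    GeometricallyReduced (X ↘ Spec (CommRingCat.of k)) := by
  refine ⟨fun K _ y Z fst snd h => ?_⟩
  obtain ⟨φ, rfl⟩ := Spec.map_surjective y
  letI : Algebra k K := φ.hom.toAlgebra
  letI : (Curv2.bc k X K).Over (Spec (CommRingCat.of K)) := ⟨Curv2.bcSnd k X K⟩
  haveI : LocallyOfFiniteType (Curv2.bc k X K ↘ Spec (CommRingCat.of K)) :=
    inferInstanceAs (LocallyOfFiniteType (pullback.snd (X ↘ Spec (CommRingCat.of k)) _))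
  have hred := isReduced_of_atWorstNodal (X := Curv2.bc k X K) ((comps1_bc_iff k X K).2 hc) (atWorstNodal_bc hc hX K)
  exact isReduced_of_isOpenImmersion h.isoPullback.hom

end Groth.Agent.NodePtLib
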