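import Groth.Agent.NodePtLib.Open
import Groth.Agent.OmegaUnivLib.Aff

/-!
# The singular scheme of a nodal family is unramified
-/

set_option autoImplicit false
set_option backward.isDefEq.respectTransparency false
set_option linter.style.haveILetI false
set_option linter.unusedSectionVars false

universe u

open CategoryTheory CategoryTheory.Limits AlgebraicGeometry IsLocalRing

noncomputable section

namespace Groth.Agent.NodePtLib

theorem krullDimLE_one_stalk {X : Scheme.{u}} (hX1 : NodalLib.Comps1 X) {x : X} (hx : IsClosed ({x} : Set X)) :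
    Ring.KrullDimLE 1 (X.presheaf.stalk x) := Ring.krullDimLE_iff.2 (by
  rw [ringKrullDim_stalk_eq_coheight]
  have h : Order.coheight x ≤ (1 : ℕ) := Order.coheight_le_coe_iff.2 fun b hb => by
    have hbs : b ⤳ x := hb.le
    have hbc : ¬ IsClosed ({b} : Set X) := fun hbc => hb.2 (specializes_of_eq (hbs.mem_closed hbc rfl))
    have hb0 : Order.coheight b = 0 := Order.coheight_eq_zero.2 fun v hv => by
      rw [maximal_of_not_closed (fun Z hZ => (hX1 Z hZ).le) hbc v hv]
    rw [hb0]
    exact_mod_cast Nat.zero_lt_one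
  exact_mod_cast h)

section Field

variable {k : Type u} [Field k] {X : Scheme.{u}} [X.Over (Spec (CommRingCat.of k))]
  [LocallyOfFiniteType (X ↘ Spec (CommRingCat.of k))] [QuasiSeparated (X ↘ Spec (CommRingCat.of k))]

theorem jac_eq_top_of_smooth (hX1 : NodalLib.Comps1 X) {x : X} (hx : IsClosed ({x} : Set X))
    (hs : ∃ U : X.Opens, x ∈ U ∧ Smooth (U.ι ≫ (X ↘ Spec (CommRingCat.of k)))) : jac k X x = ⊤ := by
  let K := AlgebraicClosure k
  haveI := LocallyOfFiniteType.isLocallyNoetherian (X ↘ Spec (CommRingCat.of k))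
  haveI : LocallyOfFinitePresentation (X ↘ Spec (CommRingCat.of k)) :=
    LocallyOfFinitePresentation.iff_locallyOfFiniteType.mpr inferInstance
  letI : (Curv2.bc k X K).Over (Spec (CommRingCat.of K)) := ⟨Curv2.bcSnd k X K⟩
  haveI : LocallyOfFiniteType (Curv2.bc k X K ↘ Spec (CommRingCat.of K)) :=
    inferInstanceAs (LocallyOfFiniteType (pullback.snd (X ↘ Spec (CommRingCat.of k)) _))
  haveI := LocallyOfFiniteType.isLocallyNoetherian (Curv2.bc k X K ↘ Spec (CommRingCat.of K))
  obtain ⟨w, rfl⟩ := surjective_bcFst k X K x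
  have hwc := NodalLib.closed_over hx w rfl
  haveI := regular_of_smooth_nhd (k := K) (X := Curv2.bc k X K) (x := w)
    ((PointBC.smooth_nhd_iff (X ↘ Spec (CommRingCat.of k)) _ w (Or.inr stalkMap_ofHom_flat)).2 hs)
  haveI := krullDimLE_one_stalk ((comps1_bc_iff k X K).2 hX1) hwc
  letI := Curv2.stalkAlgebra K (Curv2.bc k X K) w
  haveI := essFiniteType_stalk (k := K) w
  let M := maximalIdeal ((Curv2.bc k X K).presheaf.stalk w)
  have hle : M.spanFinrank ≤ 1 := by
    have h := IsRegularLocalRing.spanFinrank_maximalIdeal (R := (Curv2.bc k X K).presheaf.stalk w)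
    have h2 := Ring.krullDimLE_iff.1 ‹Ring.KrullDimLE 1 ((Curv2.bc k X K).presheaf.stalk w)›
    rw [← h] at h2
    exact_mod_cast h2
  obtain ⟨t, ht⟩ : ∃ t, M = Ideal.span {t} := by
    rcases Nat.le_one_iff_eq_zero_or_eq_one.1 hle with h | h
    · exact ⟨0, by rw [(Submodule.spanFinrank_eq_zero_iff_eq_bot (Ideal.fg_of_isNoetherianRing M)).1 h,
        Ideal.span_singleton_eq_bot.2 rfl]⟩
    · obtain ⟨⟨t, ht⟩, -⟩ := (Submodule.spanFinrank_eq_one_iff M).1 h
      exact ⟨t, ht⟩
  have htop := fitt_eq_top_of_principal (rational_stalk (K := K) hwc) ht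
  rw [← comap_map_stalk k X K w (jac k X _), ← jac_bc k X K w]
  exact (congrArg (Ideal.comap _) htop).trans (Ideal.comap_top)

theorem notMem_support_of_jac_top {x : X} (h : jac k X x = ⊤) :
    x ∉ (jacSheaf (X ↘ Spec (CommRingCat.of k))).support := fun hx =>
  (IsLocalRing.maximalIdeal.isMaximal (X.presheaf.stalk x)).ne_top (top_le_iff.1
    (h ▸ stalkIdeal_jacSheaf (k := k) x ▸ IdealStalkLib.stalkIdeal_le_maximal _ hx))

end Field

theorem formallyUnramified_jac {X B : Scheme.{u}} (f : X ⟶ B) (hf : Curv2.IsNodalFamily f) [QuasiSeparated f] :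
    haveI := hf.2.1
    FormallyUnramified ((jacSheaf f).subschemeι ≫ f) := by
  classical
  obtain ⟨hflat, hlfp, hfib⟩ := hf
  let Z := jacSheaf f
  have key : ∀ z : Z.subscheme, UnramAt (Z.subschemeι ≫ f) z := by
    intro z
    let s := f.base (Z.subschemeι z)
    let F := f.fiber s
    letI : F.Over (Spec (CommRingCat.of (B.residueField s))) := ⟨f.fiberToSpecResidueField s⟩
    haveI : LocallyOfFiniteType (F ↘ Spec (CommRingCat.of (B.residueField s))) :=
      inferInstanceAs (LocallyOfFiniteType (pullback.snd f _))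
    haveI : QuasiSeparated (F ↘ Spec (CommRingCat.of (B.residueField s))) :=
      inferInstanceAs (QuasiSeparated (pullback.snd f _))
    haveI : QuasiSeparated (f.fiberToSpecResidueField s) := inferInstanceAs (QuasiSeparated (pullback.snd f _))
    let x : F := f.asFiber (Z.subschemeι z)
    have hmem : pullback.fst f (B.fromSpecResidueField s) x ∈ Z.support := by
      have h : f.fiberι s x ∈ Set.range Z.subschemeι := ⟨z, (f.fiberι_asFiber _).symm⟩
      rwa [Scheme.IdealSheafData.range_subschemeι] at h
    obtain ⟨z', hz'⟩ := exists_over f (B.fromSpecResidueField s) x hmem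
    let ZF := jacSheaf (f.fiberToSpecResidueField s)
    haveI : LocallyOfFiniteType (f.fiberToSpecResidueField s) := inferInstanceAs (LocallyOfFiniteType (pullback.snd f _))
    haveI : JacobsonSpace ZF.subscheme :=
      LocallyOfFiniteType.jacobsonSpace (ZF.subschemeι ≫ f.fiberToSpecResidueField s)
    obtain ⟨zc, hzc, hzcc⟩ := nonempty_inter_closedPoints (Z := closure ({z'} : Set ZF.subscheme))
      (Set.singleton_nonempty z').closure isClosed_closure.isLocallyClosed
    have hcc : IsClosed ({ZF.subschemeι zc} : Set F) := by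
      have h := ZF.subschemeι.isClosedEmbedding.isClosedMap _ hzcc
      rwa [Set.image_singleton] at h
    have hzcmem : ZF.subschemeι zc ∈ (jacSheaf (F ↘ Spec (CommRingCat.of (B.residueField s)))).support := by
      have h : ZF.subschemeι zc ∈ Set.range ZF.subschemeι := ⟨zc, rfl⟩
      rwa [Scheme.IdealSheafData.range_subschemeι] at h
    have hnode : Curv2.IsNode (B.residueField s) F (ZF.subschemeι zc) :=
      ((hfib s).2 _ hcc).resolve_left fun hs => notMem_support_of_jac_top (k := B.residueField s)
        (jac_eq_top_of_smooth (k := B.residueField s) (hfib s).1 hcc hs) hzcmem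
    have hun : UnramAt (ZF.subschemeι ≫ f.fiberToSpecResidueField s) zc :=
      unramAt_of_isNode (k := B.residueField s) (X := F) zc hnode
    obtain ⟨U, hU, hUu⟩ := hun
    have hun' : UnramAt (ZF.subschemeι ≫ f.fiberToSpecResidueField s) z' :=
      ⟨U, (specializes_iff_mem_closure.2 hzc).mem_open U.2 hU, hUu⟩
    exact (unramAt_jac_bc f (B.fromSpecResidueField s) x z z' (f.fiberι_asFiber _).symm hz').1 hun'
  choose U hzU hU using key
  haveI := hU
  exact IsZariskiLocalAtSource.of_openCover
    (Scheme.openCoverOfIsOpenCover _ U (TopologicalSpace.IsOpenCover.mk (top_le_iff.1 fun z _ =>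
      TopologicalSpace.Opens.mem_iSup.2 ⟨z, hzU z⟩))) fun i => hU i

/-- Fitting ideals of isomorphic sheaves of modules. -/
theorem sheafIdeal_congr {X : Scheme.{u}} {F G : X.Modules} (e : F ≅ G)
    (hF : ∀ U : X.affineOpens, Module.Finite Γ(X, U.1) Γ(F, U.1)) (r : ℕ) :
    Fitt.sheafIdeal F r = Fitt.sheafIdeal G r := by
  refine congrArg Scheme.IdealSheafData.ofIdeals (funext fun U => ?_)
  haveI := hF U
  let eU : Γ(F, U.1) ≃ₗ[Γ(X, U.1)] Γ(G, U.1) :=
    { toFun := e.hom.app U.1
      invFun := e.inv.app U.1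
      map_add' := fun a b => map_add _ a b
      map_smul' := fun a b => Scheme.Modules.Hom.app_smul e.hom a b
      left_inv := fun a => congr(($(e.hom_inv_id)).app U.1 a)
      right_inv := fun a => congr(($(e.inv_hom_id)).app U.1 a) }
  exact FittLib.ideal_eq_of_equiv eU r

end Groth.Agent.NodePtLib
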