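import Groth.Agent.NodePtLib.Compl
import Groth.Agent.NodalLib.FieldChange
import Groth.Agent.GeomIrred.CurvPoint
import Groth.Agent.FlatLocus.DescentPoint
import Groth.Agent.ASp.GeomRedEt
import Groth.Agent.ASp.DecentDim
import Groth.Agent.RegLocal.Completion
import Mathlib.RingTheory.MvPowerSeries.Equiv

/-!
# Nodes under a change of algebraically closed field
-/

set_option autoImplicit false
set_option backward.isDefEq.respectTransparency false
set_option linter.style.haveILetI false
set_option linter.unusedSectionVars false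

universe u

open CategoryTheory CategoryTheory.Limits AlgebraicGeometry IsLocalRing

noncomputable section

namespace Groth.Agent.NodePtLib

section Algebra

theorem prime_X (K : Type u) [Field K] (i : Fin 2) : Prime (MvPowerSeries.X i : MvPowerSeries (Fin 2) K) := by
  have h0 : Prime (MvPowerSeries.X 0 : MvPowerSeries (Fin 2) K) := by
    rw [← MulEquiv.prime_iff (MvPowerSeries.finSuccEquiv K 1).toMulEquiv]
    show Prime ((MvPowerSeries.finSuccEquiv K 1) (MvPowerSeries.X 0))
    rw [MvPowerSeries.finSuccEquiv_X_zero]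
    haveI : IsDomain (MvPowerSeries (Fin 1) K) := NoZeroDivisors.to_isDomain _
    exact PowerSeries.X_prime
  let e := MvPowerSeries.renameEquiv K (Equiv.swap (0 : Fin 2) i)
  have he : e (MvPowerSeries.X 0) = MvPowerSeries.X i := by simp [e]
  rw [← he]
  exact (MulEquiv.prime_iff e.toMulEquiv).2 h0

instance isReduced_model (K : Type u) [Field K] : _root_.IsReduced (Model K) := by
  refine (Ideal.isRadical_iff_quotient_reduced _).1 fun F ⟨n, hn⟩ => ?_
  rw [Ideal.mem_span_singleton] at hn ⊢
  obtain ⟨G, rfl⟩ := (prime_X K 0).dvd_of_dvd_pow (dvd_trans (dvd_mul_right _ _) hn)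
  rcases (prime_X K 1).dvd_or_dvd ((prime_X K 1).dvd_of_dvd_pow (dvd_trans (dvd_mul_left _ _) hn)) with h | h
  · exact absurd (MvPowerSeries.X_dvd_iff.1 h (Finsupp.single 0 1) (by simp)) (by
      simp [MvPowerSeries.coeff_X])
  · exact mul_dvd_mul_left _ h

theorem mX_ne_zero (K : Type u) [Field K] (i : Fin 2) : mX K i ≠ 0 := by
  intro h
  rw [mX, Ideal.Quotient.eq_zero_iff_mem, Ideal.mem_span_singleton] at h
  fin_cases i
  · exact absurd (MvPowerSeries.X_dvd_iff.1 (dvd_trans (dvd_mul_left _ _) h) (Finsupp.single 0 1) (by simp))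
      (by simp [MvPowerSeries.coeff_X])
  · exact absurd (MvPowerSeries.X_dvd_iff.1 (dvd_trans (dvd_mul_right _ _) h) (Finsupp.single 1 1) (by simp))
      (by simp [MvPowerSeries.coeff_X])

variable {K : Type u} [Field K] {A : Type u} [CommRing A] [IsLocalRing A] [IsNoetherianRing A] [Algebra K A]

theorem isReduced_of_ordDoublePt (h : Curv2.IsOrdDoublePt K A) : _root_.IsReduced A := by
  obtain ⟨e, -⟩ := h
  exact isReduced_of_injective (e.toRingHom.comp (algebraMap A (AdicCompletion (maximalIdeal A) A)))
    (e.injective.comp (AdicCompletion.of_injective (maximalIdeal A) A))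

theorem not_regular_of_ordDoublePt (h : Curv2.IsOrdDoublePt K A) : ¬ IsRegularLocalRing A := fun hr => by
  obtain ⟨e, -⟩ := h
  haveI : IsRegularLocalRing (AdicCompletion (maximalIdeal A) A) :=
    (RegLocal.isRegularLocalRing_completion_iff A _ (maximalIdeal.isMaximal A).ne_top).1 hr
  haveI : IsRegularLocalRing (Model K) := IsRegularLocalRing.of_ringEquiv e
  obtain ⟨d, hd⟩ : ∃ d : ℕ, ringKrullDim (Model K) = d :=
    ⟨_, (IsRegularLocalRing.spanFinrank_maximalIdeal (R := Model K)).symm⟩
  haveI : IsDomain (Model K) := RegLocal.isDomain_aux d _ hd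
  exact (mul_ne_zero (mX_ne_zero K 0) (mX_ne_zero K 1)) (mX_mul K)

/-- Dimensions of jets under a flat map with trivial closed fibre. -/
theorem finrank_jet_eq {k L : Type u} [Field k] [Field L] {A B : Type u} [CommRing A] [IsLocalRing A]
    [CommRing B] [IsLocalRing B] [Algebra k A] [Algebra L B] (hA : Rational k A) (hB : Rational L B)
    (φ : A →+* B) [IsLocalHom φ] (hflat : φ.Flat) (hm : (maximalIdeal A).map φ = maximalIdeal B) (N : ℕ) :
    Module.finrank L (B ⧸ maximalIdeal B ^ N) = Module.finrank k (A ⧸ maximalIdeal A ^ N) := by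
  have key : ∀ (k : Type u) [Field k] (A : Type u) [CommRing A] [IsLocalRing A] [Algebra k A],
      Rational k A → ∀ (M : Type u) [AddCommGroup M] [Module A M] [Module k M] [IsScalarTower k A M],
        Module.finrank k M = (Module.length A M).toNat := by
    intro k _ A _ _ _ hA M _ _ _ _
    haveI : IsLocalHom (algebraMap k A) := ⟨fun a ha => isUnit_iff_ne_zero.2 fun h => by
      rw [h, map_zero] at ha; exact not_isUnit_zero ha⟩
    have hs : Function.Surjective (algebraMap (ResidueField k) (ResidueField A)) := fun z => by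
      obtain ⟨a, rfl⟩ := residue_surjective z
      obtain ⟨c, hc⟩ := hA a
      refine ⟨residue k c, ?_⟩
      show residue A (algebraMap k A c) = residue A a
      exact ((Ideal.Quotient.mk_eq_mk_iff_sub_mem a (algebraMap k A c)).2 hc).symm
    have h1 : Module.length (ResidueField k) (ResidueField A) = 1 := by
      rw [Module.length_eq_of_surjective (M := ResidueField A) hs, Module.length_eq_one]
    have h := IsLocalRing.length_restrictScalars k A M
    rw [h1, mul_one, Module.length_eq_rank] at h
    rw [← h]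
    simp [Module.finrank, Cardinal.toNat_toENat]
  rw [key L B hB, key k A hA]
  letI := φ.toAlgebra
  haveI : Module.Flat A B := hflat
  haveI : IsLocalHom (algebraMap A B) := ‹IsLocalHom φ›
  have h := IsLocalRing.length_baseChange A B (A ⧸ maximalIdeal A ^ N)
  rw [RingHom.algebraMap_toAlgebra] at h
  rw [hm, Module.length_eq_one_iff.2 (isSimpleModule_iff_quot_maximal.2 ⟨_, maximalIdeal.isMaximal B, ⟨LinearEquiv.refl B _⟩⟩),
    mul_one] at h
  rw [← h, ← ((Algebra.TensorProduct.quotIdealMapEquivTensorQuot B (maximalIdeal A ^ N)).toLinearEquiv.length_eq)]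
  congr 1
  rw [Ideal.map_pow, show (maximalIdeal A).map (algebraMap A B) = maximalIdeal B from hm]

end Algebra

section Points

/-- A point with a field as local ring is smooth over a perfect field. -/
theorem formallySmooth_stalkMap_of_isField {K : Type u} [Field K] [PerfectField K] {X : Scheme.{u}}
    (f : X ⟶ Spec (CommRingCat.of K)) [LocallyOfFiniteType f] {x : X} (hF : IsField (X.presheaf.stalk x)) :
    (f.stalkMap x).hom.FormallySmooth := by
  have := LocallyOfFiniteType.stalkMap f x
  algebraize [(f.stalkMap x).hom]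
  let K' := (Spec.structureSheaf K).presheaf.stalk (f x)
  let e : K ≃ₐ[K] K' := IsLocalization.atUnits _ (f x).asIdeal.primeCompl
      (fun c hc ↦ by aesop (add simp IsUnit.mem_submonoid_iff))
  have : Algebra.IsAlgebraic K K' :=
    .of_injective e.symm.toAlgHom e.symm.injective
  let : Field K' := (e.toRingEquiv.symm.isField (Field.toIsField K)).toField
  let : Field ((Spec (CommRingCat.of K)).presheaf.stalk (f x)) := this
  have : PerfectField ((Spec (CommRingCat.of K)).presheaf.stalk (f x)) :=
    Algebra.IsAlgebraic.perfectField (K := K) (L := (Spec.structureSheaf K).presheaf.stalk (f x))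
  let : Field (X.presheaf.stalk x) := hF.toField
  exact Algebra.FormallySmooth.of_perfectField

/-- The local ring at a point is an ordinary double point. -/
def OrdPt (K : Type u) [Field K] (V : Scheme.{u}) [V.Over (Spec (CommRingCat.of K))] (x : V) : Prop :=
  letI := Curv2.stalkAlgebra K V x
  Curv2.IsOrdDoublePt K (V.presheaf.stalk x)

theorem rational_stalk {K : Type u} [Field K] [IsAlgClosed K] {V : Scheme.{u}}
    [V.Over (Spec (CommRingCat.of K))] [LocallyOfFiniteType (V ↘ Spec (CommRingCat.of K))] {x : V}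
    (hx : IsClosed ({x} : Set V)) :
    @Rational K _ (V.presheaf.stalk x) _ _ (Curv2.stalkAlgebra K V x) := by
  intro a
  obtain ⟨c, hc⟩ := NodalLib.resMap_surjective (K := K) hx (residue _ a)
  exact ⟨c, (Ideal.Quotient.mk_eq_mk_iff_sub_mem _ _).1 hc.symm⟩

theorem isIso_fromSpecResidueField {K : Type u} [Field K] [IsAlgClosed K] {V : Scheme.{u}}
    [V.Over (Spec (CommRingCat.of K))] [LocallyOfFiniteType (V ↘ Spec (CommRingCat.of K))] {x : V}
    (hx : IsClosed ({x} : Set V)) :
    IsIso (V.fromSpecResidueField x ≫ (V ↘ Spec (CommRingCat.of K))) := by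
  rw [← GeomIrred.spec_resMap]
  haveI : IsIso (CommRingCat.ofHom (Curv2.resMap K V x)) :=
    (RingEquiv.ofBijective _ ⟨RingHom.injective _, NodalLib.resMap_surjective (K := K) hx⟩).toCommRingCatIso.isIso_hom
  infer_instance

variable {k : Type u} [Field k] [IsAlgClosed k] {L : Type u} [Field L] [IsAlgClosed L] [Algebra k L]
variable {V W : Scheme.{u}} [V.Over (Spec (CommRingCat.of k))] [W.Over (Spec (CommRingCat.of L))]
variable [LocallyOfFiniteType (V ↘ Spec (CommRingCat.of k))]
variable {j : W ⟶ V} (sq : IsPullback j (W ↘ Spec (CommRingCat.of L)) (V ↘ Spec (CommRingCat.of k))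
  (Spec.map (CommRingCat.ofHom (algebraMap k L))))

include sq

theorem flat_of_sq : Flat j := by
  refine MorphismProperty.of_isPullback sq.flip ?_
  rw [HasRingHomProperty.Spec_iff (P := @Flat)]
  exact RingHom.flat_algebraMap_iff.2 inferInstance

theorem lft_of_sq : LocallyOfFiniteType (W ↘ Spec (CommRingCat.of L)) :=
  MorphismProperty.of_isPullback sq inferInstance

/-- The fibre over a closed point is one rational point. -/
theorem isIso_fiber {v : V} (hv : IsClosed ({v} : Set V)) :
    IsIso (j.fiberι v ≫ (W ↘ Spec (CommRingCat.of L))) := by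
  haveI := isIso_fromSpecResidueField (K := k) hv
  exact ((IsPullback.of_hasPullback j (V.fromSpecResidueField v)).paste_horiz sq.flip).isIso_fst_of_isIso

theorem eq_of_map_eq {w w' : W} (hv : IsClosed ({j w} : Set V)) (h : j w = j w') : w = w' := by
  haveI := isIso_fiber sq hv
  obtain ⟨z, hz⟩ : w ∈ Set.range (j.fiberι (j w)) := by rw [j.range_fiberι]; rfl
  obtain ⟨z', hz'⟩ : w' ∈ Set.range (j.fiberι (j w)) := by rw [j.range_fiberι]; exact h.symm
  rw [← hz, ← hz']
  exact congrArg _ ((j.fiberι (j w) ≫ (W ↘ Spec (CommRingCat.of L))).homeomorph.injective (Subsingleton.elim _ _))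

theorem map_maximalIdeal_eq {w : W} (hv : IsClosed ({j w} : Set V)) :
    (maximalIdeal (V.presheaf.stalk (j w))).map (j.stalkMap w).hom = maximalIdeal (W.presheaf.stalk w) := by
  have hzex : w ∈ Set.range (j.fiberι (j w)) := by rw [j.range_fiberι]; rfl
  haveI := isIso_fiber sq hv
  obtain ⟨z, hz⟩ := hzex
  have key : ∀ {s : V} (z : j.fiber s) [IsIso (j.fiberι s ≫ (W ↘ Spec (CommRingCat.of L)))],
      (maximalIdeal (V.presheaf.stalk (j (j.fiberι s z)))).map (j.stalkMap (j.fiberι s z)).hom =
        maximalIdeal (W.presheaf.stalk (j.fiberι s z)) := by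
    intro s z _
    rw [← FlatLocus.ker_fiberι_stalkMap j s z]
    let e := j.fiberι s ≫ (W ↘ Spec (CommRingCat.of L))
    have hF : IsField ((j.fiber s).presheaf.stalk z) := by
      refine MulEquiv.isField ?_ (asIso (e.stalkMap z)).commRingCatIsoToRingEquiv.symm.toMulEquiv
      rw [show e z = closedPoint L from Subsingleton.elim _ _]
      exact MulEquiv.isField (Field.toIsField L) (stalkClosedPointIso (CommRingCat.of L)).commRingCatIsoToRingEquiv.toMulEquiv
    letI := hF.toField
    exact IsLocalRing.eq_maximalIdeal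
      (RingHom.ker_isMaximal_of_surjective ((j.fiberι s).stalkMap z).hom ((j.fiberι s).stalkMap_surjective z))
  have h := key z
  rwa [hz] at h

variable (w : W)

/-- Ordinary double points correspond. -/
theorem ordPt_iff (hv : IsClosed ({j w} : Set V)) (hw : IsClosed ({w} : Set W)) :
    OrdPt k V (j w) ↔ OrdPt L W w := by
  haveI := lft_of_sq sq
  haveI := flat_of_sq sq
  haveI := LocallyOfFiniteType.isLocallyNoetherian (V ↘ Spec (CommRingCat.of k))
  haveI := LocallyOfFiniteType.isLocallyNoetherian (W ↘ Spec (CommRingCat.of L))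
  letI := Curv2.stalkAlgebra k V (j w)
  letI := Curv2.stalkAlgebra L W w
  have hA := rational_stalk (K := k) hv
  have hB := rational_stalk (K := L) hw
  exact isOrdDoublePt_baseChange hA hB (j.stalkMap w).hom (map_maximalIdeal_eq sq hv)
    (finrank_jet_eq hA hB _ (Flat.stalkMap j w) (map_maximalIdeal_eq sq hv))

/-- No ordinary double point lies over a generic point. -/
theorem not_ordPt_of_maximal (hmax : ∀ v' : V, v' ⤳ j w → v' = j w) : ¬ OrdPt L W w := fun h => by
  haveI := lft_of_sq sq
  haveI := flat_of_sq sq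
  haveI := LocallyOfFiniteType.isLocallyNoetherian (V ↘ Spec (CommRingCat.of k))
  haveI := LocallyOfFiniteType.isLocallyNoetherian (W ↘ Spec (CommRingCat.of L))
  haveI : LocallyOfFinitePresentation (V ↘ Spec (CommRingCat.of k)) :=
    LocallyOfFinitePresentation.iff_locallyOfFiniteType.mpr inferInstance
  haveI : LocallyOfFinitePresentation (W ↘ Spec (CommRingCat.of L)) :=
    LocallyOfFinitePresentation.iff_locallyOfFiniteType.mpr inferInstance
  letI := Curv2.stalkAlgebra L W w
  haveI := isReduced_of_ordDoublePt (K := L) (A := W.presheaf.stalk w) h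
  haveI : _root_.IsReduced (V.presheaf.stalk (j w)) :=
    isReduced_of_injective (j.stalkMap w).hom (ASp.injective_stalkMap_of_flat j w)
  haveI : Ring.KrullDimLE 0 (V.presheaf.stalk (j w)) :=
    Ring.krullDimLE_iff.2 (ASp.ringKrullDim_stalk_eq_zero hmax).le
  have hF : IsField (V.presheaf.stalk (j w)) := Ring.KrullDimLE.isField_of_isReduced
  obtain ⟨U, hU, hUs⟩ := FlatLocus.exists_nhd_of_isPullback (P := @Smooth) sq w
    ((FlatLocus.exists_smooth_nhd_iff _ _).2 (formallySmooth_stalkMap_of_isField (V ↘ Spec (CommRingCat.of k)) hF))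
  haveI := hUs
  haveI := ASp.isRegularLocalRing_stalk_of_smooth_field (U.ι ≫ (W ↘ Spec (CommRingCat.of L))) ⟨w, hU⟩
  exact not_regular_of_ordDoublePt h (IsRegularLocalRing.of_ringEquiv
    (asIso (U.ι.stalkMap ⟨w, hU⟩)).commRingCatIsoToRingEquiv.symm)

end Points

end Groth.Agent.NodePtLib
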