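import Groth.Agent.NodePtLib.Crit
import Groth.Agent.NodePtLib.Geom
import Groth.Agent.FieldExtLib.CompleteLift
import Mathlib.RingTheory.Etale.Field
import Mathlib.RingTheory.AdicCompletion.LocalRing

/-!
# Points with a non-degenerate quadratic tangent cone
-/

set_option autoImplicit false
set_option backward.isDefEq.respectTransparency false
set_option linter.unusedSectionVars false
set_option linter.style.haveILetI false

universe u

open IsLocalRing

noncomputable section

namespace Groth.Agent.NodePtLib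

/-- The value of a binary quadratic form. -/
def qv {C : Type u} [CommRing C] (a b c x y : C) : C := a * x ^ 2 + b * x * y + c * y ^ 2

theorem map_qv {C D : Type u} [CommRing C] [CommRing D] (φ : C →+* D) (a b c x y : C) :
    φ (qv a b c x y) = qv (φ a) (φ b) (φ c) (φ x) (φ y) := by
  simp [qv]

theorem qv_sub_mem {C : Type u} [CommRing C] {I : Ideal C} {a b c x y a' b' c' x' y' : C}
    (ha : a - a' ∈ I) (hb : b - b' ∈ I) (hc : c - c' ∈ I) (hx : x - x' ∈ I ^ 2) (hy : y - y' ∈ I ^ 2)
    (h1 : x ∈ I) (h2 : y ∈ I) (h3 : x' ∈ I) (h4 : y' ∈ I) :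
    qv a b c x y - qv a' b' c' x' y' ∈ I ^ 3 := by
  have e2 : ∀ {u v : C}, u ∈ I → v ∈ I → u * v ∈ I ^ 2 := fun hu hv => by
    rw [pow_two]; exact Ideal.mul_mem_mul hu hv
  have e3 : ∀ {u v : C}, u ∈ I → v ∈ I ^ 2 → u * v ∈ I ^ 3 := fun hu hv => by
    rw [pow_succ' I 2]; exact Ideal.mul_mem_mul hu hv
  rw [show qv a b c x y - qv a' b' c' x' y' = (a - a') * (x * x) + (b - b') * (x * y) + (c - c') * (y * y) +
    a' * ((x + x') * (x - x')) + b' * (y * (x - x') + x' * (y - y')) + c' * ((y + y') * (y - y')) by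
    simp only [qv]; ring]
  exact add_mem (add_mem (add_mem (add_mem (add_mem (e3 ha (e2 h1 h1)) (e3 hb (e2 h1 h2))) (e3 hc (e2 h2 h2)))
    (Ideal.mul_mem_left _ _ (e3 (add_mem h1 h3) hx))) (Ideal.mul_mem_left _ _ (add_mem (e3 h2 hx) (e3 h3 hy))))
    (Ideal.mul_mem_left _ _ (e3 (add_mem h2 h4) hy))

section Morse

variable {C : Type u} [CommRing C] [IsLocalRing C] [IsNoetherianRing C] [IsAdicComplete (maximalIdeal C) C]

/-- The Morse lemma in two variables. -/
theorem exists_quad_zero {a b c x y : C} (hΔ : IsUnit (4 * a * c - b ^ 2))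
    (hxy : maximalIdeal C = Ideal.span {x, y}) (hq : qv a b c x y ∈ maximalIdeal C ^ 3) :
    ∃ U V : C, maximalIdeal C = Ideal.span {U, V} ∧ qv a b c U V = 0 := by
  classical
  let P : ℕ → C × C → Prop := fun n p =>
    maximalIdeal C = Ideal.span {p.1, p.2} ∧ qv a b c p.1 p.2 ∈ maximalIdeal C ^ (n + 3)
  have step : ∀ n p, P n p → ∃ p', P (n + 1) p' ∧ p'.1 - p.1 ∈ maximalIdeal C ^ (n + 2) ∧
      p'.2 - p.2 ∈ maximalIdeal C ^ (n + 2) := by
    rintro n ⟨x, y⟩ ⟨hxy, hq⟩
    simp only at hxy hq ⊢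
    let p₁ := 2 * a * x + b * y
    let p₂ := b * x + 2 * c * y
    obtain ⟨w, hw⟩ := hΔ
    have hle : maximalIdeal C ≤ Ideal.span {p₁, p₂} := by
      rw [hxy, Ideal.span_le]
      rintro z (rfl | rfl) <;> refine Ideal.mem_span_pair.2 ?_
      · exact ⟨↑w⁻¹ * (2 * c), ↑w⁻¹ * (-b), by
          linear_combination (↑w⁻¹ : C) * z * hw.symm + z * w.inv_mul⟩
      · exact ⟨↑w⁻¹ * (-b), ↑w⁻¹ * (2 * a), by
          linear_combination (↑w⁻¹ : C) * z * hw.symm + z * w.inv_mul⟩
    have hq' : qv a b c x y ∈ maximalIdeal C ^ (n + 2) * Ideal.span {p₁, p₂} := by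
      refine Ideal.mul_mono_right hle ?_
      rw [← pow_succ]; exact hq
    rw [Ideal.span_insert, Ideal.mul_sup] at hq'
    obtain ⟨r₁, hr₁, r₂, hr₂, hr⟩ := Submodule.mem_sup.1 hq'
    obtain ⟨s, hs, rfl⟩ := Ideal.mem_mul_span_singleton.1 hr₁
    obtain ⟨t, ht, rfl⟩ := Ideal.mem_mul_span_singleton.1 hr₂
    refine ⟨(x - s, y - t), ⟨span_eq_of_sub_mem hxy (Ideal.pow_le_pow_right (show 2 ≤ n + 2 by omega) ?_)
      (Ideal.pow_le_pow_right (show 2 ≤ n + 2 by omega) ?_), ?_⟩, ?_, ?_⟩
    · simpa using neg_mem hs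
    · simpa using neg_mem ht
    · simp only
      have e : qv a b c (x - s) (y - t) = qv a b c s t := by
        simp only [qv, p₁, p₂] at hr ⊢
        linear_combination -hr
      rw [e]
      refine Ideal.pow_le_pow_right (show n + 1 + 3 ≤ (n + 2) + (n + 2) by omega) ?_
      rw [pow_add]
      refine add_mem (add_mem ?_ ?_) ?_
      · rw [pow_two s]; exact Ideal.mul_mem_left _ _ (Ideal.mul_mem_mul hs hs)
      · rw [mul_assoc]; exact Ideal.mul_mem_left _ _ (Ideal.mul_mem_mul hs ht)
      · rw [pow_two t]; exact Ideal.mul_mem_left _ _ (Ideal.mul_mem_mul ht ht)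
    · simpa using neg_mem hs
    · simpa using neg_mem ht
  choose f hf using step
  let seq : (n : ℕ) → {p : C × C // P n p} := fun n =>
    Nat.rec (motive := fun n => {p : C × C // P n p}) ⟨(x, y), hxy, hq⟩
      (fun n q => ⟨f n q.1 q.2, (hf n q.1 q.2).1⟩) n
  have hstep : ∀ n, ((seq (n + 1)).1.1 - (seq n).1.1 ∈ maximalIdeal C ^ (n + 2)) ∧
      ((seq (n + 1)).1.2 - (seq n).1.2 ∈ maximalIdeal C ^ (n + 2)) := fun n => (hf n (seq n).1 (seq n).2).2
  obtain ⟨U, hU⟩ := NodeComplLib.exists_limit (maximalIdeal C) (fun n => (seq n).1.1) fun n =>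
    Ideal.pow_le_pow_right (by omega) (hstep n).1
  obtain ⟨V, hV⟩ := NodeComplLib.exists_limit (maximalIdeal C) (fun n => (seq n).1.2) fun n =>
    Ideal.pow_le_pow_right (by omega) (hstep n).2
  refine ⟨U, V, span_eq_of_sub_mem (seq 1).2.1 (hU 1) (hV 1), ?_⟩
  refine NodeComplLib.eq_of_forall_sub_mem (maximalIdeal C) _ _ fun n => ?_
  rw [sub_zero, show qv a b c U V = (a * (U + (seq n).1.1) + b * V) * (U - (seq n).1.1) +
    (b * (seq n).1.1 + c * (V + (seq n).1.2)) * (V - (seq n).1.2) + qv a b c (seq n).1.1 (seq n).1.2 by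
      simp only [qv]; ring]
  exact add_mem (add_mem (Ideal.mul_mem_left _ _ (hU n)) (Ideal.mul_mem_left _ _ (hV n)))
    (Ideal.pow_le_pow_right (by omega) (seq n).2.2)

end Morse

/-! ### The model -/

section QModel

variable {K : Type u} [Field K] (a b c : K)

/-- The quadratic form as a power series. -/
abbrev qSeries : MvPowerSeries (Fin 2) K :=
  MvPowerSeries.C a * MvPowerSeries.X 0 ^ 2 + MvPowerSeries.C b * MvPowerSeries.X 0 * MvPowerSeries.X 1 +
    MvPowerSeries.C c * MvPowerSeries.X 1 ^ 2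

/-- The completed local ring of a point with quadratic cone. -/
abbrev QModel : Type u := MvPowerSeries (Fin 2) K ⧸ Ideal.span {qSeries a b c}

/-- The coordinates. -/
def qX (i : Fin 2) : QModel a b c := Ideal.Quotient.mk _ (MvPowerSeries.X i)

theorem span_q_le : Ideal.span {qSeries a b c} ≤ maximalIdeal (MvPowerSeries (Fin 2) K) ^ 2 := by
  have h : ∀ i j : Fin 2, (MvPowerSeries.X i * MvPowerSeries.X j : MvPowerSeries (Fin 2) K) ∈
      maximalIdeal (MvPowerSeries (Fin 2) K) ^ 2 := fun i j => by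
    rw [pow_two, WildQuotLib.maximalIdeal_eq]
    exact Ideal.mul_mem_mul (Ideal.subset_span ⟨i, rfl⟩) (Ideal.subset_span ⟨j, rfl⟩)
  rw [Ideal.span_le, Set.singleton_subset_iff, SetLike.mem_coe, qSeries, pow_two (MvPowerSeries.X 0),
    pow_two (MvPowerSeries.X 1), mul_assoc (MvPowerSeries.C b)]
  exact add_mem (add_mem (Ideal.mul_mem_left _ _ (h 0 0)) (Ideal.mul_mem_left _ _ (h 0 1)))
    (Ideal.mul_mem_left _ _ (h 1 1))

instance nontrivial_qModel : Nontrivial (QModel a b c) :=
  Ideal.Quotient.nontrivial_iff.2 fun e => (maximalIdeal.isMaximal _).ne_top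
    (top_le_iff.1 (e ▸ (span_q_le a b c).trans (Ideal.pow_le_self two_ne_zero)))

instance isLocalRing_qModel : IsLocalRing (QModel a b c) :=
  .of_surjective' (Ideal.Quotient.mk _) Ideal.Quotient.mk_surjective

theorem map_mk_maximalIdeal_q : (maximalIdeal (MvPowerSeries (Fin 2) K)).map
    (Ideal.Quotient.mk (Ideal.span {qSeries a b c})) = maximalIdeal (QModel a b c) := by
  refine IsLocalRing.eq_maximalIdeal ?_
  refine (Ideal.map_eq_top_or_isMaximal_of_surjective (Ideal.Quotient.mk (Ideal.span {qSeries a b c}))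
    Ideal.Quotient.mk_surjective (maximalIdeal.isMaximal _)).resolve_left fun h => ?_
  have h' := congrArg (Ideal.comap (Ideal.Quotient.mk _)) h
  rw [Ideal.comap_map_of_surjective _ Ideal.Quotient.mk_surjective, ← RingHom.ker_eq_comap_bot, Ideal.mk_ker,
    sup_eq_left.2 ((span_q_le a b c).trans (Ideal.pow_le_self two_ne_zero)), Ideal.comap_top] at h'
  exact (maximalIdeal.isMaximal _).ne_top h'

theorem maximalIdeal_qModel : maximalIdeal (QModel a b c) = Ideal.span {qX a b c 0, qX a b c 1} := by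
  rw [← map_mk_maximalIdeal_q, WildQuotLib.maximalIdeal_eq, Ideal.map_span]
  congr 1
  ext z
  simp [qX, Fin.exists_fin_two, eq_comm]

theorem qv_qX : qv (algebraMap K (QModel a b c) a) (algebraMap K _ b) (algebraMap K _ c) (qX a b c 0) (qX a b c 1) = 0 :=
  Ideal.Quotient.eq_zero_iff_mem.2 (Ideal.subset_span rfl)

theorem rational_qModel : Rational K (QModel a b c) := fun w => by
  obtain ⟨f, rfl⟩ := Ideal.Quotient.mk_surjective w
  refine ⟨MvPowerSeries.constantCoeff f, ?_⟩
  rw [← map_mk_maximalIdeal_q]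
  refine Ideal.mem_map_of_mem _ (x := f - MvPowerSeries.C (MvPowerSeries.constantCoeff f)) ?_
  rw [WildQuotLib.mem_maximalIdeal_iff_constantCoeff, map_sub, MvPowerSeries.constantCoeff_C, sub_self]

/-- The maximal ideal of the model needs two generators. -/
theorem qModel_ne_principal (w : QModel a b c) : maximalIdeal (QModel a b c) ≠ Ideal.span {w} := fun h => by
  obtain ⟨f, rfl⟩ := Ideal.Quotient.mk_surjective w
  have hf : MvPowerSeries.constantCoeff f = 0 := by
    rw [← WildQuotLib.mem_maximalIdeal_iff_constantCoeff]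
    by_contra hcon
    exact (maximalIdeal.isMaximal _).ne_top (h.trans (Ideal.span_singleton_eq_top.2
      ((notMem_maximalIdeal.1 hcon).map (Ideal.Quotient.mk _))))
  have hmul : ∀ (r z : MvPowerSeries (Fin 2) K) (i : Fin 2), MvPowerSeries.coeff (Finsupp.single i 1) (r * z) =
      MvPowerSeries.constantCoeff r * MvPowerSeries.coeff (Finsupp.single i 1) z +
        MvPowerSeries.coeff (Finsupp.single i 1) r * MvPowerSeries.constantCoeff z := fun r z i => by
    classical
    rw [MvPowerSeries.coeff_mul, Finsupp.antidiagonal_single, Finset.sum_map,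
      show Finset.HasAntidiagonal.antidiagonal 1 = {((0 : ℕ), (1 : ℕ)), (1, 0)} from rfl]
    rw [Finset.sum_pair (by decide)]
    simp only [Function.Embedding.coe_prodMap, Function.Embedding.coeFn_mk, Prod.map, Finsupp.single_zero]
    rfl
  have hX0 : ∀ i : Fin 2, MvPowerSeries.constantCoeff (MvPowerSeries.X i : MvPowerSeries (Fin 2) K) = 0 := fun i =>
    MvPowerSeries.constantCoeff_X i
  have hz : ∀ g : MvPowerSeries (Fin 2) K, g ∈ Ideal.span {qSeries a b c} →
      ∀ i, MvPowerSeries.coeff (Finsupp.single i 1) g = 0 := fun g hg i => by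
    obtain ⟨r, rfl⟩ := Ideal.mem_span_singleton'.1 hg
    have h0 : MvPowerSeries.constantCoeff (qSeries a b c) = 0 := by
      simp only [qSeries, map_add, map_mul, map_pow, hX0]
      ring
    have h1 : MvPowerSeries.coeff (Finsupp.single i 1) (qSeries a b c) = 0 := by
      simp only [qSeries, pow_two, map_add, ← mul_assoc, hmul, map_mul, hX0]
      ring
    rw [hmul, h0, h1, mul_zero, mul_zero, add_zero]
  have hlin : ∀ i, ∃ r : K, ∀ j, MvPowerSeries.coeff (Finsupp.single j 1) (MvPowerSeries.X i) =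
      r * MvPowerSeries.coeff (Finsupp.single j 1) f := fun i => by
    have hi : qX a b c i ∈ maximalIdeal (QModel a b c) := by
      rw [maximalIdeal_qModel]
      fin_cases i
      exacts [Ideal.subset_span (Set.mem_insert _ _), Ideal.subset_span (Set.mem_insert_of_mem _ rfl)]
    rw [h] at hi
    obtain ⟨r, hr⟩ := Ideal.mem_span_singleton'.1 hi
    obtain ⟨r, rfl⟩ := Ideal.Quotient.mk_surjective r
    rw [qX, ← map_mul, Ideal.Quotient.eq] at hr
    refine ⟨MvPowerSeries.constantCoeff r, fun j => ?_⟩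
    have h3 := hz _ hr j
    rw [map_sub, sub_eq_zero, hmul, hf, mul_zero, add_zero] at h3
    exact h3.symm
  obtain ⟨r, hr⟩ := hlin 0
  obtain ⟨s, hs⟩ := hlin 1
  have h00 := hr 0
  have h01 := hr 1
  have h11 := hs 1
  simp [MvPowerSeries.coeff_X, Finsupp.single_eq_single_iff] at h00 h01 h11
  rcases h01 with h01 | h01
  · rw [h01, zero_mul] at h00; exact one_ne_zero h00
  · rw [h01, mul_zero] at h11; exact one_ne_zero h11

/-- Two homomorphisms from power series agreeing on the variables. -/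
theorem algHom_ext_ps {D : Type u} [CommRing D] [IsLocalRing D] [IsNoetherianRing D] [Algebra K D]
    {g g' : MvPowerSeries (Fin 2) K →ₐ[K] D} (h : ∀ i, g (MvPowerSeries.X i) = g' (MvPowerSeries.X i))
    (hm : ∀ i, g (MvPowerSeries.X i) ∈ maximalIdeal D) : g = g' := by
  refine AlgHom.ext fun f => ?_
  have key : ∀ (N : ℕ) (f : MvPowerSeries (Fin 2) K), g f - g' f ∈ maximalIdeal D ^ N := by
    intro N
    induction N with
    | zero => intro f; simp
    | succ N ih =>
      intro f
      have hf : f - MvPowerSeries.C (MvPowerSeries.constantCoeff f) ∈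
          Ideal.span (Set.range fun i : Fin 2 => (MvPowerSeries.X i : MvPowerSeries (Fin 2) K)) := by
        rw [← WildQuotLib.maximalIdeal_eq, WildQuotLib.mem_maximalIdeal_iff_constantCoeff, map_sub,
          MvPowerSeries.constantCoeff_C, sub_self]
      obtain ⟨r, hr⟩ := (Ideal.mem_span_range_iff_exists_fun).1 hf
      have e : f = algebraMap K _ (MvPowerSeries.constantCoeff f) + ∑ i, r i * MvPowerSeries.X i := by
        rw [hr]; exact (add_sub_cancel _ f).symm
      rw [e, map_add, map_add, AlgHom.commutes, AlgHom.commutes, add_sub_add_left_eq_sub, map_sum, map_sum,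
        ← Finset.sum_sub_distrib]
      refine Ideal.sum_mem _ fun i _ => ?_
      rw [map_mul, map_mul, ← h i, ← sub_mul, pow_succ]
      exact Ideal.mul_mem_mul (ih _) (hm i)
  rw [← sub_eq_zero]
  have hmem : g f - g' f ∈ ⨅ N : ℕ, maximalIdeal D ^ N := Ideal.mem_iInf.2 fun N => key N f
  rwa [Ideal.iInf_pow_eq_bot_of_isLocalRing _ (maximalIdeal.isMaximal _).ne_top, Ideal.mem_bot] at hmem

/-- A split nondegenerate form gives a reduced model. -/
theorem isReduced_qModel_split {p₁ p₂ s₁ s₂ : K} (ha : a = p₁ * s₁) (hb : b = p₁ * s₂ + p₂ * s₁)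
    (hc : c = p₂ * s₂) (hdet : p₁ * s₂ - p₂ * s₁ ≠ 0) : _root_.IsReduced (QModel a b c) := by
  let d := p₁ * s₂ - p₂ * s₁
  have hXm : ∀ i : Fin 2, (MvPowerSeries.X i : (MvPowerSeries (Fin 2) K)) ∈ maximalIdeal (MvPowerSeries (Fin 2) K) := fun i => by
    rw [WildQuotLib.maximalIdeal_eq]; exact Ideal.subset_span ⟨i, rfl⟩
  let L : Fin 2 → (MvPowerSeries (Fin 2) K) := ![MvPowerSeries.C (s₂ * d⁻¹) * MvPowerSeries.X 0 - MvPowerSeries.C (p₂ * d⁻¹) * MvPowerSeries.X 1,
    MvPowerSeries.C (-(s₁ * d⁻¹)) * MvPowerSeries.X 0 + MvPowerSeries.C (p₁ * d⁻¹) * MvPowerSeries.X 1]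
  let M : Fin 2 → (MvPowerSeries (Fin 2) K) := ![MvPowerSeries.C p₁ * MvPowerSeries.X 0 + MvPowerSeries.C p₂ * MvPowerSeries.X 1,
    MvPowerSeries.C s₁ * MvPowerSeries.X 0 + MvPowerSeries.C s₂ * MvPowerSeries.X 1]
  have hLm : ∀ i, L i ∈ maximalIdeal (MvPowerSeries (Fin 2) K) := fun i => by
    fin_cases i
    · exact sub_mem (Ideal.mul_mem_left _ _ (hXm 0)) (Ideal.mul_mem_left _ _ (hXm 1))
    · exact add_mem (Ideal.mul_mem_left _ _ (hXm 0)) (Ideal.mul_mem_left _ _ (hXm 1))
  have hMm : ∀ i, M i ∈ maximalIdeal (MvPowerSeries (Fin 2) K) := fun i => by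
    fin_cases i <;> exact add_mem (Ideal.mul_mem_left _ _ (hXm 0)) (Ideal.mul_mem_left _ _ (hXm 1))
  obtain ⟨gL, hgL⟩ := ArtFunLib.ps_exists_lift (Λ := K) (σ := Fin 2) (maximalIdeal (MvPowerSeries (Fin 2) K)) L hLm
  obtain ⟨gM, hgM⟩ := ArtFunLib.ps_exists_lift (Λ := K) (σ := Fin 2) (maximalIdeal (MvPowerSeries (Fin 2) K)) M hMm
  have hC : ∀ (g : (MvPowerSeries (Fin 2) K) →ₐ[K] (MvPowerSeries (Fin 2) K)) (t : K), g (MvPowerSeries.C t) = MvPowerSeries.C t := fun g t => g.commutes t
  have hd : MvPowerSeries.C d⁻¹ * (MvPowerSeries.C p₁ * MvPowerSeries.C s₂ - MvPowerSeries.C p₂ * MvPowerSeries.C s₁) =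
      (1 : (MvPowerSeries (Fin 2) K)) := by
    rw [← map_mul, ← map_mul, ← map_sub, ← map_mul, inv_mul_cancel₀ hdet, map_one]
  have hL : ∀ i, gL (M i) = MvPowerSeries.X i := fun i => by
    fin_cases i <;> simp [M, L, map_add, map_mul, hgL, hC]
    · linear_combination (MvPowerSeries.X 0) * hd
    · linear_combination (MvPowerSeries.X 1) * hd
  have hcomp : gL.comp gM = AlgHom.id K (MvPowerSeries (Fin 2) K) := algHom_ext_ps (fun i => by
    rw [AlgHom.comp_apply, hgM, hL]; rfl) (fun i => by rw [AlgHom.comp_apply, hgM, hL]; exact hXm i)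
  have hcomp' : gM.comp gL = AlgHom.id K (MvPowerSeries (Fin 2) K) := algHom_ext_ps (fun i => by
    rw [AlgHom.comp_apply, hgL]
    fin_cases i <;> simp [M, L, map_add, map_mul, map_sub, hgM, hC, AlgHom.coe_id]
    · linear_combination (MvPowerSeries.X 0) * hd
    · linear_combination (MvPowerSeries.X 1) * hd) (fun i => by
    rw [AlgHom.comp_apply, hgL]
    fin_cases i
    · simp [L, map_sub, map_mul, hgM, hC]
      exact sub_mem (Ideal.mul_mem_left _ _ (hMm 0)) (Ideal.mul_mem_left _ _ (hMm 1))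
    · simp [L, map_add, map_mul, hgM, hC]
      exact add_mem (neg_mem (Ideal.mul_mem_left _ _ (hMm 0))) (Ideal.mul_mem_left _ _ (hMm 1)))
  let E : (MvPowerSeries (Fin 2) K) ≃ₐ[K] (MvPowerSeries (Fin 2) K) := AlgEquiv.ofAlgHom gM gL hcomp' hcomp
  have hE : Ideal.span {qSeries a b c} =
      (Ideal.span {(MvPowerSeries.X 0 * MvPowerSeries.X 1 : (MvPowerSeries (Fin 2) K))}).map (E : (MvPowerSeries (Fin 2) K) →+* (MvPowerSeries (Fin 2) K)) := by
    rw [Ideal.map_span, Set.image_singleton]
    congr 2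
    show qSeries a b c = gM (MvPowerSeries.X 0 * MvPowerSeries.X 1)
    rw [map_mul, hgM, hgM]
    subst ha hb hc
    simp [M, qSeries]
    ring
  haveI := isReduced_model K
  exact isReduced_of_injective (Ideal.quotientEquiv _ _ E.toRingEquiv hE).symm.toRingHom
    (Ideal.quotientEquiv _ _ E.toRingEquiv hE).symm.injective

theorem exists_factor {L : Type u} [Field L] [IsAlgClosed L] (a b c : L) (h : 4 * a * c - b ^ 2 ≠ 0) :
    ∃ p₁ p₂ s₁ s₂ : L, a = p₁ * s₁ ∧ b = p₁ * s₂ + p₂ * s₁ ∧ c = p₂ * s₂ ∧ p₁ * s₂ - p₂ * s₁ ≠ 0 := by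
  by_cases ha : a = 0
  · refine ⟨0, 1, b, c, by rw [ha]; ring, by ring, by ring, fun e => h ?_⟩
    linear_combination 4 * c * ha + b * e
  · obtain ⟨r, hr⟩ := IsAlgClosed.exists_root (Polynomial.C a * Polynomial.X ^ 2 + Polynomial.C b * Polynomial.X +
      Polynomial.C c) (by rw [Polynomial.degree_quadratic ha]; decide)
    simp [Polynomial.IsRoot] at hr
    refine ⟨1, -r, a, b + a * r, by ring, by ring, by linear_combination hr, fun e => h ?_⟩
    linear_combination 4 * a * hr - (b + 2 * a * r) * e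

/-- The model of a nondegenerate form is reduced. -/
theorem isReduced_qModel (h : 4 * a * c - b ^ 2 ≠ 0) : _root_.IsReduced (QModel a b c) := by
  classical
  let L := AlgebraicClosure K
  let ι := algebraMap K L
  have h' : 4 * ι a * ι c - ι b ^ 2 ≠ 0 := by
    rw [← map_ofNat ι 4, ← map_mul, ← map_mul, ← map_pow, ← map_sub]
    exact fun e => h (ι.injective (e.trans (map_zero ι).symm))
  obtain ⟨p₁, p₂, s₁, s₂, ha, hb, hc, hd⟩ := exists_factor (ι a) (ι b) (ι c) h'
  haveI := isReduced_qModel_split (ι a) (ι b) (ι c) ha hb hc hd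
  let μ : MvPowerSeries (Fin 2) K →+* MvPowerSeries (Fin 2) L := MvPowerSeries.map ι
  have hq : μ (qSeries a b c) = qSeries (ι a) (ι b) (ι c) := by simp [μ, qSeries]
  let f : QModel a b c →+* QModel (ι a) (ι b) (ι c) := Ideal.quotientMap _ μ (by
    rw [Ideal.span_le, Set.singleton_subset_iff, SetLike.mem_coe, Ideal.mem_comap, hq]
    exact Ideal.subset_span rfl)
  refine isReduced_of_injective f ((injective_iff_map_eq_zero f).2 fun w hw => ?_)
  obtain ⟨g, rfl⟩ := Ideal.Quotient.mk_surjective w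
  rw [Ideal.quotientMap_mk, Ideal.Quotient.eq_zero_iff_mem, Ideal.mem_span_singleton] at hw
  obtain ⟨G, hG⟩ := hw
  obtain ⟨π, hπ⟩ := LinearMap.exists_leftInverse_of_injective (Algebra.linearMap K L)
    (LinearMap.ker_eq_bot.2 ι.injective)
  have hπ1 : ∀ t, π (ι t) = t := fun t => LinearMap.congr_fun hπ t
  let G' : MvPowerSeries (Fin 2) K := fun n => π (MvPowerSeries.coeff n G)
  refine Ideal.Quotient.eq_zero_iff_mem.2 (Ideal.mem_span_singleton.2 ⟨G', ?_⟩)
  ext n
  have h1 := congrArg (MvPowerSeries.coeff n) hG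
  rw [← hq, MvPowerSeries.coeff_map, MvPowerSeries.coeff_mul] at h1
  rw [← hπ1 (MvPowerSeries.coeff n g), h1, map_sum, MvPowerSeries.coeff_mul]
  refine Finset.sum_congr rfl fun p _ => ?_
  rw [MvPowerSeries.coeff_map, ← Algebra.smul_def, map_smul, smul_eq_mul]
  rfl

/-- Two elements spanning a power of the maximal ideal. -/
theorem exists_two_span {C : Type u} [CommRing C] [IsLocalRing C] [Algebra K C] {a b c : K}
    (h : 4 * a * c - b ^ 2 ≠ 0) {x y : C} (hxy : maximalIdeal C = Ideal.span {x, y})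
    (hq : qv (algebraMap K C a) (algebraMap K C b) (algebraMap K C c) x y = 0) (N : ℕ) :
    ∃ P Q : C, P ∈ maximalIdeal C ^ (N + 1) ∧ Q ∈ maximalIdeal C ^ (N + 1) ∧
      maximalIdeal C ^ (N + 1) ≤ Ideal.span {P, Q} := by
  have hx : x ∈ maximalIdeal C := hxy.ge (Ideal.subset_span (Set.mem_insert x {y}))
  have hy : y ∈ maximalIdeal C := hxy.ge (Ideal.subset_span (Set.mem_insert_of_mem x rfl))
  have hstep : ∀ {n : ℕ} {P Q P' Q' : C}, maximalIdeal C ^ n ≤ Ideal.span {P, Q} →
      P * x ∈ Ideal.span {P', Q'} → P * y ∈ Ideal.span {P', Q'} → Q * x ∈ Ideal.span {P', Q'} →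
      Q * y ∈ Ideal.span {P', Q'} → maximalIdeal C ^ (n + 1) ≤ Ideal.span {P', Q'} := by
    intro n P Q P' Q' hn h1 h2 h3 h4
    rw [pow_succ]
    refine (Ideal.mul_mono hn hxy.le).trans ?_
    rw [Ideal.span_mul_span', Ideal.span_le]
    rintro _ ⟨_, rfl | rfl, _, rfl | rfl, rfl⟩ <;> assumption
  by_cases ha : a = 0
  · have hb : b ≠ 0 := fun e => h (by rw [ha, e]; ring)
    have hxy' : x * y = algebraMap K C (-(b⁻¹ * c)) * (y * y) := by
      have hinv : algebraMap K C b⁻¹ * algebraMap K C b = 1 := by rw [← map_mul, inv_mul_cancel₀ hb, map_one]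
      simp only [qv, ha, map_zero] at hq
      rw [map_neg, map_mul]
      linear_combination algebraMap K C b⁻¹ * hq - x * y * hinv
    have haux : ∀ n, x ^ (n + 1) * y ∈ Ideal.span {y ^ (n + 2)} := by
      intro n
      induction n with
      | zero => rw [pow_one, hxy', ← pow_two]; exact Ideal.mul_mem_left _ _ (Ideal.mem_span_singleton_self _)
      | succ n ih =>
        obtain ⟨r, hr⟩ := Ideal.mem_span_singleton'.1 ih
        refine Ideal.mem_span_singleton'.2 ⟨r * algebraMap K C (-(b⁻¹ * c)), ?_⟩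
        calc r * algebraMap K C (-(b⁻¹ * c)) * y ^ (n + 1 + 2)
            = r * y ^ (n + 1) * (algebraMap K C (-(b⁻¹ * c)) * (y * y)) := by ring
          _ = r * y ^ (n + 1) * (x * y) := by rw [hxy']
          _ = r * y ^ (n + 2) * x := by ring
          _ = x ^ (n + 1) * y * x := by rw [hr]
          _ = x ^ (n + 1 + 1) * y := by ring
    refine ⟨x ^ (N + 1), y ^ (N + 1), Ideal.pow_mem_pow hx _, Ideal.pow_mem_pow hy _, ?_⟩
    induction N with
    | zero => simp [hxy]
    | succ N ih =>
      refine hstep ih ?_ ?_ ?_ ?_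
      · rw [← pow_succ]; exact Ideal.subset_span (Set.mem_insert _ _)
      · exact Ideal.span_mono (Set.subset_insert _ _) (haux N)
      · rw [show y ^ (N + 1) * x = y ^ N * (x * y) by ring, hxy',
          show y ^ N * (algebraMap K C (-(b⁻¹ * c)) * (y * y)) = algebraMap K C (-(b⁻¹ * c)) * y ^ (N + 2) by ring]
        exact Ideal.mul_mem_left _ _ (Ideal.subset_span (Set.mem_insert_of_mem _ rfl))
      · rw [← pow_succ]; exact Ideal.subset_span (Set.mem_insert_of_mem _ rfl)
  · have hxx : x * x = algebraMap K C (-(a⁻¹ * b)) * (x * y) + algebraMap K C (-(a⁻¹ * c)) * (y * y) := by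
      have hinv : algebraMap K C a⁻¹ * algebraMap K C a = 1 := by rw [← map_mul, inv_mul_cancel₀ ha, map_one]
      simp only [qv] at hq
      rw [map_neg, map_neg, map_mul, map_mul]
      linear_combination algebraMap K C a⁻¹ * hq - x * x * hinv
    refine ⟨x * y ^ N, y ^ (N + 1), ?_, Ideal.pow_mem_pow hy _, ?_⟩
    · rw [pow_succ']; exact Ideal.mul_mem_mul hx (Ideal.pow_mem_pow hy _)
    induction N with
    | zero => simp [hxy]
    | succ N ih =>
      refine hstep ih ?_ ?_ ?_ ?_
      · rw [show x * y ^ N * x = y ^ N * (x * x) by ring, hxx]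
        exact Ideal.mem_span_pair.2 ⟨algebraMap K C (-(a⁻¹ * b)), algebraMap K C (-(a⁻¹ * c)), by ring⟩
      · rw [mul_assoc, ← pow_succ]; exact Ideal.subset_span (Set.mem_insert _ _)
      · rw [mul_comm]; exact Ideal.subset_span (Set.mem_insert _ _)
      · rw [← pow_succ]; exact Ideal.subset_span (Set.mem_insert_of_mem _ rfl)

/-- A complete ring with a nondegenerate quadratic cone and a non-zero-divisor is the model. -/
theorem exists_iso_qModel {C : Type u} [CommRing C] [IsLocalRing C] [IsNoetherianRing C]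
    [IsAdicComplete (maximalIdeal C) C] [Algebra K C] (hK : Rational K C) {a b c : K} (hΔ : 4 * a * c - b ^ 2 ≠ 0)
    {x y : C} (hxy : maximalIdeal C = Ideal.span {x, y})
    (hq : qv (algebraMap K C a) (algebraMap K C b) (algebraMap K C c) x y ∈ maximalIdeal C ^ 3)
    {t : C} (ht : t ∈ maximalIdeal C) (htd : t ∈ nonZeroDivisors C) (hnp : ∀ z, maximalIdeal C ≠ Ideal.span {z}) :
    Nonempty (C ≃ₐ[K] QModel a b c) := by
  classical
  have hu : IsUnit (4 * algebraMap K C a * algebraMap K C c - algebraMap K C b ^ 2) := by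
    rw [← map_ofNat (algebraMap K C) 4, ← map_mul, ← map_mul, ← map_pow, ← map_sub]
    exact (isUnit_iff_ne_zero.2 hΔ).map _
  obtain ⟨U, V, hUV, hq0⟩ := exists_quad_zero hu hxy hq
  have hUm : U ∈ maximalIdeal C := hUV.ge (Ideal.subset_span (Set.mem_insert _ _))
  have hVm : V ∈ maximalIdeal C := hUV.ge (Ideal.subset_span (Set.mem_insert_of_mem _ rfl))
  obtain ⟨g, hg⟩ := ArtFunLib.ps_exists_lift (Λ := K) (σ := Fin 2) (maximalIdeal C) ![U, V] (fun i => by
    fin_cases i
    exacts [hUm, hVm])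
  have hgC : ∀ t : K, g (MvPowerSeries.C t) = algebraMap K C t := fun t => g.commutes t
  let ψ : QModel a b c →ₐ[K] C := Ideal.Quotient.liftₐ _ g (by
    intro w hw
    obtain ⟨w', rfl⟩ := Ideal.mem_span_singleton.1 hw
    have e : g (qSeries a b c) = qv (algebraMap K C a) (algebraMap K C b) (algebraMap K C c) U V := by
      simp [qSeries, qv, hg, hgC]
    rw [map_mul, e, hq0, zero_mul])
  have hψ0 : ψ (qX a b c 0) = U := hg 0
  have hψ1 : ψ (qX a b c 1) = V := hg 1
  have hmap : (maximalIdeal (QModel a b c)).map ψ = maximalIdeal C := by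
    rw [maximalIdeal_qModel, Ideal.map_span, Set.image_insert_eq, Set.image_singleton, hψ0, hψ1, hUV]
  have hmapN : ∀ N, (maximalIdeal (QModel a b c) ^ N).map ψ = maximalIdeal C ^ N := fun N => by
    rw [Ideal.map_pow, hmap]
  haveI : IsNoetherianRing (MvPowerSeries (Fin 2) K) := inferInstance
  have hinj : Function.Injective ψ := by
    rw [injective_iff_map_eq_zero]
    intro f hf
    have hmem : ∀ N : ℕ, f ∈ maximalIdeal (QModel a b c) ^ N := by
      intro N
      induction N with
      | zero => simp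
      | succ N ih =>
        rcases N with _ | N
        · rw [zero_add, pow_one]
          by_contra hcon
          exact not_isUnit_zero (hf ▸ (notMem_maximalIdeal.1 hcon).map ψ)
        obtain ⟨P, Q, hP, hQ, hPQ⟩ := exists_two_span hΔ (maximalIdeal_qModel a b c) (qv_qX a b c) N
        obtain ⟨r, s, hrs⟩ := Ideal.mem_span_pair.1 (hPQ ih)
        obtain ⟨α, hα⟩ := rational_qModel a b c r
        obtain ⟨β, hβ⟩ := rational_qModel a b c s
        have hw : f - (algebraMap K _ α * P + algebraMap K _ β * Q) ∈ maximalIdeal (QModel a b c) ^ (N + 1 + 1) := by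
          rw [← hrs, show r * P + s * Q - (algebraMap K _ α * P + algebraMap K _ β * Q) =
            (r - algebraMap K _ α) * P + (s - algebraMap K _ β) * Q by ring, pow_succ' _ (N + 1)]
          exact add_mem (Ideal.mul_mem_mul hα hP) (Ideal.mul_mem_mul hβ hQ)
        have hw' := (hmapN (N + 1 + 1)).le (Ideal.mem_map_of_mem ψ hw)
        rw [map_sub, hf, zero_sub, neg_mem_iff, map_add, map_mul, map_mul, AlgHom.commutes, AlgHom.commutes] at hw'
        have hspan : maximalIdeal C ^ (N + 1) ≤ Ideal.span {ψ P, ψ Q} ⊔ maximalIdeal C ^ (N + 1 + 1) := by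
          refine le_trans ?_ le_sup_left
          refine (hmapN _).ge.trans ((Ideal.map_mono hPQ).trans (le_of_eq ?_))
          exact (Ideal.map_span ψ _).trans (congrArg Ideal.span (Set.image_pair ψ P Q))
        obtain ⟨rfl, rfl⟩ := two_gen_ind (K := K) ht htd hnp (Nat.succ_pos N)
          ((hmapN _).le (Ideal.mem_map_of_mem ψ hP)) ((hmapN _).le (Ideal.mem_map_of_mem ψ hQ)) hspan hw'
        simpa using hw
    have hmem' : f ∈ ⨅ n : ℕ, maximalIdeal (QModel a b c) ^ n := Ideal.mem_iInf.2 hmem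
    rwa [Ideal.iInf_pow_eq_bot_of_isLocalRing _ (maximalIdeal.isMaximal _).ne_top, Ideal.mem_bot] at hmem'
  have hsurj : Function.Surjective ψ := by
    have hmapg : (maximalIdeal (MvPowerSeries (Fin 2) K)).map g.toRingHom = maximalIdeal C := by
      rw [WildQuotLib.maximalIdeal_eq, Ideal.map_span, hUV]
      congr 1
      ext z
      simp [Fin.exists_fin_two, hg, eq_comm]
    haveI : IsHausdorff ((maximalIdeal (MvPowerSeries (Fin 2) K)).map g.toRingHom) C := by rw [hmapg]; infer_instance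
    have hs : Function.Surjective g := by
      refine surjective_of_mk_map_comp_surjective g.toRingHom (I := maximalIdeal (MvPowerSeries (Fin 2) K)) ?_
      intro w
      obtain ⟨w, rfl⟩ := Ideal.Quotient.mk_surjective w
      obtain ⟨α, hα⟩ := hK w
      refine ⟨algebraMap K _ α, ?_⟩
      rw [RingHom.comp_apply, AlgHom.toRingHom_eq_coe, RingHom.coe_coe, g.commutes, Ideal.Quotient.mk_eq_mk_iff_sub_mem]
      have hα' := neg_mem hα
      rw [neg_sub] at hα'
      exact hmapg.symm ▸ hα'
    intro w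
    obtain ⟨f, hf⟩ := hs w
    exact ⟨Ideal.Quotient.mk _ f, hf⟩
  exact ⟨(AlgEquiv.ofBijective ψ ⟨hinj, hsurj⟩).symm⟩

end QModel

section Local

variable (k : Type u) [Field k] (A : Type u) [CommRing A] [IsLocalRing A] [IsNoetherianRing A] [Algebra k A]

local notation "Ah" => AdicCompletion (maximalIdeal A) A

/-- The algebraic data of a quadratic point. -/
def QuadPt : Prop :=
  ∃ x y a b c : A, maximalIdeal A = Ideal.span {x, y} ∧ (∀ z, maximalIdeal A ≠ Ideal.span {z}) ∧
    residue A (4 * a * c - b ^ 2) ≠ 0 ∧ qv a b c x y ∈ maximalIdeal A ^ 3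

variable {A}

theorem nzd_of_flat {R S : Type u} [CommRing R] [CommRing S] [Algebra R S] [Module.Flat R S] {t : R}
    (ht : t ∈ nonZeroDivisors R) : algebraMap R S t ∈ nonZeroDivisors S := by
  rw [mem_nonZeroDivisors_iff_right]
  intro c hc
  have h : Function.Injective (LinearMap.lsmul R R t) := fun a b e => (mul_cancel_left_mem_nonZeroDivisors ht).1 e
  have h' := Module.Flat.lTensor_preserves_injective_linearMap (M := S) _ h
  have e : TensorProduct.rid R S (LinearMap.lTensor S (LinearMap.lsmul _ _ t) (TensorProduct.tmul R c 1)) = 0 := by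
    rw [LinearMap.lTensor_tmul, TensorProduct.rid_tmul, LinearMap.lsmul_apply, smul_eq_mul, mul_one,
      Algebra.smul_def, mul_comm]
    exact hc
  have h0 : TensorProduct.tmul R c (1 : R) = 0 :=
    h' (by rw [map_zero]; exact (TensorProduct.rid _ _).injective (by rw [e, map_zero]))
  have := congrArg (TensorProduct.rid _ _) h0
  rwa [TensorProduct.rid_tmul, one_smul, map_zero] at this

theorem not_principal_completion (hnp : ∀ z, maximalIdeal A ≠ Ideal.span {z}) (w : Ah) :
    maximalIdeal Ah ≠ Ideal.span {w} := fun h => by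
  haveI := NodeComplLib.isNoetherianRing_completion A
  obtain ⟨z, hz⟩ := exists_sub_mem A 2 w
  have hwm : w ∈ maximalIdeal Ah := h ▸ Ideal.mem_span_singleton_self w
  have hzm : z ∈ maximalIdeal A := by
    have h1 := (mem_pow_iff A 1 z).1
    rw [pow_one, pow_one] at h1
    refine h1 ?_
    rw [show algebraMap A Ah z = w - (w - algebraMap A Ah z) by ring]
    exact sub_mem hwm (Ideal.pow_le_self two_ne_zero hz)
  refine hnp z (span_eq_of_le_sup ((Ideal.span_singleton_le_iff_mem _).2 hzm) fun p hp => ?_).symm.symm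
  have hp' : algebraMap A Ah p ∈ Ideal.span {w} := by
    rw [← h, AdicCompletion.maximalIdeal_eq_map]; exact Ideal.mem_map_of_mem _ hp
  obtain ⟨r, hr⟩ := Ideal.mem_span_singleton'.1 hp'
  obtain ⟨r', hr'⟩ := exists_sub_mem A 1 r
  refine Submodule.mem_sup.2 ⟨r' * z, Ideal.mul_mem_left _ _ (Ideal.mem_span_singleton_self z), p - r' * z, ?_,
    add_sub_cancel _ _⟩
  rw [← pow_two, ← mem_pow_iff, map_sub, map_mul, ← hr,
    show r * w - algebraMap A Ah r' * algebraMap A Ah z =
      (r - algebraMap A Ah r') * algebraMap A Ah z + r * (w - algebraMap A Ah z) by ring]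
  refine add_mem ?_ (Ideal.mul_mem_left _ _ hz)
  rw [pow_two]
  rw [pow_one] at hr'
  exact Ideal.mul_mem_mul hr' (by
    rw [AdicCompletion.maximalIdeal_eq_map]; exact Ideal.mem_map_of_mem _ hzm)

theorem exists_nzd_of_reduced_local [_root_.IsReduced A] (hnp : ∀ z, maximalIdeal A ≠ Ideal.span {z}) :
    ∃ t ∈ maximalIdeal A, t ∈ nonZeroDivisors A := by
  by_contra! hcon
  have hsub : (maximalIdeal A : Set A) ⊆ ⋃ p ∈ associatedPrimes A A, (p : Set A) := fun t ht => by
    rw [biUnion_associatedPrimes_eq_compl_nonZeroDivisors A]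
    exact hcon t ht
  obtain ⟨p, hp, hle⟩ := (Ideal.subset_union_prime_finite (associatedPrimes.finite A A) (maximalIdeal A)
    (maximalIdeal A) (fun p hp _ _ => hp.isPrime)).1 hsub
  obtain ⟨hprime, c, hc⟩ := hp
  have hp' : p = maximalIdeal A := ((maximalIdeal.isMaximal A).eq_of_le hprime.ne_top hle).symm
  have hkill : ∀ t ∈ maximalIdeal A, t * c = 0 := fun t ht => by
    rw [← hp', hc] at ht
    obtain ⟨n, hn⟩ := ht
    rw [Submodule.mem_colon_singleton, Submodule.mem_bot, smul_eq_mul] at hn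
    exact eq_zero_of_pow_eq_zero (n := n + 1)
      (by rw [show (t * c) ^ (n + 1) = t * c ^ n * (t ^ n * c) by ring, hn, mul_zero])
  have hc0 : c ≠ 0 := fun h => hprime.ne_top (by
    rw [hc, h, Ideal.eq_top_iff_one]
    exact Ideal.le_radical (Submodule.mem_colon_singleton.2 (by simp)))
  by_cases hcm : c ∈ maximalIdeal A
  · exact hc0 (eq_zero_of_pow_eq_zero (n := 2) (by rw [pow_two]; exact hkill c hcm))
  · refine hnp 0 ?_
    rw [Ideal.span_singleton_eq_bot.2 rfl, Submodule.eq_bot_iff]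
    intro t ht
    obtain ⟨e, he⟩ := notMem_maximalIdeal.1 hcm
    have := hkill t ht
    rwa [← he, e.mul_left_eq_zero] at this

variable (A)

/-- The completion at a quadratic point with separable residue field. -/
theorem exists_completion_iso [Algebra.IsSeparable k (ResidueField A)] (hq : QuadPt A)
    [_root_.IsReduced A] :
    ∃ a b c : ResidueField A, 4 * a * c - b ^ 2 ≠ 0 ∧
      ∃ e : Ah ≃+* QModel a b c, ∀ t : k, e (algebraMap A Ah (algebraMap k A t)) =
        Ideal.Quotient.mk _ (MvPowerSeries.C (algebraMap A (ResidueField A) (algebraMap k A t))) := by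
  classical
  obtain ⟨x, y, a, b, c, hxy, hnp, hΔ, hqm⟩ := hq
  haveI := NodeComplLib.isNoetherianRing_completion A
  haveI : Algebra.FormallyEtale k (ResidueField A) := Algebra.FormallyEtale.of_isSeparable k (ResidueField A)
  have hle : maximalIdeal A ≤ (maximalIdeal Ah ^ (0 + 1)).comap (algebraMap A Ah) := fun z hz => by
    rw [Ideal.mem_comap, mem_pow_iff, zero_add, pow_one]; exact hz
  let e₀ : ResidueField A →ₐ[k] Ah ⧸ maximalIdeal Ah ^ (0 + 1) :=
    Ideal.quotientMapₐ _ (IsScalarTower.toAlgHom k A Ah) hle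
  obtain ⟨σ, hσ⟩ := FieldExtLib.exists_lift_complete (maximalIdeal Ah) 0 e₀
  have hσ' : ∀ z : A, σ (residue A z) - algebraMap A Ah z ∈ maximalIdeal Ah := fun z => by
    have h1 : Ideal.Quotient.mk (maximalIdeal Ah ^ (0 + 1)) (σ (residue A z)) =
        Ideal.Quotient.mk _ (algebraMap A Ah z) := AlgHom.congr_fun hσ (residue A z)
    rw [Ideal.Quotient.eq, zero_add, pow_one] at h1
    exact h1
  letI : Algebra (ResidueField A) Ah := σ.toRingHom.toAlgebra
  have hK : Rational (ResidueField A) Ah := fun w => by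
    obtain ⟨z, hz⟩ := exists_sub_mem A 1 w
    rw [pow_one] at hz
    refine ⟨residue A z, ?_⟩
    rw [show w - algebraMap (ResidueField A) Ah (residue A z) = (w - algebraMap A Ah z) -
      (σ (residue A z) - algebraMap A Ah z) by simp [RingHom.algebraMap_toAlgebra]]
    exact sub_mem hz (hσ' z)
  have hm : ∀ z ∈ maximalIdeal A, algebraMap A Ah z ∈ maximalIdeal Ah := fun z hz => by
    rw [AdicCompletion.maximalIdeal_eq_map]; exact Ideal.mem_map_of_mem _ hz
  have hxm := hm x (hxy.ge (Ideal.subset_span (Set.mem_insert _ _)))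
  have hym := hm y (hxy.ge (Ideal.subset_span (Set.mem_insert_of_mem _ rfl)))
  have hspan : maximalIdeal Ah = Ideal.span {algebraMap A Ah x, algebraMap A Ah y} := by
    rw [AdicCompletion.maximalIdeal_eq_map, hxy, Ideal.map_span, Set.image_insert_eq, Set.image_singleton]
  have hq' : qv (σ (residue A a)) (σ (residue A b)) (σ (residue A c)) (algebraMap A Ah x) (algebraMap A Ah y) ∈
      maximalIdeal Ah ^ 3 := by
    have h1 := qv_sub_mem (hσ' a) (hσ' b) (hσ' c) (x := algebraMap A Ah x) (y := algebraMap A Ah y)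
      (by simp) (by simp) hxm hym hxm hym
    have h2 := (mem_pow_iff A 3 _).2 hqm
    rw [map_qv] at h2
    simpa using add_mem h1 h2
  obtain ⟨t, ht, htd⟩ := exists_nzd_of_reduced_local hnp
  haveI : Module.Flat A Ah := inferInstance
  have htd' : algebraMap A Ah t ∈ nonZeroDivisors Ah := nzd_of_flat htd
  have hd : 4 * residue A a * residue A c - residue A b ^ 2 ≠ 0 := by
    rw [← map_ofNat (residue A) 4, ← map_mul, ← map_mul, ← map_pow, ← map_sub]
    exact hΔ
  obtain ⟨E⟩ := exists_iso_qModel hK hd hspan hq' (hm t ht) htd' (not_principal_completion hnp)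
  refine ⟨_, _, _, hd, E.toRingEquiv, fun t => ?_⟩
  have : algebraMap A Ah (algebraMap k A t) = algebraMap (ResidueField A) Ah (algebraMap A (ResidueField A) (algebraMap k A t)) := by
    rw [← IsScalarTower.algebraMap_apply k A Ah, ← IsScalarTower.algebraMap_apply k A (ResidueField A)]
    exact (σ.commutes t).symm
  rw [this]
  exact E.commutes _

variable {A}

/-- A quadratic point from its completion. -/
theorem quadPt_of_completion {a b c : ResidueField A} (hΔ : 4 * a * c - b ^ 2 ≠ 0) (e : Ah ≃+* QModel a b c) :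
    _root_.IsReduced A ∧ QuadPt A := by
  haveI := NodeComplLib.isNoetherianRing_completion A
  haveI := isReduced_qModel a b c hΔ
  refine ⟨isReduced_of_injective (e.toRingHom.comp (algebraMap A Ah))
    (e.injective.comp (AdicCompletion.of_injective (maximalIdeal A) A)), ?_⟩
  let Q := QModel a b c
  have hE : (maximalIdeal Q).map e.symm.toRingHom = maximalIdeal Ah := IsLocalRing.map_ringEquiv_maximalIdeal e.symm
  let U := e.symm (qX a b c 0)
  let V := e.symm (qX a b c 1)
  have hUV : maximalIdeal Ah = Ideal.span {U, V} := by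
    rw [← hE, maximalIdeal_qModel, Ideal.map_span, Set.image_insert_eq, Set.image_singleton]
    rfl
  obtain ⟨x, hx⟩ := exists_sub_mem A 2 U
  obtain ⟨y, hy⟩ := exists_sub_mem A 2 V
  obtain ⟨a', ha⟩ := exists_sub_mem A 1 (e.symm (algebraMap _ Q a))
  obtain ⟨b', hb⟩ := exists_sub_mem A 1 (e.symm (algebraMap _ Q b))
  obtain ⟨c', hc⟩ := exists_sub_mem A 1 (e.symm (algebraMap _ Q c))
  rw [pow_one] at ha hb hc
  have hUm : U ∈ maximalIdeal Ah := hUV.ge (Ideal.subset_span (Set.mem_insert _ _))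
  have hVm : V ∈ maximalIdeal Ah := hUV.ge (Ideal.subset_span (Set.mem_insert_of_mem _ rfl))
  have hxm' : algebraMap A Ah x ∈ maximalIdeal Ah := by
    rw [show algebraMap A Ah x = U - (U - algebraMap A Ah x) by ring]
    exact sub_mem hUm (Ideal.pow_le_self two_ne_zero hx)
  have hym' : algebraMap A Ah y ∈ maximalIdeal Ah := by
    rw [show algebraMap A Ah y = V - (V - algebraMap A Ah y) by ring]
    exact sub_mem hVm (Ideal.pow_le_self two_ne_zero hy)
  have hmem : ∀ z, algebraMap A Ah z ∈ maximalIdeal Ah → z ∈ maximalIdeal A := fun z hz => by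
    simpa using (mem_pow_iff A 1 z).1 (by simpa using hz)
  refine ⟨x, y, a', b', c', ?_, ?_, ?_, ?_⟩
  · refine (span_eq_of_le_sup (Ideal.span_le.2 ?_) fun z hz => ?_)
    · rintro z (rfl | rfl)
      exacts [hmem _ hxm', hmem _ hym']
    have hz' : algebraMap A Ah z ∈ Ideal.span {algebraMap A Ah x, algebraMap A Ah y} := by
      rw [← span_eq_of_sub_mem hUV (neg_sub U (algebraMap A Ah x) ▸ neg_mem hx)
        (neg_sub V (algebraMap A Ah y) ▸ neg_mem hy)]
      rw [AdicCompletion.maximalIdeal_eq_map]; exact Ideal.mem_map_of_mem _ hz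
    obtain ⟨p, q, hpq⟩ := Ideal.mem_span_pair.1 hz'
    obtain ⟨p', hp⟩ := exists_sub_mem A 1 p
    obtain ⟨q', hq⟩ := exists_sub_mem A 1 q
    rw [pow_one] at hp hq
    refine Submodule.mem_sup.2 ⟨p' * x + q' * y, Ideal.mem_span_pair.2 ⟨p', q', rfl⟩, z - (p' * x + q' * y), ?_,
      add_sub_cancel _ _⟩
    rw [← pow_two, ← mem_pow_iff, map_sub, map_add, map_mul, map_mul, ← hpq,
      show ∀ u v : Ah, p * u + q * v - (algebraMap A Ah p' * u + algebraMap A Ah q' * v) =
        (p - algebraMap A Ah p') * u + (q - algebraMap A Ah q') * v from fun u v => by ring, pow_two]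
    exact add_mem (Ideal.mul_mem_mul hp hxm') (Ideal.mul_mem_mul hq hym')
  · intro z hz
    refine qModel_ne_principal a b c (e (algebraMap A Ah z)) ?_
    have h1 : maximalIdeal Ah = Ideal.span {algebraMap A Ah z} := by
      rw [AdicCompletion.maximalIdeal_eq_map]
      exact (congrArg (Ideal.map _) hz).trans ((Ideal.map_span _ _).trans (congrArg Ideal.span Set.image_singleton))
    exact (IsLocalRing.map_ringEquiv_maximalIdeal e).symm.trans
      ((congrArg (Ideal.map _) h1).trans ((Ideal.map_span _ _).trans (congrArg Ideal.span Set.image_singleton)))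
  · rw [ne_eq, residue_eq_zero_iff]
    intro hcon
    have h1 : algebraMap A Ah (4 * a' * c' - b' ^ 2) ∈ maximalIdeal Ah := by
      rw [AdicCompletion.maximalIdeal_eq_map]; exact Ideal.mem_map_of_mem _ hcon
    have hu : IsUnit (e.symm (algebraMap _ Q (4 * a * c - b ^ 2))) :=
      ((isUnit_iff_ne_zero.2 hΔ).map (algebraMap _ Q)).map e.symm
    refine (mem_maximalIdeal _).1 ?_ hu
    rw [← sub_add_cancel (e.symm (algebraMap _ Q (4 * a * c - b ^ 2))) (algebraMap A Ah (4 * a' * c' - b' ^ 2))]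
    refine add_mem ?_ h1
    rw [← Ideal.Quotient.eq] at ha hb hc ⊢
    simp only [map_sub, map_mul, map_pow, map_ofNat, ha, hb, hc]
  · rw [← mem_pow_iff, map_qv]
    have h1 := qv_sub_mem ha hb hc hx hy hUm hVm hxm' hym'
    have h2 : qv (e.symm (algebraMap _ Q a)) (e.symm (algebraMap _ Q b)) (e.symm (algebraMap _ Q c)) U V = 0 := by
      have h3 := congrArg e.symm.toRingHom (qv_qX a b c)
      rw [map_qv, map_zero] at h3
      exact h3
    rw [h2, zero_sub, neg_mem_iff] at h1
    exact h1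

end Local

end Groth.Agent.NodePtLib
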