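import Groth.Prelude
import Groth.Agent.ArtFunLib.PS
import Groth.Agent.WildQuotLib.PSReg
import Groth.Agent.NodeComplLib.Basic

/-!
# Ordinary double points by dimensions of jets and a quadratic relation
-/

set_option autoImplicit false
set_option linter.unusedSectionVars false

universe u

open IsLocalRing

noncomputable section

namespace Groth.Agent.NodePtLib

variable {K : Type u} [Field K] {C : Type u} [CommRing C] [IsLocalRing C] [Algebra K C]

/-- The residue field is the ground field. -/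
def Rational (K : Type u) [Field K] (C : Type u) [CommRing C] [IsLocalRing C] [Algebra K C] : Prop :=
  ∀ c : C, ∃ a : K, c - algebraMap K C a ∈ maximalIdeal C

/-- Two generators of the maximal ideal with small product. -/
def Gens (u v : C) : Prop := maximalIdeal C = Ideal.span {u, v} ∧ u * v ∈ maximalIdeal C ^ 3

/-- The dimensions of the jets of a node. -/
def NodeDim (K : Type u) [Field K] (C : Type u) [CommRing C] [IsLocalRing C] [Algebra K C] : Prop :=
  ∀ N : ℕ, 1 ≤ N → Module.finrank K (C ⧸ maximalIdeal C ^ N) = 2 * N - 1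

theorem Gens.mem_left {u v : C} (h : Gens u v) : u ∈ maximalIdeal C :=
  h.1 ▸ Ideal.subset_span (Set.mem_insert u {v})

theorem Gens.mem_right {u v : C} (h : Gens u v) : v ∈ maximalIdeal C :=
  h.1 ▸ Ideal.subset_span (Set.mem_insert_of_mem u rfl)

theorem exists_combination (hK : Rational K C) {u v : C} (h : Gens u v) :
    ∀ j : ℕ, ∀ a ∈ maximalIdeal C ^ (j + 1), ∃ α β : K,
      a - (algebraMap K C α * u ^ (j + 1) + algebraMap K C β * v ^ (j + 1)) ∈ maximalIdeal C ^ (j + 2)
  | 0, a, ha => by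
    rw [pow_one, h.1, Ideal.mem_span_pair] at ha
    obtain ⟨c, e, rfl⟩ := ha
    obtain ⟨α, hα⟩ := hK c
    obtain ⟨β, hβ⟩ := hK e
    refine ⟨α, β, ?_⟩
    rw [pow_one, pow_one, show (0 + 2 : ℕ) = 1 + 1 from rfl, pow_succ, pow_one,
      show c * u + e * v - (algebraMap K C α * u + algebraMap K C β * v) =
        (c - algebraMap K C α) * u + (e - algebraMap K C β) * v by ring]
    exact add_mem (Ideal.mul_mem_mul hα h.mem_left) (Ideal.mul_mem_mul hβ h.mem_right)
  | j + 1, a, ha => by
    rw [pow_succ] at ha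
    induction ha using Submodule.mul_induction_on' with
    | mem_mul_mem b hb c hc =>
      obtain ⟨α, β, hw⟩ := exists_combination hK h j b hb
      obtain ⟨γ, δ, hw'⟩ := exists_combination hK h 0 c (by rwa [zero_add, pow_one])
      refine ⟨α * γ, β * δ, ?_⟩
      simp only [zero_add, pow_one, map_mul] at hw' ⊢
      have h1 : u ^ (j + 1) * v ∈ maximalIdeal C ^ (j + 1 + 2) := by
        rw [pow_succ u, mul_assoc, show j + 1 + 2 = j + 3 by omega, pow_add]
        exact Ideal.mul_mem_mul (Ideal.pow_mem_pow h.mem_left j) h.2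
      have h2 : v ^ (j + 1) * u ∈ maximalIdeal C ^ (j + 1 + 2) := by
        rw [pow_succ v, mul_assoc, mul_comm v u, show j + 1 + 2 = j + 3 by omega, pow_add]
        exact Ideal.mul_mem_mul (Ideal.pow_mem_pow h.mem_right j) h.2
      have h3 : (b - (algebraMap K C α * u ^ (j + 1) + algebraMap K C β * v ^ (j + 1))) * c ∈
          maximalIdeal C ^ (j + 1 + 2) := by
        rw [show j + 1 + 2 = (j + 2) + 1 by omega, pow_succ]
        exact Ideal.mul_mem_mul hw hc
      have hb' : algebraMap K C α * u ^ (j + 1) + algebraMap K C β * v ^ (j + 1) ∈ maximalIdeal C ^ (j + 1) :=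
        add_mem (Ideal.mul_mem_left _ _ (Ideal.pow_mem_pow h.mem_left _))
          (Ideal.mul_mem_left _ _ (Ideal.pow_mem_pow h.mem_right _))
      have h4 : (algebraMap K C α * u ^ (j + 1) + algebraMap K C β * v ^ (j + 1)) *
          (c - (algebraMap K C γ * u + algebraMap K C δ * v)) ∈ maximalIdeal C ^ (j + 1 + 2) := by
        rw [pow_add]
        exact Ideal.mul_mem_mul hb' hw'
      have e : b * c - (algebraMap K C α * algebraMap K C γ * u ^ (j + 1 + 1) +
            algebraMap K C β * algebraMap K C δ * v ^ (j + 1 + 1)) =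
          (b - (algebraMap K C α * u ^ (j + 1) + algebraMap K C β * v ^ (j + 1))) * c +
          (algebraMap K C α * u ^ (j + 1) + algebraMap K C β * v ^ (j + 1)) *
            (c - (algebraMap K C γ * u + algebraMap K C δ * v)) +
          algebraMap K C α * algebraMap K C δ * (u ^ (j + 1) * v) +
          algebraMap K C β * algebraMap K C γ * (v ^ (j + 1) * u) := by ring
      rw [e]
      exact add_mem (add_mem (add_mem h3 h4) (Ideal.mul_mem_left _ _ h1)) (Ideal.mul_mem_left _ _ h2)
    | add b _ c _ hb hc =>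
      obtain ⟨α, β, hb⟩ := hb
      obtain ⟨γ, δ, hc⟩ := hc
      refine ⟨α + γ, β + δ, ?_⟩
      convert add_mem hb hc using 1
      simp only [map_add]
      ring

/-- The monomials of a node below a degree. -/
def mon (u v : C) (N : ℕ) : Fin N ⊕ Fin (N - 1) → C :=
  Sum.elim (fun i => u ^ (i : ℕ)) fun i => v ^ ((i : ℕ) + 1)

theorem card_mon (N : ℕ) (hN : 1 ≤ N) : Fintype.card (Fin N ⊕ Fin (N - 1)) = 2 * N - 1 := by
  simp only [Fintype.card_sum, Fintype.card_fin]
  omega

/-- The monomials in the jets. -/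
def monQ (u v : C) (N : ℕ) : Fin N ⊕ Fin (N - 1) → C ⧸ maximalIdeal C ^ N :=
  fun i => Ideal.Quotient.mk _ (mon u v N i)

theorem span_monQ (hK : Rational K C) {u v : C} (h : Gens u v) (N : ℕ) :
    Submodule.span K (Set.range (monQ u v N)) = ⊤ := by
  set W := Submodule.span K (Set.range (monQ u v N))
  have hC : ∀ (a : K) (x : C), Ideal.Quotient.mk (maximalIdeal C ^ N) (algebraMap K C a * x) =
      a • Ideal.Quotient.mk (maximalIdeal C ^ N) x := fun a x => by
    rw [← Algebra.smul_def]; rfl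
  have hu : ∀ j, j < N → Ideal.Quotient.mk (maximalIdeal C ^ N) (u ^ j) ∈ W := fun j hj =>
    Submodule.subset_span ⟨.inl ⟨j, hj⟩, rfl⟩
  have hv : ∀ j, j + 1 < N → Ideal.Quotient.mk (maximalIdeal C ^ N) (v ^ (j + 1)) ∈ W := fun j hj =>
    Submodule.subset_span ⟨.inr ⟨j, by omega⟩, rfl⟩
  have key : ∀ d j, N ≤ j + d → ∀ a ∈ maximalIdeal C ^ j, Ideal.Quotient.mk (maximalIdeal C ^ N) a ∈ W := by
    intro d
    induction d with
    | zero =>
      intro j hj a ha
      rw [Ideal.Quotient.eq_zero_iff_mem.2 (Ideal.pow_le_pow_right (by omega) ha)]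
      exact Submodule.zero_mem _
    | succ d ih =>
      intro j hj a ha
      by_cases hjN : N ≤ j
      · rw [Ideal.Quotient.eq_zero_iff_mem.2 (Ideal.pow_le_pow_right hjN ha)]
        exact Submodule.zero_mem _
      rcases j with _ | j
      · obtain ⟨α, hα⟩ := hK a
        rw [← add_sub_cancel (algebraMap K C α * u ^ 0) a, map_add, hC]
        exact Submodule.add_mem _ (Submodule.smul_mem _ _ (hu 0 (by omega)))
          (ih 1 (by omega) _ (by simpa using hα))
      · obtain ⟨α, β, hw⟩ := exists_combination hK h j a ha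
        rw [← add_sub_cancel (algebraMap K C α * u ^ (j + 1) + algebraMap K C β * v ^ (j + 1)) a, map_add,
          map_add, hC, hC]
        exact Submodule.add_mem _ (Submodule.add_mem _ (Submodule.smul_mem _ _ (hu _ (by omega)))
          (Submodule.smul_mem _ _ (hv j (by omega)))) (ih (j + 2) (by omega) _ hw)
  rw [eq_top_iff]
  intro x _
  obtain ⟨x, rfl⟩ := Ideal.Quotient.mk_surjective x
  exact key N 0 (by omega) x (by simp)

theorem linearIndependent_monQ (hK : Rational K C) {u v : C} (h : Gens u v) (hd : NodeDim K C) {N : ℕ} (hN : 1 ≤ N) :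
    LinearIndependent K (monQ u v N) :=
  linearIndependent_of_top_le_span_of_card_eq_finrank (span_monQ hK h N).ge
    ((card_mon N hN).trans (hd N hN).symm)

theorem span_eq_of_sub_mem [IsNoetherianRing C] {u v u' v' : C} (h : maximalIdeal C = Ideal.span {u, v})
    (hu : u' - u ∈ maximalIdeal C ^ 2) (hv : v' - v ∈ maximalIdeal C ^ 2) :
    maximalIdeal C = Ideal.span {u', v'} := by
  have hu' : u' ∈ maximalIdeal C := by
    rw [← sub_add_cancel u' u]
    exact add_mem (Ideal.pow_le_self two_ne_zero hu) (h ▸ Ideal.subset_span (Set.mem_insert u {v}))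
  have hv' : v' ∈ maximalIdeal C := by
    rw [← sub_add_cancel v' v]
    exact add_mem (Ideal.pow_le_self two_ne_zero hv) (h ▸ Ideal.subset_span (Set.mem_insert_of_mem u rfl))
  refine le_antisymm ?_ (Ideal.span_le.2 (by rintro _ (rfl | rfl) <;> assumption))
  refine Submodule.le_of_le_smul_of_le_jacobson_bot (Ideal.fg_of_isNoetherianRing _)
    (IsLocalRing.maximalIdeal_le_jacobson ⊥) ?_
  rw [smul_eq_mul, ← pow_two]
  conv_lhs => rw [h]
  rw [Ideal.span_le]
  rintro x (hx | hx)
  · rw [hx, show u = u' + (u - u') by ring]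
    exact Submodule.add_mem_sup (Ideal.subset_span (Set.mem_insert u' {v'})) (neg_sub u' u ▸ neg_mem hu)
  · rw [Set.mem_singleton_iff.1 hx, show v = v' + (v - v') by ring]
    exact Submodule.add_mem_sup (Ideal.subset_span (Set.mem_insert_of_mem u' rfl)) (neg_sub v' v ▸ neg_mem hv)

theorem exists_mul_eq_zero [IsNoetherianRing C] [IsAdicComplete (maximalIdeal C) C] (hK : Rational K C) {u v : C}
    (h : Gens u v) : ∃ U V : C, maximalIdeal C = Ideal.span {U, V} ∧ U * V = 0 := by
  classical
  let P : ℕ → C × C → Prop := fun n p => Gens p.1 p.2 ∧ p.1 * p.2 ∈ maximalIdeal C ^ (n + 3)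
  have step : ∀ n p, P n p → ∃ p', P (n + 1) p' ∧ p'.1 - p.1 ∈ maximalIdeal C ^ (n + 2) ∧
      p'.2 - p.2 ∈ maximalIdeal C ^ (n + 2) := by
    rintro n ⟨a, b⟩ ⟨hg, hab⟩
    obtain ⟨α, β, hw⟩ := exists_combination hK hg (n + 2) (a * b) hab
    simp only at hg hab hw ⊢
    have ha := hg.mem_left
    have hb := hg.mem_right
    let a' := a - algebraMap K C β * b ^ (n + 2)
    let b' := b - algebraMap K C α * a ^ (n + 2)
    have ea : a' - a ∈ maximalIdeal C ^ (n + 2) := by
      rw [show a' - a = -(algebraMap K C β * b ^ (n + 2)) by simp only [a']; ring]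
      exact neg_mem (Ideal.mul_mem_left _ _ (Ideal.pow_mem_pow hb _))
    have eb : b' - b ∈ maximalIdeal C ^ (n + 2) := by
      rw [show b' - b = -(algebraMap K C α * a ^ (n + 2)) by simp only [b']; ring]
      exact neg_mem (Ideal.mul_mem_left _ _ (Ideal.pow_mem_pow ha _))
    have hm' : a' * b' ∈ maximalIdeal C ^ (n + 1 + 3) := by
      have e : a' * b' = (a * b - (algebraMap K C α * a ^ (n + 2 + 1) + algebraMap K C β * b ^ (n + 2 + 1))) +
          algebraMap K C α * algebraMap K C β * (a ^ (n + 2) * b ^ (n + 2)) := by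
        simp only [a', b']; ring
      rw [e, show n + 1 + 3 = n + 2 + 2 by omega]
      refine add_mem hw (Ideal.mul_mem_left _ _ ?_)
      refine Ideal.pow_le_pow_right (show n + 2 + 2 ≤ (n + 2) + (n + 2) by omega) ?_
      rw [pow_add]
      exact Ideal.mul_mem_mul (Ideal.pow_mem_pow ha _) (Ideal.pow_mem_pow hb _)
    refine ⟨(a', b'), ⟨⟨span_eq_of_sub_mem hg.1 (Ideal.pow_le_pow_right (by omega) ea)
      (Ideal.pow_le_pow_right (by omega) eb), Ideal.pow_le_pow_right (by omega) hm'⟩, hm'⟩, ea, eb⟩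
  choose f hf using step
  let seq : (n : ℕ) → {p : C × C // P n p} := fun n =>
    Nat.rec (motive := fun n => {p : C × C // P n p}) ⟨(u, v), h, h.2⟩
      (fun n q => ⟨f n q.1 q.2, (hf n q.1 q.2).1⟩) n
  have hstep : ∀ n, ((seq (n + 1)).1.1 - (seq n).1.1 ∈ maximalIdeal C ^ (n + 2)) ∧
      ((seq (n + 1)).1.2 - (seq n).1.2 ∈ maximalIdeal C ^ (n + 2)) := fun n => (hf n (seq n).1 (seq n).2).2
  obtain ⟨U, hU⟩ := NodeComplLib.exists_limit (maximalIdeal C) (fun n => (seq n).1.1) fun n =>
    Ideal.pow_le_pow_right (by omega) (hstep n).1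
  obtain ⟨V, hV⟩ := NodeComplLib.exists_limit (maximalIdeal C) (fun n => (seq n).1.2) fun n =>
    Ideal.pow_le_pow_right (by omega) (hstep n).2
  refine ⟨U, V, span_eq_of_sub_mem (seq 1).2.1.1 (hU 1) (hV 1), ?_⟩
  refine NodeComplLib.eq_of_forall_sub_mem (maximalIdeal C) _ _ fun n => ?_
  rw [sub_zero, show U * V = (U - (seq n).1.1) * V + (seq n).1.1 * (V - (seq n).1.2) +
    (seq n).1.1 * (seq n).1.2 by ring]
  exact add_mem (add_mem (Ideal.mul_mem_right _ _ (hU n)) (Ideal.mul_mem_left _ _ (hV n)))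
    (Ideal.pow_le_pow_right (by omega) (seq n).2.2)

/-! ### The model -/

variable (K)

/-- The completed local ring of a node. -/
abbrev Model : Type u :=
  MvPowerSeries (Fin 2) K ⧸ Ideal.span {(MvPowerSeries.X 0 * MvPowerSeries.X 1 : MvPowerSeries (Fin 2) K)}

/-- The coordinates of the model. -/
def mX (i : Fin 2) : Model K := Ideal.Quotient.mk _ (MvPowerSeries.X i)

theorem span_xy_le : Ideal.span {(MvPowerSeries.X 0 * MvPowerSeries.X 1 : MvPowerSeries (Fin 2) K)} ≤
    maximalIdeal (MvPowerSeries (Fin 2) K) := by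
  rw [Ideal.span_le, Set.singleton_subset_iff, SetLike.mem_coe, WildQuotLib.maximalIdeal_eq]
  exact Ideal.mul_mem_right _ _ (Ideal.subset_span ⟨0, rfl⟩)

instance nontrivial_model : Nontrivial (Model K) :=
  Ideal.Quotient.nontrivial_iff.2 fun e => (maximalIdeal.isMaximal _).ne_top (top_le_iff.1 (e ▸ span_xy_le K))

instance isLocalRing_model : IsLocalRing (Model K) :=
  .of_surjective' (Ideal.Quotient.mk _) Ideal.Quotient.mk_surjective

theorem map_mk_maximalIdeal : (maximalIdeal (MvPowerSeries (Fin 2) K)).map (Ideal.Quotient.mk (Ideal.span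
    {(MvPowerSeries.X 0 * MvPowerSeries.X 1 : MvPowerSeries (Fin 2) K)})) = maximalIdeal (Model K) := by
  refine ((IsLocalRing.eq_maximalIdeal ?_))
  refine (Ideal.map_eq_top_or_isMaximal_of_surjective (Ideal.Quotient.mk (Ideal.span
    {(MvPowerSeries.X 0 * MvPowerSeries.X 1 : MvPowerSeries (Fin 2) K)})) Ideal.Quotient.mk_surjective
    (maximalIdeal.isMaximal _)).resolve_left fun h => ?_
  have h' := congrArg (Ideal.comap (Ideal.Quotient.mk _)) h
  rw [Ideal.comap_map_of_surjective _ Ideal.Quotient.mk_surjective, ← RingHom.ker_eq_comap_bot, Ideal.mk_ker,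
    sup_eq_left.2 (span_xy_le K), Ideal.comap_top] at h'
  exact (maximalIdeal.isMaximal _).ne_top h'

theorem maximalIdeal_model : maximalIdeal (Model K) = Ideal.span {mX K 0, mX K 1} := by
  rw [← map_mk_maximalIdeal K, WildQuotLib.maximalIdeal_eq, Ideal.map_span]
  congr 1
  ext z
  simp [mX, Fin.exists_fin_two, eq_comm]

theorem mX_mul : mX K 0 * mX K 1 = 0 :=
  Ideal.Quotient.eq_zero_iff_mem.2 (Ideal.subset_span rfl)

theorem gens_model : Gens (mX K 0) (mX K 1) :=
  ⟨maximalIdeal_model K, by rw [mX_mul]; exact Ideal.zero_mem _⟩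

theorem rational_model : Rational K (Model K) := fun c => by
  obtain ⟨f, rfl⟩ := Ideal.Quotient.mk_surjective c
  refine ⟨MvPowerSeries.constantCoeff f, ?_⟩
  rw [← map_mk_maximalIdeal K]
  refine Ideal.mem_map_of_mem _ (x := f - MvPowerSeries.C (MvPowerSeries.constantCoeff f)) ?_
  rw [WildQuotLib.mem_maximalIdeal_iff_constantCoeff, map_sub, MvPowerSeries.constantCoeff_C, sub_self]

theorem exists_branch (l : Fin 2) : ∃ φ : Model K →ₐ[K] MvPowerSeries (Fin 1) K,
    φ (mX K l) = MvPowerSeries.X 0 ∧ φ (mX K (1 - l)) = 0 := by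
  obtain ⟨g, hg⟩ := ArtFunLib.ps_exists_lift (Λ := K) (σ := Fin 2) (maximalIdeal (MvPowerSeries (Fin 1) K))
    (fun i => if i = l then MvPowerSeries.X 0 else 0) (fun i => by
      split
      · rw [WildQuotLib.maximalIdeal_eq]; exact Ideal.subset_span ⟨0, rfl⟩
      · exact Ideal.zero_mem _)
  refine ⟨Ideal.Quotient.liftₐ _ g ?_, ?_, ?_⟩
  · show ∀ a ∈ Ideal.span {(MvPowerSeries.X 0 * MvPowerSeries.X 1 : MvPowerSeries (Fin 2) K)}, g a = 0
    intro a ha
    obtain ⟨b, rfl⟩ := Ideal.mem_span_singleton.1 ha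
    rw [map_mul, map_mul, hg, hg]
    fin_cases l <;> simp
  · exact (hg l).trans (if_pos rfl)
  · refine (hg (1 - l)).trans (if_neg ?_)
    fin_cases l <;> decide

theorem map_pow_le {D : Type u} [CommRing D] [IsLocalRing D] (φ : Model K →+* D)
    (h : ∀ i, φ (mX K i) ∈ maximalIdeal D) (N : ℕ) (x : Model K) (hx : x ∈ maximalIdeal (Model K) ^ N) :
    φ x ∈ maximalIdeal D ^ N := by
  have hle : (maximalIdeal (Model K)).map φ ≤ maximalIdeal D := by
    rw [maximalIdeal_model, Ideal.map_span, Ideal.span_le]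
    rintro _ ⟨_, rfl | rfl, rfl⟩
    exacts [h 0, h 1]
  exact Ideal.pow_right_mono hle N (Ideal.map_pow φ _ N ▸ Ideal.mem_map_of_mem φ hx)

theorem nodeDim_model : NodeDim K (Model K) := fun N hN => by
  classical
  have hli : LinearIndependent K (monQ (mX K 0) (mX K 1) N) := by
    rw [Fintype.linearIndependent_iff]
    intro g hg
    have hmem : ∑ i, g i • mon (mX K 0) (mX K 1) N i ∈ maximalIdeal (Model K) ^ N := by
      rw [← Ideal.Quotient.eq_zero_iff_mem, map_sum]
      exact hg
    have hcoef : ∀ (φ : Model K →ₐ[K] MvPowerSeries (Fin 1) K), (∀ i, φ (mX K i) ∈ maximalIdeal _) →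
        ∀ m < N, ∑ i, g i * MvPowerSeries.coeff (Finsupp.single 0 m) (φ (mon (mX K 0) (mX K 1) N i)) = 0 := by
      intro φ hφ m hm
      have h1 := map_pow_le K φ.toRingHom hφ N _ hmem
      rw [WildQuotLib.maximalIdeal_eq, Set.range_unique, Ideal.span_singleton_pow, Ideal.mem_span_singleton,
        MvPowerSeries.X_pow_dvd_iff] at h1
      have h2 := h1 (Finsupp.single 0 m) (by simpa using hm)
      simpa [map_sum] using h2
    obtain ⟨φ₀, h00, h01⟩ := exists_branch K 0
    obtain ⟨φ₁, h11, h10⟩ := exists_branch K 1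
    have hX : (MvPowerSeries.X 0 : MvPowerSeries (Fin 1) K) ∈ maximalIdeal _ := by
      rw [WildQuotLib.maximalIdeal_eq]; exact Ideal.subset_span ⟨0, rfl⟩
    have hc0 := hcoef φ₀ (fun i => by
      fin_cases i
      · exact h00.symm ▸ hX
      · exact (show φ₀ (mX K 1) = 0 from h01) ▸ Ideal.zero_mem _)
    have hc1 := hcoef φ₁ (fun i => by
      fin_cases i
      · exact (show φ₁ (mX K 0) = 0 from h10) ▸ Ideal.zero_mem _
      · exact h11.symm ▸ hX)
    have hl : ∀ m : Fin N, g (.inl m) = 0 := fun m => by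
      have h := hc0 m.1 m.2
      rw [Fintype.sum_sum_type, Finset.sum_eq_single m, Finset.sum_eq_zero (s := (Finset.univ : Finset (Fin (N - 1))))] at h
      · simpa [mon, h00, MvPowerSeries.X_pow_eq, MvPowerSeries.coeff_monomial_same] using h
      · intro i _
        simp [mon, show φ₀ (mX K 1) = 0 from h01]
      · intro i _ hi
        simp [mon, h00, MvPowerSeries.X_pow_eq, MvPowerSeries.coeff_monomial, Fin.val_ne_of_ne (Ne.symm hi)]
      · exact fun h => absurd (Finset.mem_univ m) h
    intro i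
    rcases i with m | m
    · exact hl m
    · have h := hc1 (m.1 + 1) (by omega)
      rw [Fintype.sum_sum_type, Finset.sum_eq_zero (s := (Finset.univ : Finset (Fin N))), zero_add,
        Finset.sum_eq_single m] at h
      · simpa [mon, h11, MvPowerSeries.X_pow_eq, MvPowerSeries.coeff_monomial_same] using h
      · intro i _ hi
        simp [mon, h11, MvPowerSeries.X_pow_eq, MvPowerSeries.coeff_monomial, Fin.val_ne_of_ne (Ne.symm hi)]
      · exact fun h => absurd (Finset.mem_univ m) h
      · intro i _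
        rw [hl i, zero_mul]
  rw [← finrank_top, ← span_monQ (rational_model K) (gens_model K) N, finrank_span_eq_card hli, card_mon N hN]

/-- A complete ring with the invariants of a node is the model. -/
theorem exists_iso_model [IsNoetherianRing C] [IsAdicComplete (maximalIdeal C) C] (hK : Rational K C)
    (hg : ∃ u v : C, Gens u v) (hd : NodeDim K C) : Nonempty (C ≃ₐ[K] Model K) := by
  classical
  obtain ⟨u, v, huv⟩ := hg
  obtain ⟨U, V, hspan, hUV⟩ := exists_mul_eq_zero hK huv
  have hG : Gens U V := ⟨hspan, hUV ▸ Ideal.zero_mem _⟩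
  obtain ⟨g, hgX⟩ := ArtFunLib.ps_exists_lift (Λ := K) (σ := Fin 2) (maximalIdeal C) ![U, V] (fun i => by
    fin_cases i
    exacts [hG.mem_left, hG.mem_right])
  let ψ : Model K →ₐ[K] C := Ideal.Quotient.liftₐ _ g (by
    show ∀ a ∈ Ideal.span {(MvPowerSeries.X 0 * MvPowerSeries.X 1 : MvPowerSeries (Fin 2) K)}, g a = 0
    intro a ha
    obtain ⟨b, rfl⟩ := Ideal.mem_span_singleton.1 ha
    rw [map_mul, map_mul, hgX, hgX]
    simp [hUV])
  have hψ0 : ψ (mX K 0) = U := hgX 0
  have hψ1 : ψ (mX K 1) = V := hgX 1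
  have hψm : ∀ i, ψ (mX K i) ∈ maximalIdeal C := fun i => by
    fin_cases i
    exacts [hψ0 ▸ hG.mem_left, hψ1 ▸ hG.mem_right]
  have hψmon : ∀ N i, ψ (mon (mX K 0) (mX K 1) N i) = mon U V N i := fun N i => by
    rcases i with i | i <;> simp [mon, hψ0, hψ1]
  haveI : IsNoetherianRing (MvPowerSeries (Fin 2) K) := inferInstance
  have hinj : Function.Injective ψ := by
    rw [injective_iff_map_eq_zero]
    intro f hf
    have hmem : ∀ n : ℕ, f ∈ maximalIdeal (Model K) ^ (n + 1) := fun n => by
      have h := span_monQ (rational_model K) (gens_model K) (n + 1)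
      have hf' : Ideal.Quotient.mk (maximalIdeal (Model K) ^ (n + 1)) f ∈ (⊤ : Submodule K _) := trivial
      rw [← h, Submodule.mem_span_range_iff_exists_fun] at hf'
      obtain ⟨c, hc⟩ := hf'
      have h1 : f - ∑ i, c i • mon (mX K 0) (mX K 1) (n + 1) i ∈ maximalIdeal (Model K) ^ (n + 1) := by
        rw [← Ideal.Quotient.eq_zero_iff_mem, map_sub, map_sum, sub_eq_zero]
        exact hc.symm
      have h2 := map_pow_le K ψ.toRingHom hψm (n + 1) _ h1
      have h3 : ∑ i, c i • monQ U V (n + 1) i = 0 := by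
        have h4 : ψ (f - ∑ i, c i • mon (mX K 0) (mX K 1) (n + 1) i) = - ∑ i, c i • mon U V (n + 1) i := by
          simp [map_sub, map_sum, hf, hψmon]
        rw [AlgHom.toRingHom_eq_coe, RingHom.coe_coe, h4, neg_mem_iff, ← Ideal.Quotient.eq_zero_iff_mem, map_sum] at h2
        exact h2
      have h5 := Fintype.linearIndependent_iff.1 (linearIndependent_monQ hK hG hd (Nat.succ_pos n)) c h3
      simpa [h5] using h1
    have hmem' : f ∈ ⨅ n : ℕ, maximalIdeal (Model K) ^ n := by
      rw [Ideal.mem_iInf]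
      intro n
      rcases n with _ | n
      · simp
      · exact hmem n
    rwa [Ideal.iInf_pow_eq_bot_of_isLocalRing _ (maximalIdeal.isMaximal _).ne_top, Ideal.mem_bot] at hmem'
  have hsurj : Function.Surjective ψ := by
    have hmap : (maximalIdeal (MvPowerSeries (Fin 2) K)).map g.toRingHom = maximalIdeal C := by
      rw [WildQuotLib.maximalIdeal_eq, Ideal.map_span, hspan]
      congr 1
      ext z
      simp [Fin.exists_fin_two, hgX, eq_comm]
    haveI : IsHausdorff ((maximalIdeal (MvPowerSeries (Fin 2) K)).map g.toRingHom) C := by rw [hmap]; infer_instance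
    have hs : Function.Surjective g := by
      refine surjective_of_mk_map_comp_surjective g.toRingHom (I := maximalIdeal (MvPowerSeries (Fin 2) K)) ?_
      intro x
      obtain ⟨x, rfl⟩ := Ideal.Quotient.mk_surjective x
      obtain ⟨a, ha⟩ := hK x
      refine ⟨algebraMap K _ a, ?_⟩
      rw [RingHom.comp_apply, AlgHom.toRingHom_eq_coe, RingHom.coe_coe, g.commutes, Ideal.Quotient.mk_eq_mk_iff_sub_mem]
      have ha' := neg_mem ha
      rw [neg_sub] at ha'
      exact hmap.symm ▸ ha'
    intro c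
    obtain ⟨f, hf⟩ := hs c
    exact ⟨Ideal.Quotient.mk _ f, hf⟩
  exact ⟨(AlgEquiv.ofBijective ψ ⟨hinj, hsurj⟩).symm⟩

end Groth.Agent.NodePtLib
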