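import Groth.Agent.NodePtLib.Alg

/-!
# Ordinary double points and change of the algebraically closed field
-/

set_option autoImplicit false
set_option linter.unusedSectionVars false

universe u

open IsLocalRing

noncomputable section

namespace Groth.Agent.NodePtLib

section

variable (K : Type u) [Field K] (A : Type u) [CommRing A] [IsLocalRing A] [IsNoetherianRing A] [Algebra K A]

local notation "Ah" => AdicCompletion (maximalIdeal A) A

theorem mem_pow_iff (n : ℕ) (a : A) :
    algebraMap A Ah a ∈ maximalIdeal Ah ^ n ↔ a ∈ maximalIdeal A ^ n := by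
  rw [AdicCompletion.maximalIdeal_eq_map, ← Ideal.map_pow, ← Submodule.restrictScalars_mem A,
    ← Ideal.smul_top_eq_map, AdicCompletion.pow_smul_top_eq_ker_eval (maximalIdeal A).fg_of_isNoetherianRing]
  simp [AdicCompletion.algebraMap_apply, AdicCompletion.eval, Ideal.Quotient.eq_zero_iff_mem]

theorem exists_sub_mem (n : ℕ) (x : Ah) : ∃ a : A, x - algebraMap A Ah a ∈ maximalIdeal Ah ^ n := by
  obtain ⟨a, ha⟩ := Submodule.Quotient.mk_surjective _ (AdicCompletion.eval (maximalIdeal A) A n x)
  refine ⟨a, ?_⟩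
  rw [AdicCompletion.maximalIdeal_eq_map, ← Ideal.map_pow, ← Submodule.restrictScalars_mem A,
    ← Ideal.smul_top_eq_map, AdicCompletion.pow_smul_top_eq_ker_eval (maximalIdeal A).fg_of_isNoetherianRing,
    LinearMap.mem_ker, map_sub, ← ha, sub_eq_zero]
  simp [AdicCompletion.algebraMap_apply, AdicCompletion.eval]

theorem rational_completion (hK : Rational K A) : Rational K Ah := fun x => by
  obtain ⟨a, ha⟩ := exists_sub_mem A 1 x
  obtain ⟨c, hc⟩ := hK a
  rw [pow_one] at ha
  refine ⟨c, ?_⟩
  have h := (mem_pow_iff A 1 _).2 (by rwa [pow_one])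
  rw [pow_one, map_sub, ← IsScalarTower.algebraMap_apply] at h
  rw [← sub_add_sub_cancel x (algebraMap A Ah a)]
  exact add_mem ha h

theorem finrank_completion (n : ℕ) :
    Module.finrank K (Ah ⧸ maximalIdeal Ah ^ n) = Module.finrank K (A ⧸ maximalIdeal A ^ n) := by
  let f : (A ⧸ maximalIdeal A ^ n) →ₐ[K] (Ah ⧸ maximalIdeal Ah ^ n) :=
    Ideal.quotientMapₐ _ (IsScalarTower.toAlgHom K A Ah) (fun a ha => (mem_pow_iff A n a).2 ha)
  have hf : Function.Bijective f := by
    refine ⟨?_, fun x => ?_⟩
    · rw [injective_iff_map_eq_zero]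
      intro x hx
      obtain ⟨a, rfl⟩ := Ideal.Quotient.mk_surjective x
      rw [Ideal.Quotient.eq_zero_iff_mem]
      exact (mem_pow_iff A n a).1 (Ideal.Quotient.eq_zero_iff_mem.1 hx)
    · obtain ⟨x, rfl⟩ := Ideal.Quotient.mk_surjective x
      obtain ⟨a, ha⟩ := exists_sub_mem A n x
      exact ⟨Ideal.Quotient.mk _ a, (Ideal.Quotient.mk_eq_mk_iff_sub_mem _ _).2 (by simpa using neg_mem ha)⟩
  exact (LinearEquiv.ofBijective f.toLinearMap hf).finrank_eq.symm

theorem exists_gens_completion_iff :
    (∃ u v : Ah, Gens u v) ↔ ∃ u v : A, Gens u v := by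
  constructor
  · rintro ⟨U, V, h⟩
    obtain ⟨a, ha⟩ := exists_sub_mem A 3 U
    obtain ⟨b, hb⟩ := exists_sub_mem A 3 V
    have ha' : algebraMap A Ah a - U ∈ maximalIdeal Ah ^ 3 := by simpa using neg_mem ha
    have hb' : algebraMap A Ah b - V ∈ maximalIdeal Ah ^ 3 := by simpa using neg_mem hb
    have hsp := span_eq_of_sub_mem h.1 (Ideal.pow_le_pow_right (by omega) ha') (Ideal.pow_le_pow_right (by omega) hb')
    have hmem : ∀ z, algebraMap A Ah z ∈ maximalIdeal Ah → z ∈ maximalIdeal A := fun z hz => by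
      simpa using (mem_pow_iff A 1 z).1 (by simpa using hz)
    have hab : ∀ z ∈ ({a, b} : Set A), z ∈ maximalIdeal A := by
      rintro z (rfl | rfl)
      · exact hmem _ (hsp ▸ Ideal.subset_span (Set.mem_insert _ _))
      · exact hmem _ (hsp ▸ Ideal.subset_span (Set.mem_insert_of_mem _ rfl))
    refine ⟨a, b, le_antisymm ?_ (Ideal.span_le.2 hab), (mem_pow_iff A 3 _).1 ?_⟩
    · refine Submodule.le_of_le_smul_of_le_jacobson_bot (Ideal.fg_of_isNoetherianRing _)
        (IsLocalRing.maximalIdeal_le_jacobson ⊥) ?_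
      intro z hz
      rw [smul_eq_mul, ← pow_two]
      have hz' : algebraMap A Ah z ∈ Ideal.span {algebraMap A Ah a, algebraMap A Ah b} := by
        rw [← hsp, AdicCompletion.maximalIdeal_eq_map]; exact Ideal.mem_map_of_mem _ hz
      obtain ⟨p, q, hpq⟩ := Ideal.mem_span_pair.1 hz'
      obtain ⟨p', hp⟩ := exists_sub_mem A 2 p
      obtain ⟨q', hq⟩ := exists_sub_mem A 2 q
      refine Submodule.mem_sup.2 ⟨p' * a + q' * b, Ideal.mem_span_pair.2 ⟨p', q', rfl⟩, z - (p' * a + q' * b),
        (mem_pow_iff A 2 _).1 ?_, add_sub_cancel _ _⟩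
      rw [map_sub, map_add, map_mul, map_mul, ← hpq,
        show ∀ x y : Ah, p * x + q * y - (algebraMap A Ah p' * x + algebraMap A Ah q' * y) =
          (p - algebraMap A Ah p') * x + (q - algebraMap A Ah q') * y from fun x y => by ring]
      exact add_mem (Ideal.mul_mem_right _ _ hp) (Ideal.mul_mem_right _ _ hq)
    · rw [map_mul, show algebraMap A Ah a * algebraMap A Ah b = U * V + (algebraMap A Ah a - U) * algebraMap A Ah b +
        U * (algebraMap A Ah b - V) by ring]
      exact add_mem (add_mem h.2 (Ideal.mul_mem_right _ _ ha')) (Ideal.mul_mem_left _ _ hb')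
  · rintro ⟨u, v, h⟩
    refine ⟨algebraMap A Ah u, algebraMap A Ah v, ?_, ?_⟩
    · rw [AdicCompletion.maximalIdeal_eq_map, h.1, Ideal.map_span]
      congr 1
      simp [Set.image_insert_eq]
    · rw [← map_mul, mem_pow_iff]; exact h.2

theorem nodeDim_completion_iff : NodeDim K Ah ↔ NodeDim K A := by
  simp only [NodeDim, finrank_completion]

end

theorem nodeDim_congr {K C D : Type u} [Field K] [CommRing C] [IsLocalRing C] [Algebra K C] [CommRing D]
    [IsLocalRing D] [Algebra K D] (e : C ≃ₐ[K] D) (h : NodeDim K C) : NodeDim K D := fun N hN => by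
  have hm : (maximalIdeal C).map e.toRingEquiv.toRingHom = maximalIdeal D :=
    IsLocalRing.map_ringEquiv_maximalIdeal e.toRingEquiv
  have hp : maximalIdeal D ^ N = (maximalIdeal C ^ N).map (e : C →+* D) := by
    rw [Ideal.map_pow]; exact congrArg (· ^ N) hm.symm
  rw [← (Ideal.quotientEquivAlg _ _ e hp).toLinearEquiv.finrank_eq]
  exact h N hN

/-- Ordinary double points by dimensions and a quadratic relation. -/
theorem isOrdDoublePt_iff (K : Type u) [Field K] (A : Type u) [CommRing A] [IsLocalRing A] [IsNoetherianRing A]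
    [Algebra K A] (hK : Rational K A) :
    Curv2.IsOrdDoublePt K A ↔ NodeDim K A ∧ ∃ u v : A, Gens u v := by
  haveI := NodeComplLib.isNoetherianRing_completion A
  rw [← nodeDim_completion_iff, ← exists_gens_completion_iff]
  constructor
  · rintro ⟨e, he⟩
    let E : AdicCompletion (maximalIdeal A) A ≃ₐ[K] Model K := AlgEquiv.ofRingEquiv (f := e) fun c => by
      rw [IsScalarTower.algebraMap_apply K A (AdicCompletion (maximalIdeal A) A)]
      exact he c
    refine ⟨nodeDim_congr E.symm (nodeDim_model K), E.symm (mX K 0), E.symm (mX K 1), ?_, ?_⟩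
    · rw [← IsLocalRing.map_ringEquiv_maximalIdeal E.symm.toRingEquiv, maximalIdeal_model, Ideal.map_span]
      congr 1
      simp [Set.image_insert_eq]
    · rw [← map_mul, mX_mul, map_zero]
      exact Ideal.zero_mem _
  · rintro ⟨hd, hg⟩
    obtain ⟨E⟩ := exists_iso_model K (rational_completion K A hK) hg hd
    refine ⟨E.toRingEquiv, fun c => ?_⟩
    rw [← IsScalarTower.algebraMap_apply K A (AdicCompletion (maximalIdeal A) A)]
    exact E.commutes c

section

variable {k : Type u} [Field k] [IsAlgClosed k] {K : Type u} [Field K] [Algebra k K]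
  {A B : Type u} [CommRing A] [IsLocalRing A] [IsNoetherianRing A] [Algebra k A]
  [CommRing B] [IsLocalRing B] [IsNoetherianRing B] [Algebra K B]

theorem exists_gens_of_base (hA : Rational k A) (hB : Rational K B) (φ : A →+* B)
    (hm : (maximalIdeal A).map φ = maximalIdeal B) (hdA : NodeDim k A) (hdB : NodeDim K B)
    (hgB : ∃ u v : B, Gens u v) : ∃ u v : A, Gens u v := by
  classical
  obtain ⟨u, v, huv⟩ := hgB
  let f (i : ℕ) := (Ideal.Quotient.factorₐ k (Ideal.pow_le_pow_right (Nat.le_succ i) :
    maximalIdeal A ^ (i + 1) ≤ maximalIdeal A ^ i)).toLinearMap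
  have hker : ∀ i, 1 ≤ i → Module.finrank k (LinearMap.ker (f i)) = 2 := fun i hi => by
    haveI : FiniteDimensional k (A ⧸ maximalIdeal A ^ (i + 1)) :=
      Module.finite_of_finrank_pos (by rw [hdA (i + 1) (by omega)]; omega)
    have h := (f i).finrank_range_add_finrank_ker
    have hs : LinearMap.range (f i) = ⊤ := LinearMap.range_eq_top.2 (Ideal.Quotient.factor_surjective (Ideal.pow_le_pow_right (Nat.le_succ i)))
    rw [hs, finrank_top, hdA i hi, hdA (i + 1) (by omega)] at h
    omega
  have hmemker : ∀ i (a : A), Ideal.Quotient.mk (maximalIdeal A ^ (i + 1)) a ∈ LinearMap.ker (f i) ↔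
      a ∈ maximalIdeal A ^ i := fun i a => by
    rw [LinearMap.mem_ker]
    exact Ideal.Quotient.eq_zero_iff_mem
  have hC : ∀ (i : ℕ) (c : k) (x : A), c • Ideal.Quotient.mk (maximalIdeal A ^ i) x =
      Ideal.Quotient.mk (maximalIdeal A ^ i) (algebraMap k A c * x) := fun i c x => by
    rw [← Algebra.smul_def]; rfl
  -- two generators
  haveI : FiniteDimensional k (LinearMap.ker (f 1)) :=
    Module.finite_of_finrank_pos (by rw [hker 1 le_rfl]; omega)
  let bs := Module.finBasisOfFinrankEq k (LinearMap.ker (f 1)) (hker 1 le_rfl)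
  obtain ⟨a, ha⟩ := Ideal.Quotient.mk_surjective (bs 0).1
  obtain ⟨b, hb⟩ := Ideal.Quotient.mk_surjective (bs 1).1
  have ham : a ∈ maximalIdeal A := by simpa using (hmemker 1 a).1 (ha ▸ (bs 0).2)
  have hbm : b ∈ maximalIdeal A := by simpa using (hmemker 1 b).1 (hb ▸ (bs 1).2)
  have hab : maximalIdeal A = Ideal.span {a, b} := by
    refine le_antisymm ?_ (Ideal.span_le.2 (by rintro _ (rfl | rfl) <;> assumption))
    refine Submodule.le_of_le_smul_of_le_jacobson_bot (Ideal.fg_of_isNoetherianRing _)
      (IsLocalRing.maximalIdeal_le_jacobson ⊥) fun z hz => ?_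
    have hz' := (hmemker 1 z).2 (by simpa using hz)
    have h := congrArg Subtype.val (bs.sum_repr ⟨_, hz'⟩)
    simp only [Fin.sum_univ_two, Submodule.coe_add, SetLike.val_smul, ← ha, ← hb, hC, ← map_add] at h
    rw [smul_eq_mul, ← pow_two]
    rw [Ideal.Quotient.mk_eq_mk_iff_sub_mem] at h
    refine Submodule.mem_sup.2 ⟨algebraMap k A (bs.repr ⟨_, hz'⟩ 0) * a + algebraMap k A (bs.repr ⟨_, hz'⟩ 1) * b,
      Ideal.mem_span_pair.2 ⟨_, _, rfl⟩, _, neg_mem h, ?_⟩
    ring
  -- a quadratic relation
  have hk2 : Module.finrank k (LinearMap.ker (f 2)) = 2 := hker 2 (by norm_num)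
  haveI : FiniteDimensional k (LinearMap.ker (f 2)) := Module.finite_of_finrank_pos (by omega)
  have hsq : ∀ x y : A, x ∈ maximalIdeal A → y ∈ maximalIdeal A →
      Ideal.Quotient.mk (maximalIdeal A ^ (2 + 1)) (x * y) ∈ LinearMap.ker (f 2) := fun x y hx hy =>
    (hmemker 2 _).2 (by rw [pow_two]; exact Ideal.mul_mem_mul hx hy)
  let w : Fin 3 → LinearMap.ker (f 2) := ![⟨_, hsq a a ham ham⟩, ⟨_, hsq a b ham hbm⟩, ⟨_, hsq b b hbm hbm⟩]
  have hdep : ¬ LinearIndependent k w := fun hli => by
    have h := hli.fintype_card_le_finrank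
    simp [hk2] at h
  obtain ⟨c, hc, i, hi⟩ := Fintype.not_linearIndependent_iff.1 hdep
  have hrel : algebraMap k A (c 0) * (a * a) + algebraMap k A (c 1) * (a * b) + algebraMap k A (c 2) * (b * b) ∈
      maximalIdeal A ^ 3 := by
    have h := congrArg Subtype.val hc
    simp only [Fin.sum_univ_three, w, Submodule.coe_add, SetLike.val_smul, Submodule.coe_zero, Matrix.cons_val_zero,
      Matrix.cons_val_one, Matrix.cons_val_two, Matrix.tail_cons, Matrix.head_cons, hC, ← map_add] at h
    exact Ideal.Quotient.eq_zero_iff_mem.1 h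
  -- squares are not small
  have hbad : ∀ L L' : A, maximalIdeal A = Ideal.span {L, L'} → L * L ∈ maximalIdeal A ^ 3 → False := by
    intro L L' hgen hL
    have hgenB : maximalIdeal B = Ideal.span {φ L, φ L'} := by
      rw [← hm, hgen, Ideal.map_span]
      congr 1
      simp [Set.image_insert_eq]
    have hLB : φ L * φ L ∈ maximalIdeal B ^ 3 := by
      rw [← map_mul, ← hm, ← Ideal.map_pow]; exact Ideal.mem_map_of_mem φ hL
    have hlm : φ L ∈ maximalIdeal B := hgenB ▸ Ideal.subset_span (Set.mem_insert (φ L) {φ L'})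
    obtain ⟨α, β, hw⟩ := exists_combination hB huv 0 (φ L) (by simpa using hlm)
    simp only [zero_add, pow_one] at hw
    have h2 : algebraMap K B (α * α) * u ^ 2 + algebraMap K B (β * β) * v ^ 2 ∈ maximalIdeal B ^ 3 := by
      have hs : algebraMap K B α * u + algebraMap K B β * v ∈ maximalIdeal B :=
        add_mem (Ideal.mul_mem_left _ _ huv.mem_left) (Ideal.mul_mem_left _ _ huv.mem_right)
      have h3 : (φ L - (algebraMap K B α * u + algebraMap K B β * v)) *
          (φ L + (algebraMap K B α * u + algebraMap K B β * v)) ∈ maximalIdeal B ^ 3 := by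
        rw [pow_succ _ 2]; exact Ideal.mul_mem_mul hw (add_mem hlm hs)
      have e : algebraMap K B (α * α) * u ^ 2 + algebraMap K B (β * β) * v ^ 2 = φ L * φ L -
          (φ L - (algebraMap K B α * u + algebraMap K B β * v)) *
            (φ L + (algebraMap K B α * u + algebraMap K B β * v)) -
          2 * algebraMap K B α * algebraMap K B β * (u * v) := by
        rw [map_mul, map_mul]; ring
      rw [e]
      exact sub_mem (sub_mem hLB h3) (Ideal.mul_mem_left _ _ huv.2)
    have hli := Fintype.linearIndependent_iff.1 (linearIndependent_monQ hB huv hdB (N := 3) (by norm_num))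
      (Sum.elim ![0, 0, α * α] ![0, β * β]) (by
        rw [Fintype.sum_sum_type, Fin.sum_univ_three, Fin.sum_univ_two]
        simp only [Sum.elim_inl, Sum.elim_inr, monQ, mon, Matrix.cons_val_zero, Matrix.cons_val_one,
          Matrix.cons_val_two, Matrix.tail_cons, Matrix.head_cons, zero_smul, zero_add]
        rw [show ∀ (c : K) (x : B), c • Ideal.Quotient.mk (maximalIdeal B ^ 3) x =
          Ideal.Quotient.mk _ (algebraMap K B c * x) from fun c x => by rw [← Algebra.smul_def]; rfl,
          show ∀ (c : K) (x : B), c • Ideal.Quotient.mk (maximalIdeal B ^ 3) x =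
          Ideal.Quotient.mk _ (algebraMap K B c * x) from fun c x => by rw [← Algebra.smul_def]; rfl,
          ← map_add, Ideal.Quotient.eq_zero_iff_mem]
        simpa using h2)
    have hα : α = 0 := by simpa using hli (.inl 2)
    have hβ : β = 0 := by simpa using hli (.inr 1)
    rw [hα, hβ, map_zero, zero_mul, zero_mul, add_zero, sub_zero] at hw
    have hG : Gens (φ L') (0 : B) := by
      refine ⟨?_, by rw [mul_zero]; exact Ideal.zero_mem _⟩
      have h := span_eq_of_sub_mem (u := φ L) (v := φ L') (u' := 0) (v' := φ L') hgenB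
        (by simpa using neg_mem hw) (by simp)
      rw [h, Set.pair_comm]
    exact (linearIndependent_monQ hB hG hdB (N := 2) (by norm_num)).ne_zero (Sum.inr 0) (by simp [monQ, mon])
  -- factor the quadratic form
  have hgens : ∀ x y : A, (∀ z ∈ ({a, b} : Set A), z ∈ Ideal.span {x, y}) → x ∈ maximalIdeal A →
      y ∈ maximalIdeal A → maximalIdeal A = Ideal.span {x, y} := fun x y h hx hy =>
    le_antisymm (hab ▸ Ideal.span_le.2 h) (Ideal.span_le.2 (by rintro _ (rfl | rfl) <;> assumption))
  have hinv : ∀ c : k, c ≠ 0 → algebraMap k A c⁻¹ * algebraMap k A c = 1 := fun c hc => by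
    rw [← map_mul, inv_mul_cancel₀ hc, map_one]
  by_cases hp : c 0 = 0
  · by_cases hq : c 1 = 0
    · have hr : c 2 ≠ 0 := fun hr => hi (by fin_cases i <;> assumption)
      refine (hbad b a (by rw [hab, Set.pair_comm]) ?_).elim
      rw [hp, hq, map_zero, zero_mul, zero_mul, zero_add, zero_add] at hrel
      have h := Ideal.mul_mem_left _ (algebraMap k A (c 2)⁻¹) hrel
      rwa [← mul_assoc, hinv _ hr, one_mul] at h
    · refine ⟨b, algebraMap k A (c 1) * a + algebraMap k A (c 2) * b, hgens _ _ ?_ hbm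
        (add_mem (Ideal.mul_mem_left _ _ ham) (Ideal.mul_mem_left _ _ hbm)), ?_⟩
      · rintro z (hz | hz)
        · rw [hz, Ideal.mem_span_pair]
          refine ⟨-(algebraMap k A (c 1)⁻¹ * algebraMap k A (c 2)), algebraMap k A (c 1)⁻¹, ?_⟩
          linear_combination a * hinv _ hq
        · rw [Set.mem_singleton_iff.1 hz]; exact Ideal.subset_span (Set.mem_insert b _)
      · rw [hp, map_zero, zero_mul, zero_add] at hrel
        convert hrel using 1
        ring
  · obtain ⟨t, ht⟩ := IsAlgClosed.exists_root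
      (Polynomial.C (c 0) * Polynomial.X ^ 2 + Polynomial.C (c 1) * Polynomial.X + Polynomial.C (c 2))
      (by rw [Polynomial.degree_quadratic hp]; decide)
    simp only [Polynomial.IsRoot, Polynomial.eval_add, Polynomial.eval_mul, Polynomial.eval_C, Polynomial.eval_pow,
      Polynomial.eval_X] at ht
    let s : k := -(c 1) / c 0 - t
    have hs : c 1 = -(c 0 * (t + s)) := by simp only [s]; field_simp; ring
    have hts : c 2 = c 0 * (t * s) := by
      have : c 2 = -(c 0 * t ^ 2 + c 1 * t) := by linear_combination ht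
      rw [this, hs]; ring
    have hfac : (a - algebraMap k A t * b) * (a - algebraMap k A s * b) ∈ maximalIdeal A ^ 3 := by
      have h := Ideal.mul_mem_left _ (algebraMap k A (c 0)⁻¹) hrel
      rw [hs, hts] at h
      convert h using 1
      simp only [map_neg, map_mul, map_add]
      linear_combination -((a - algebraMap k A t * b) * (a - algebraMap k A s * b)) * hinv _ hp
    have hxm : ∀ r, a - algebraMap k A r * b ∈ maximalIdeal A := fun r => sub_mem ham (Ideal.mul_mem_left _ _ hbm)
    by_cases hst : t = s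
    · refine (hbad (a - algebraMap k A t * b) b (hgens _ _ ?_ (hxm t) hbm) (hst.symm ▸ hfac)).elim
      rintro z (hz | hz)
      · rw [hz, Ideal.mem_span_pair]
        exact ⟨1, algebraMap k A t, by ring⟩
      · rw [Set.mem_singleton_iff.1 hz]; exact Ideal.subset_span (Set.mem_insert_of_mem _ rfl)
    · refine ⟨_, _, hgens _ _ ?_ (hxm t) (hxm s), hfac⟩
      have h1 := hinv (s - t) (sub_ne_zero.2 (Ne.symm hst))
      rw [map_sub] at h1
      rintro z (hz | hz)
      · rw [hz, Ideal.mem_span_pair]
        refine ⟨algebraMap k A (s - t)⁻¹ * algebraMap k A s, -(algebraMap k A (s - t)⁻¹ * algebraMap k A t), ?_⟩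
        linear_combination a * h1
      · rw [Set.mem_singleton_iff.1 hz, Ideal.mem_span_pair]
        refine ⟨algebraMap k A (s - t)⁻¹, -algebraMap k A (s - t)⁻¹, ?_⟩
        linear_combination b * h1

/-- Ordinary double points and change of algebraically closed field. -/
theorem isOrdDoublePt_baseChange (hA : Rational k A) (hB : Rational K B) (φ : A →+* B)
    (hm : (maximalIdeal A).map φ = maximalIdeal B)
    (hdim : ∀ N, Module.finrank K (B ⧸ maximalIdeal B ^ N) = Module.finrank k (A ⧸ maximalIdeal A ^ N)) :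
    Curv2.IsOrdDoublePt k A ↔ Curv2.IsOrdDoublePt K B := by
  rw [isOrdDoublePt_iff k A hA, isOrdDoublePt_iff K B hB]
  constructor
  · rintro ⟨hd, u, v, h⟩
    refine ⟨fun N hN => (hdim N).trans (hd N hN), φ u, φ v, ?_, ?_⟩
    · rw [← hm, h.1, Ideal.map_span]
      congr 1
      simp [Set.image_insert_eq]
    · rw [← map_mul, ← hm, ← Ideal.map_pow]; exact Ideal.mem_map_of_mem φ h.2
  · rintro ⟨hd, hg⟩
    have hdA : NodeDim k A := fun N hN => (hdim N).symm.trans (hd N hN)
    exact ⟨hdA, exists_gens_of_base hA hB φ hm hdA hd hg⟩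

end

end Groth.Agent.NodePtLib
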