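import Groth.Agent.NodePtLib.Fitt

/-!
# The converse of the Jacobian criterion for ordinary double points
-/

set_option autoImplicit false
set_option linter.unusedSectionVars false
set_option linter.style.haveILetI false

universe u

open IsLocalRing

noncomputable section

namespace Groth.Agent.NodePtLib

variable {K : Type u} [Field K] {O : Type u} [CommRing O] [IsLocalRing O] [IsNoetherianRing O] [Algebra K O]

local notation "m" => maximalIdeal O
local notation "ck" => algebraMap K O

theorem span_eq_of_le_sup {I J : Ideal O} (hJ : J ≤ I) (h : I ≤ J ⊔ m * I) : I = J :=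
  le_antisymm (Submodule.le_of_le_smul_of_le_jacobson_bot (I := m) (Ideal.fg_of_isNoetherianRing _)
    (IsLocalRing.maximalIdeal_le_jacobson ⊥) (by rwa [smul_eq_mul])) hJ

/-- Two generators of a power of the maximal ideal are independent. -/
theorem two_gen_ind {t : O} (ht : t ∈ m) (htd : t ∈ nonZeroDivisors O) (hnp : ∀ c, m ≠ Ideal.span {c})
    {N : ℕ} (hN : 1 ≤ N) {p q : O} (hp : p ∈ m ^ N) (hq : q ∈ m ^ N)
    (hspan : m ^ N ≤ Ideal.span {p, q} ⊔ m ^ (N + 1)) {α β : K} (h : ck α * p + ck β * q ∈ m ^ (N + 1)) :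
    α = 0 ∧ β = 0 := by
  have key : ∀ (p q : O) (α β : K), p ∈ m ^ N → m ^ N ≤ Ideal.span {p, q} ⊔ m ^ (N + 1) →
      ck α * p + ck β * q ∈ m ^ (N + 1) → β = 0 := by
    intro p q α β hp hspan h
    by_contra hβ
    have hq' : q ∈ Ideal.span {p} ⊔ m ^ (N + 1) := by
      have hinv : ck β⁻¹ * ck β = 1 := by rw [← map_mul, inv_mul_cancel₀ hβ, map_one]
      rw [show q = -(ck β⁻¹ * ck α) * p + ck β⁻¹ * (ck α * p + ck β * q) by linear_combination -q * hinv]
      exact Submodule.add_mem_sup (Ideal.mul_mem_left _ _ (Ideal.mem_span_singleton_self p)) (Ideal.mul_mem_left _ _ h)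
    refine not_principal_pow ht htd hnp hN p (span_eq_of_le_sup ((Ideal.span_singleton_le_iff_mem _).2 hp) ?_)
    rw [← pow_succ']
    refine hspan.trans (sup_le (Ideal.span_le.2 ?_) le_sup_right)
    rintro w (rfl | rfl)
    · exact Submodule.mem_sup_left (Ideal.mem_span_singleton_self w)
    · exact hq'
  exact ⟨key q p β α hq (by rwa [Set.pair_comm]) (add_comm (ck α * p) (ck β * q) ▸ h), key p q α β hp hspan h⟩

theorem cotangent_ind {t : O} (ht : t ∈ m) (htd : t ∈ nonZeroDivisors O) (hnp : ∀ c, m ≠ Ideal.span {c})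
    {a b : O} (hab : m = Ideal.span {a, b}) (α β : K) (h : ck α * a + ck β * b ∈ m ^ 2) : α = 0 ∧ β = 0 := by
  have ha : a ∈ m := hab.ge (Ideal.subset_span (Set.mem_insert a {b}))
  have hb : b ∈ m := hab.ge (Ideal.subset_span (Set.mem_insert_of_mem a rfl))
  exact two_gen_ind ht htd hnp le_rfl (by rwa [pow_one]) (by rwa [pow_one])
    (by rw [pow_one]; exact hab.le.trans le_sup_left) h

/-- Non-principal, with a non-zero-divisor and a split relation: the jets have the dimensions of a node. -/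
theorem nodeDim_of_gens (hK : Rational K O) {u v : O} (h : Gens u v) {t : O} (ht : t ∈ m)
    (htd : t ∈ nonZeroDivisors O) (hnp : ∀ c, m ≠ Ideal.span {c}) : NodeDim K O := by
  classical
  have hu := h.mem_left
  have hv := h.mem_right
  have top : ∀ N : ℕ, ∀ α β : K, ck α * u ^ (N + 1) + ck β * v ^ (N + 1) ∈ m ^ (N + 2) → α = 0 ∧ β = 0 := by
    intro N α β hh
    refine two_gen_ind ht htd hnp (Nat.succ_pos N) (Ideal.pow_mem_pow hu _) (Ideal.pow_mem_pow hv _) ?_ hh
    intro a ha
    obtain ⟨γ, δ, hw⟩ := exists_combination hK h N a ha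
    rw [← add_sub_cancel (ck γ * u ^ (N + 1) + ck δ * v ^ (N + 1)) a]
    exact Submodule.add_mem_sup (Ideal.mem_span_pair.2 ⟨_, _, rfl⟩) hw
  have key : ∀ N : ℕ, ∀ (c : K) (g g' : ℕ → K),
      ck c + ∑ i ∈ Finset.range N, (ck (g i) * u ^ (i + 1) + ck (g' i) * v ^ (i + 1)) ∈ m ^ (N + 1) →
        c = 0 ∧ ∀ i < N, g i = 0 ∧ g' i = 0 := by
    intro N
    induction N with
    | zero =>
      intro c g g' hh
      rw [Finset.range_zero, Finset.sum_empty, add_zero, zero_add, pow_one] at hh
      exact ⟨eq_zero_of_algebraMap_mem (K := K) hh, fun i hi => absurd hi (by omega)⟩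
    | succ N ih =>
      intro c g g' hh
      rw [Finset.sum_range_succ] at hh
      have htop : ck (g N) * u ^ (N + 1) + ck (g' N) * v ^ (N + 1) ∈ m ^ (N + 1) :=
        add_mem (Ideal.mul_mem_left _ _ (Ideal.pow_mem_pow hu _)) (Ideal.mul_mem_left _ _ (Ideal.pow_mem_pow hv _))
      obtain ⟨hc, hg⟩ := ih c g g' (by
        have := sub_mem (Ideal.pow_le_pow_right (show N + 1 ≤ N + 1 + 1 by omega) hh) htop
        convert this using 1; ring)
      refine ⟨hc, fun i hi => ?_⟩
      rcases (Nat.lt_succ_iff_lt_or_eq.1 hi) with hi | rfl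
      · exact hg i hi
      · refine top i _ _ ?_
        rw [hc, map_zero, zero_add, Finset.sum_eq_zero (fun j hj => by
          rw [(hg j (Finset.mem_range.1 hj)).1, (hg j (Finset.mem_range.1 hj)).2, map_zero, zero_mul, zero_mul,
            add_zero]), zero_add] at hh
        exact hh
  intro N hN
  obtain ⟨N, rfl⟩ : ∃ N', N = N' + 1 := ⟨N - 1, by omega⟩
  have hli : LinearIndependent K (monQ u v (N + 1)) := by
    rw [Fintype.linearIndependent_iff]
    intro c hc
    let g : ℕ → K := fun i => if hi : i < N then c (.inl ⟨i + 1, by omega⟩) else 0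
    let g' : ℕ → K := fun i => if hi : i < N then c (.inr ⟨i, by omega⟩) else 0
    obtain ⟨h0, hg⟩ := key N (c (.inl 0)) g g' (by
      rw [Fintype.sum_sum_type] at hc
      simp only [monQ, mon, Sum.elim_inl, Sum.elim_inr, smul_mk] at hc
      rw [← map_sum, ← map_sum, ← map_add, Ideal.Quotient.eq_zero_iff_mem, Fin.sum_univ_succ] at hc
      convert hc using 1
      rw [Finset.sum_add_distrib, ← Fin.sum_univ_eq_sum_range, ← Fin.sum_univ_eq_sum_range, add_assoc]
      congr 1
      · simp
      · congr 1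
        · refine Finset.sum_congr rfl fun i _ => ?_
          simp only [g, dif_pos i.2, Fin.val_succ]
          congr 3
        · refine Finset.sum_congr rfl fun i _ => ?_
          simp only [g', dif_pos i.2]
          congr 3)
    intro i
    rcases i with i | i
    · refine Fin.cases h0 (fun j => ?_) i
      simpa [g, Fin.succ] using (hg j.1 j.2).1
    · have hi : i.1 < N := by omega
      simpa [g', hi] using (hg i.1 hi).2
  rw [← finrank_top, ← span_monQ hK h (N + 1), finrank_span_eq_card hli, card_mon (N + 1) (by omega)]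

variable [Algebra.EssFiniteType K O]

/-- The Jacobian ideal can only be maximal when the tangent space is a plane. -/
theorem exists_two_gens (hK : Rational K O) (hJ : Fitt.ideal O Ω[O⁄K] 1 = m)
    (hnp : ∀ c, m ≠ Ideal.span {c}) : ∃ a b : O, m = Ideal.span {a, b} := by
  classical
  have hP : ∃ n, ∃ x : Fin n → O, m = Ideal.span (Set.range x) := by
    obtain ⟨n, x, hx⟩ := Submodule.fg_iff_exists_fin_generating_family.1 (Ideal.fg_of_isNoetherianRing m)
    exact ⟨n, x, hx.symm⟩
  obtain ⟨x, hx⟩ := Nat.find_spec hP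
  have hmin : ∀ k < Nat.find hP, ¬ ∃ x : Fin k → O, m = Ideal.span (Set.range x) := fun k hk => Nat.find_min hP hk
  generalize Nat.find hP = n at x hx hmin
  have hxm : ∀ i, x i ∈ m := fun i => hx.ge (Ideal.subset_span ⟨i, rfl⟩)
  match n, x, hx, hmin, hxm with
  | 0, x, hx, _, _ =>
    exact absurd (hx.trans (by rw [Set.range_eq_empty, Ideal.span_empty, Ideal.span_singleton_eq_bot.2 rfl])) (hnp 0)
  | 1, x, hx, _, _ =>
    exact absurd (hx.trans (by rw [Set.range_unique]; rfl)) (hnp (x 0))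
  | 2, x, hx, _, _ =>
    exact ⟨x 0, x 1, hx.trans (congrArg Ideal.span (by ext z; simp [Fin.exists_fin_two, eq_comm]))⟩
  | n + 3, x, hx, hmin, hxm =>
    exfalso
    have hind : ∀ c : Fin (n + 3) → K, ∑ i, ck (c i) * x i ∈ m ^ 2 → c = 0 := by
      intro c hc
      funext j
      by_contra hj
      refine hmin (n + 2) (by omega) ⟨x ∘ j.succAbove, span_eq_of_le_sup
        (Ideal.span_le.2 (by rintro _ ⟨i, rfl⟩; exact hxm _)) ?_⟩
      conv_lhs => rw [hx]
      rw [Ideal.span_le]
      rintro _ ⟨i, rfl⟩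
      rcases Fin.eq_self_or_eq_succAbove j i with rfl | ⟨i, rfl⟩
      · have hinv : ck (c i)⁻¹ * ck (c i) = 1 := by rw [← map_mul, inv_mul_cancel₀ hj, map_one]
        rw [Fin.sum_univ_succAbove _ i] at hc
        rw [show x i = -(ck (c i)⁻¹ * ∑ l, ck (c (i.succAbove l)) * x (i.succAbove l)) +
          ck (c i)⁻¹ * (ck (c i) * x i + ∑ l, ck (c (i.succAbove l)) * x (i.succAbove l)) by
            linear_combination -(x i) * hinv]
        refine Submodule.add_mem_sup (neg_mem (Ideal.mul_mem_left _ _ (Ideal.sum_mem _ fun l _ =>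
          Ideal.mul_mem_left _ _ (Ideal.subset_span ⟨l, rfl⟩)))) ?_
        rw [← pow_two]
        exact Ideal.mul_mem_left _ _ hc
      · exact Submodule.mem_sup_left (Ideal.subset_span ⟨i, rfl⟩)
    have hle : m ≤ m ^ 2 := by
      conv_lhs => rw [← hJ]
      rw [FittLib.ideal_eq_minors (fun i => KaehlerDifferential.D K O (x i)) (span_D_eq_top hK hx) 1, Ideal.span_le]
      rintro _ ⟨z, e, hz, rfl⟩
      have hzm : ∀ j i, z j i ∈ m := fun j i => by
        obtain ⟨D, hD⟩ := exists_coord hK hxm hind i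
        have := relation_eq_zero D (hz j)
        rw [Finset.sum_eq_single i (fun l _ hl => by rw [hD, if_neg hl, smul_zero]) (by simp), hD, if_pos rfl,
          Algebra.smul_def, mul_one, Ideal.Quotient.algebraMap_eq, Ideal.Quotient.eq_zero_iff_mem] at this
        exact this
      rw [SetLike.mem_coe, Matrix.det_apply]
      refine Ideal.sum_mem _ fun σ _ => Submodule.smul_of_tower_mem _ _ ?_
      have h := Ideal.prod_mem_prod (s := (Finset.univ : Finset (Fin (n + 3 - 1)))) (I := fun _ => m)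
        (x := fun i => (Matrix.of fun a b => z b (e a)) (σ i) i) (fun i _ => hzm i (e (σ i)))
      rw [Finset.prod_const, Finset.card_univ, Fintype.card_fin] at h
      exact Ideal.pow_le_pow_right (by omega) h
    have hbot : m = ⊥ := Submodule.eq_bot_of_le_smul_of_le_jacobson_bot m m (Ideal.fg_of_isNoetherianRing _)
      (by rwa [smul_eq_mul, ← pow_two]) (IsLocalRing.maximalIdeal_le_jacobson _)
    exact hnp 0 (by rw [hbot, Ideal.span_singleton_eq_bot.2 rfl])

/-- The quadratic relation cannot be degenerate. -/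
theorem not_degenerate (hK : Rational K O) (hJ : Fitt.ideal O Ω[O⁄K] 1 = m) (hnp : ∀ c, m ≠ Ideal.span {c})
    {a b : O} (hab : m = Ideal.span {a, b}) (hind : ∀ α β : K, ck α * a + ck β * b ∈ m ^ 2 → α = 0 ∧ β = 0)
    (hrel : ∀ c₀ c₁ c₂ : K, ck c₀ * (a * a) + ck c₁ * (a * b) + ck c₂ * (b * b) ∈ m ^ 3 → c₁ = 0 ∧ c₂ = 0) :
    False := by
  classical
  have ha : a ∈ m := hab.ge (Ideal.subset_span (Set.mem_insert a {b}))
  have hx : m = Ideal.span (Set.range ![a, b]) := by
    rw [hab]; congr 1; ext z; simp [Fin.exists_fin_two, eq_comm]; exact or_comm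
  have hz' : ∀ p q : O, ∃ D : Derivation K O (O ⧸ (Ideal.span {a} ⊔ m ^ 2)),
      D a = Ideal.Quotient.mk _ p ∧ D b = Ideal.Quotient.mk _ q := fun p q => by
    refine exists_derivation_jet hK hab hind le_sup_right p q fun c₀ c₁ c₂ h => ?_
    obtain ⟨rfl, rfl⟩ := hrel c₀ c₁ c₂ h
    rw [map_zero, zero_mul, zero_mul, add_zero, add_zero, show ck c₀ * (2 * a * p) = ck c₀ * 2 * p * a by ring]
    exact Submodule.mem_sup_left (Ideal.mul_mem_left _ _ (Ideal.mem_span_singleton_self a))
  obtain ⟨D₀, h00, h01⟩ := hz' 1 0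
  obtain ⟨D₁, h10, h11⟩ := hz' 0 1
  refine hnp a (span_eq_of_le_sup ((Ideal.span_singleton_le_iff_mem _).2 ha) ?_)
  conv_lhs => rw [← hJ]
  rw [FittLib.ideal_eq_minors (fun i => KaehlerDifferential.D K O (![a, b] i)) (span_D_eq_top hK hx) 1, Ideal.span_le,
    ← pow_two]
  rintro _ ⟨z, e, hz, rfl⟩
  haveI : Unique (Fin ((Nat.succ 0).succ - 1)) := inferInstanceAs (Unique (Fin 1))
  have hzI : ∀ j i, z j i ∈ Ideal.span {a} ⊔ m ^ 2 := fun j i => by
    have e0 := relation_eq_zero D₀ (hz j)
    have e1 := relation_eq_zero D₁ (hz j)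
    simp only [Fin.sum_univ_two, Matrix.cons_val_zero, Matrix.cons_val_one, h00, h01, h10, h11, map_zero, map_one,
      smul_zero, mul_zero, add_zero, zero_add, Algebra.smul_def, mul_one, Ideal.Quotient.algebraMap_eq,
      Ideal.Quotient.eq_zero_iff_mem] at e0 e1
    fin_cases i
    exacts [e0, e1]
  rw [SetLike.mem_coe, Matrix.det_unique]
  exact hzI _ _

/-- The Jacobian criterion. -/
theorem gens_of_fitt [IsAlgClosed K] (hK : Rational K O) (hJ : Fitt.ideal O Ω[O⁄K] 1 = m) {t : O} (ht : t ∈ m)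
    (htd : t ∈ nonZeroDivisors O) : NodeDim K O ∧ ∃ u v : O, Gens u v := by
  classical
  have hnp : ∀ c, m ≠ Ideal.span {c} := fun c hc => (maximalIdeal.isMaximal O).ne_top
    (hJ.symm.trans (fitt_eq_top_of_principal hK hc))
  obtain ⟨a, b, hab⟩ := exists_two_gens hK hJ hnp
  suffices h : ∃ u v : O, Gens u v from by
    obtain ⟨u, v, huv⟩ := h
    exact ⟨nodeDim_of_gens hK huv ht htd hnp, u, v, huv⟩
  have ha : a ∈ m := hab.ge (Ideal.subset_span (Set.mem_insert a {b}))
  have hb : b ∈ m := hab.ge (Ideal.subset_span (Set.mem_insert_of_mem a rfl))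
  -- a degenerate relation is impossible
  have hbad : ∀ L L' : O, m = Ideal.span {L, L'} → L * L ∈ m ^ 3 → False := by
    intro L L' hgen hL
    have hLm : L ∈ m := hgen.ge (Ideal.subset_span (Set.mem_insert L {L'}))
    have hL'm : L' ∈ m := hgen.ge (Ideal.subset_span (Set.mem_insert_of_mem L rfl))
    refine not_degenerate hK hJ hnp hgen (cotangent_ind ht htd hnp hgen) fun c₀ c₁ c₂ h => ?_
    refine two_gen_ind ht htd hnp (by norm_num : 1 ≤ 2) (by rw [pow_two]; exact Ideal.mul_mem_mul hLm hL'm)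
      (by rw [pow_two]; exact Ideal.mul_mem_mul hL'm hL'm) ?_ (α := c₁) (β := c₂) ?_
    · rw [pow_two, Ideal.mul_le]
      intro r hr s hs
      rw [hgen, Ideal.mem_span_pair] at hr hs
      obtain ⟨r₀, r₁, rfl⟩ := hr
      obtain ⟨s₀, s₁, rfl⟩ := hs
      rw [show (r₀ * L + r₁ * L') * (s₀ * L + s₁ * L') =
        ((r₀ * s₁ + r₁ * s₀) * (L * L') + r₁ * s₁ * (L' * L')) + r₀ * s₀ * (L * L) by ring]
      exact Submodule.add_mem_sup (Ideal.mem_span_pair.2 ⟨_, _, rfl⟩) (Ideal.mul_mem_left _ _ hL)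
    · have h' := sub_mem h (Ideal.mul_mem_left _ (ck c₀) hL)
      convert h' using 1; ring
  obtain ⟨c₀, c₁, c₂, hrel, hne⟩ : ∃ c₀ c₁ c₂ : K,
      ck c₀ * (a * a) + ck c₁ * (a * b) + ck c₂ * (b * b) ∈ m ^ 3 ∧ (c₀ ≠ 0 ∨ c₁ ≠ 0 ∨ c₂ ≠ 0) := by
    by_contra! hcon
    exact not_degenerate hK hJ hnp hab (cotangent_ind ht htd hnp hab) fun c₀ c₁ c₂ h => (hcon c₀ c₁ c₂ h).2
  have hgens : ∀ x y : O, (∀ z ∈ ({a, b} : Set O), z ∈ Ideal.span {x, y}) → x ∈ m → y ∈ m →
      m = Ideal.span {x, y} := fun x y h hx hy =>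
    le_antisymm (hab ▸ Ideal.span_le.2 h) (Ideal.span_le.2 (by rintro _ (rfl | rfl) <;> assumption))
  have hinv : ∀ c : K, c ≠ 0 → ck c⁻¹ * ck c = 1 := fun c hc => by rw [← map_mul, inv_mul_cancel₀ hc, map_one]
  by_cases hp : c₀ = 0
  · by_cases hq : c₁ = 0
    · have hr : c₂ ≠ 0 := hne.elim (fun h => absurd hp h) (fun h => h.elim (fun h => absurd hq h) id)
      refine (hbad b a (by rw [hab, Set.pair_comm]) ?_).elim
      rw [hp, hq, map_zero, zero_mul, zero_mul, zero_add, zero_add] at hrel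
      have h := Ideal.mul_mem_left _ (ck c₂⁻¹) hrel
      rwa [← mul_assoc, hinv _ hr, one_mul] at h
    · refine ⟨b, ck c₁ * a + ck c₂ * b, hgens _ _ ?_ hb
        (add_mem (Ideal.mul_mem_left _ _ ha) (Ideal.mul_mem_left _ _ hb)), ?_⟩
      · rintro z (hz | hz)
        · rw [hz, Ideal.mem_span_pair]
          refine ⟨-(ck c₁⁻¹ * ck c₂), ck c₁⁻¹, ?_⟩
          linear_combination a * hinv _ hq
        · rw [Set.mem_singleton_iff.1 hz]; exact Ideal.subset_span (Set.mem_insert b _)
      · rw [hp, map_zero, zero_mul, zero_add] at hrel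
        convert hrel using 1
        ring
  · obtain ⟨r, hr⟩ := IsAlgClosed.exists_root
      (Polynomial.C c₀ * Polynomial.X ^ 2 + Polynomial.C c₁ * Polynomial.X + Polynomial.C c₂)
      (by rw [Polynomial.degree_quadratic hp]; decide)
    simp only [Polynomial.IsRoot, Polynomial.eval_add, Polynomial.eval_mul, Polynomial.eval_C, Polynomial.eval_pow,
      Polynomial.eval_X] at hr
    let s : K := -c₁ / c₀ - r
    have hs : c₁ = -(c₀ * (r + s)) := by simp only [s]; field_simp; ring
    have hts : c₂ = c₀ * (r * s) := by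
      have : c₂ = -(c₀ * r ^ 2 + c₁ * r) := by linear_combination hr
      rw [this, hs]; ring
    have hfac : (a - ck r * b) * (a - ck s * b) ∈ m ^ 3 := by
      have h := Ideal.mul_mem_left _ (ck c₀⁻¹) hrel
      rw [hs, hts] at h
      convert h using 1
      simp only [map_neg, map_mul, map_add]
      linear_combination -((a - ck r * b) * (a - ck s * b)) * hinv _ hp
    have hxm : ∀ r, a - ck r * b ∈ m := fun r => sub_mem ha (Ideal.mul_mem_left _ _ hb)
    by_cases hst : r = s
    · refine (hbad (a - ck r * b) b (hgens _ _ ?_ (hxm r) hb) (hst.symm ▸ hfac)).elim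
      rintro z (hz | hz)
      · rw [hz, Ideal.mem_span_pair]
        exact ⟨1, ck r, by ring⟩
      · rw [Set.mem_singleton_iff.1 hz]; exact Ideal.subset_span (Set.mem_insert_of_mem _ rfl)
    · refine ⟨_, _, hgens _ _ ?_ (hxm r) (hxm s), hfac⟩
      have h1 := hinv (s - r) (sub_ne_zero.2 (Ne.symm hst))
      rw [map_sub] at h1
      rintro z (hz | hz)
      · rw [hz, Ideal.mem_span_pair]
        refine ⟨ck (s - r)⁻¹ * ck s, -(ck (s - r)⁻¹ * ck r), ?_⟩
        linear_combination a * h1
      · rw [Set.mem_singleton_iff.1 hz, Ideal.mem_span_pair]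
        refine ⟨ck (s - r)⁻¹, -ck (s - r)⁻¹, ?_⟩
        linear_combination b * h1

theorem sum_gens_mem_nonZeroDivisors (hK : Rational K O) {u v : O} (h : Gens u v) (hd : NodeDim K O) :
    u + v ∈ nonZeroDivisors O := by
  classical
  have top : ∀ (j : ℕ) (α β : K), ck α * u ^ (j + 1) + ck β * v ^ (j + 1) ∈ m ^ (j + 2) → α = 0 ∧ β = 0 := by
    intro j α β hh
    have hli := Fintype.linearIndependent_iff.1 (linearIndependent_monQ hK h hd (N := j + 2) (by omega))
      (Sum.elim (fun i => if i.1 = j + 1 then α else 0) (fun i => if i.1 = j then β else 0)) (by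
        rw [Fintype.sum_sum_type, Finset.sum_eq_single ⟨j + 1, by omega⟩, Finset.sum_eq_single ⟨j, by omega⟩]
        · simp only [Sum.elim_inl, Sum.elim_inr, monQ, mon, if_pos, smul_mk, ← map_add]
          exact Ideal.Quotient.eq_zero_iff_mem.2 hh
        · intro i _ hi; simp [Fin.ext_iff] at hi ⊢; intro e; exact absurd e hi
        · exact fun e => absurd (Finset.mem_univ _) e
        · intro i _ hi; simp [Fin.ext_iff] at hi ⊢; intro e; exact absurd e hi
        · exact fun e => absurd (Finset.mem_univ _) e)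
    exact ⟨by simpa using hli (.inl ⟨j + 1, by omega⟩), by simpa using hli (.inr ⟨j, by omega⟩)⟩
  rw [mem_nonZeroDivisors_iff_right]
  intro c hc
  have hmem : ∀ j, c ∈ m ^ j := by
    intro j
    induction j with
    | zero => simp
    | succ j ih =>
      rcases j with _ | j
      · obtain ⟨α, hα⟩ := hK c
        have h2 : ck α * u ^ (0 + 1) + ck α * v ^ (0 + 1) ∈ m ^ (0 + 2) := by
          have e : ck α * u ^ (0 + 1) + ck α * v ^ (0 + 1) = c * (u + v) - (c - ck α) * (u + v) := by ring
          rw [e, hc, zero_sub, show (0 + 2 : ℕ) = 2 from rfl, pow_two]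
          exact neg_mem (Ideal.mul_mem_mul hα (add_mem h.mem_left h.mem_right))
        rw [(top 0 α α h2).1, map_zero, sub_zero] at hα
        simpa using hα
      · obtain ⟨α, β, hw⟩ := exists_combination hK h j c ih
        have huv : ∀ i, u ^ (i + 1) * v ∈ m ^ (i + 3) := fun i => by
          rw [pow_succ u, mul_assoc, pow_add]; exact Ideal.mul_mem_mul (Ideal.pow_mem_pow h.mem_left i) h.2
        have hvu : ∀ i, v ^ (i + 1) * u ∈ m ^ (i + 3) := fun i => by
          rw [pow_succ v, mul_assoc, mul_comm v u, pow_add]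
          exact Ideal.mul_mem_mul (Ideal.pow_mem_pow h.mem_right i) h.2
        have h2 : ck α * u ^ (j + 1 + 1) + ck β * v ^ (j + 1 + 1) ∈ m ^ (j + 1 + 2) := by
          have e : ck α * u ^ (j + 1 + 1) + ck β * v ^ (j + 1 + 1) = c * (u + v) -
              (c - (ck α * u ^ (j + 1) + ck β * v ^ (j + 1))) * (u + v) -
              (ck α * (u ^ (j + 1) * v) + ck β * (v ^ (j + 1) * u)) := by ring
          rw [e, hc, zero_sub]
          refine sub_mem (neg_mem ?_) (add_mem (Ideal.mul_mem_left _ _ ?_) (Ideal.mul_mem_left _ _ ?_))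
          · rw [show j + 1 + 2 = j + 2 + 1 by omega, pow_succ]
            exact Ideal.mul_mem_mul hw (add_mem h.mem_left h.mem_right)
          · exact huv j
          · exact hvu j
        obtain ⟨rfl, rfl⟩ := top (j + 1) α β h2
        simpa using hw
  have hbot : c ∈ ⨅ n : ℕ, m ^ n := Ideal.mem_iInf.2 hmem
  rwa [Ideal.iInf_pow_eq_bot_of_isLocalRing _ (maximalIdeal.isMaximal _).ne_top, Ideal.mem_bot] at hbot

/-- Ordinary double points are the points with a non-zero-divisor and maximal Jacobian ideal. -/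
theorem isOrdDoublePt_iff_fitt [IsAlgClosed K] (hK : Rational K O) :
    Curv2.IsOrdDoublePt K O ↔ Fitt.ideal O Ω[O⁄K] 1 = m ∧ ∃ t ∈ m, t ∈ nonZeroDivisors O := by
  rw [isOrdDoublePt_iff K O hK]
  constructor
  · rintro ⟨hd, u, v, h⟩
    exact ⟨fitt_eq_maximal hK h hd, u + v, add_mem h.mem_left h.mem_right, sum_gens_mem_nonZeroDivisors hK h hd⟩
  · rintro ⟨hJ, t, ht, htd⟩
    exact gens_of_fitt hK hJ ht htd

end Groth.Agent.NodePtLib
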