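import Groth.Agent.NodePtLib.EtaleLocal.Chart
import Groth.Agent.NodePtLib.Quad
import Groth.Agent.FlatLocus.FibreStalk
import Groth.Agent.GeomRedPtLib.Basic
import Mathlib.RingTheory.AdicCompletion.AsTensorProduct

/-!
# Completions at nodes of families
-/

set_option autoImplicit false
set_option backward.isDefEq.respectTransparency false
set_option linter.unusedSectionVars false
set_option linter.style.haveILetI false

universe u

open IsLocalRing

noncomputable section

namespace Groth.Agent.NodePtLib.FamCompl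

section Morse

variable {R B : Type u} [CommRing R] [IsLocalRing R] [IsNoetherianRing R] [IsAdicComplete (maximalIdeal R) R]
  [CommRing B] [IsLocalRing B] [IsNoetherianRing B] [IsAdicComplete (maximalIdeal B) B] [Algebra R B]

/-- A rational algebra: every element is a constant modulo the maximal ideal. -/
def Rat' (R B : Type u) [CommRing R] [CommRing B] [IsLocalRing B] [Algebra R B] : Prop :=
  ∀ x : B, ∃ r : R, x - algebraMap R B r ∈ maximalIdeal B

theorem exists_sub_mem_map_mul (hrat : Rat' R B) (J : Ideal R) {x : B} (hx : x ∈ J.map (algebraMap R B)) :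
    ∃ h ∈ J, x - algebraMap R B h ∈ J.map (algebraMap R B) * maximalIdeal B := by
  induction hx using Submodule.span_induction with
  | zero => exact ⟨0, zero_mem _, by simp⟩
  | mem x h =>
    obtain ⟨r, hr, rfl⟩ := h
    exact ⟨r, hr, by simp⟩
  | add x y hx hy ihx ihy =>
    obtain ⟨h, hh, e⟩ := ihx
    obtain ⟨h', hh', e'⟩ := ihy
    refine ⟨h + h', add_mem hh hh', ?_⟩
    rw [map_add, show x + y - (algebraMap R B h + algebraMap R B h') =
      (x - algebraMap R B h) + (y - algebraMap R B h') by ring]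
    exact add_mem e e'
  | smul c x hx ih =>
    obtain ⟨h, hh, e⟩ := ih
    obtain ⟨r, hr⟩ := hrat c
    refine ⟨r * h, Ideal.mul_mem_left _ _ hh, ?_⟩
    rw [smul_eq_mul, map_mul, show c * x - algebraMap R B r * algebraMap R B h =
      algebraMap R B r * (x - algebraMap R B h) + x * (c - algebraMap R B r) by ring]
    exact add_mem (Ideal.mul_mem_left _ _ e) (Ideal.mul_mem_mul hx hr)

theorem pow_succ_le {U V : B} (hm : maximalIdeal B = Ideal.span {U, V} ⊔ (maximalIdeal R).map (algebraMap R B)) :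
    ∀ N : ℕ, maximalIdeal B ^ (N + 1) ≤
      Ideal.span {U, V} * maximalIdeal B ^ N ⊔ (maximalIdeal R ^ (N + 1)).map (algebraMap R B)
  | 0 => by simpa using hm.le
  | N + 1 => by
    set m := maximalIdeal B with hmdef
    set I := (maximalIdeal R).map (algebraMap R B) with hI
    rw [Ideal.map_pow, pow_succ m (N + 1)]
    refine (Ideal.mul_mono_left (pow_succ_le hm N)).trans ?_
    rw [Ideal.sup_mul, Ideal.map_pow, mul_assoc, ← pow_succ]
    refine sup_le le_sup_left ?_
    conv_lhs => rw [hm]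
    rw [Ideal.mul_sup, ← pow_succ]
    refine sup_le (le_sup_of_le_left ?_) le_sup_right
    rw [mul_comm]
    refine Ideal.mul_mono_right (Ideal.pow_right_mono ?_ _)
    rw [hm]; exact le_sup_right

theorem exists_decomp (hrat : Rat' R B) {U V : B}
    (hm : maximalIdeal B = Ideal.span {U, V} ⊔ (maximalIdeal R).map (algebraMap R B)) (N : ℕ) {x : B}
    (hx : x ∈ maximalIdeal B ^ (N + 1)) :
    ∃ h ∈ maximalIdeal R ^ (N + 1), ∃ p ∈ maximalIdeal B ^ N, ∃ q ∈ maximalIdeal B ^ N,
      x - algebraMap R B h - (p * U + q * V) ∈ maximalIdeal B ^ (N + 2) := by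
  obtain ⟨y, hy, z, hz, rfl⟩ := Submodule.mem_sup.1 (pow_succ_le hm N hx)
  obtain ⟨h, hh, e⟩ := exists_sub_mem_map_mul hrat _ hz
  rw [Ideal.span_insert, Ideal.sup_mul] at hy
  obtain ⟨y₁, hy₁, y₂, hy₂, rfl⟩ := Submodule.mem_sup.1 hy
  obtain ⟨p, hp, rfl⟩ := Ideal.mem_span_singleton_mul.1 hy₁
  obtain ⟨q, hq, rfl⟩ := Ideal.mem_span_singleton_mul.1 hy₂
  refine ⟨h, hh, p, hp, q, hq, ?_⟩
  rw [show U * p + V * q + z - algebraMap R B h - (p * U + q * V) = z - algebraMap R B h by ring]
  refine (Ideal.mul_le.2 fun a ha b hb => ?_) e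
  rw [pow_succ]
  refine Ideal.mul_mem_mul ?_ hb
  rw [Ideal.map_pow] at ha
  refine Ideal.pow_right_mono ?_ _ ha
  rw [hm]; exact le_sup_right

theorem span_sup_eq_of_sub_mem {U V U' V' : B} {I : Ideal B} (hm : maximalIdeal B = Ideal.span {U, V} ⊔ I)
    (hU : U' - U ∈ maximalIdeal B ^ 2) (hV : V' - V ∈ maximalIdeal B ^ 2) :
    maximalIdeal B = Ideal.span {U', V'} ⊔ I := by
  have hUm : U ∈ maximalIdeal B := hm ▸ Ideal.mem_sup_left (Ideal.subset_span (Set.mem_insert _ _))
  have hVm : V ∈ maximalIdeal B := hm ▸ Ideal.mem_sup_left (Ideal.subset_span (Set.mem_insert_of_mem _ rfl))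
  refine le_antisymm (Submodule.le_of_le_smul_of_le_jacobson_bot (Ideal.fg_of_isNoetherianRing _)
    (maximalIdeal_le_jacobson _) ?_) (sup_le (Ideal.span_le.2 ?_) (hm ▸ le_sup_right))
  · rw [smul_eq_mul, ← pow_two]
    conv_lhs => rw [hm]
    refine sup_le (Ideal.span_le.2 ?_) (le_sup_of_le_left le_sup_right)
    rintro w (rfl | rfl)
    · rw [SetLike.mem_coe, ← sub_sub_cancel U' w]
      exact sub_mem (Ideal.mem_sup_left (Ideal.mem_sup_left (Ideal.subset_span (Set.mem_insert _ _))))
        (Ideal.mem_sup_right hU)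
    · rw [SetLike.mem_coe, ← sub_sub_cancel V' w]
      exact sub_mem (Ideal.mem_sup_left (Ideal.mem_sup_left (Ideal.subset_span (Set.mem_insert_of_mem _ rfl))))
        (Ideal.mem_sup_right hV)
  · rintro w (rfl | rfl)
    · rw [SetLike.mem_coe, ← sub_add_cancel w U]; exact add_mem (Ideal.pow_le_self two_ne_zero hU) hUm
    · rw [SetLike.mem_coe, ← sub_add_cancel w V]; exact add_mem (Ideal.pow_le_self two_ne_zero hV) hVm

theorem exists_shift {a b c : B} (hΔ : IsUnit (4 * a * c - b ^ 2)) {M : Ideal B} {p q : B} (hp : p ∈ M) (hq : q ∈ M)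
    (U V : B) : ∃ s ∈ M, ∃ t ∈ M, qv a b c s t ∈ M * M ∧
      qv a b c (U - s) (V - t) = qv a b c U V - (p * U + q * V) + qv a b c s t := by
  obtain ⟨e, he⟩ := hΔ
  let s : B := (↑e⁻¹ : B) * (2 * c * p - b * q)
  let t : B := (↑e⁻¹ : B) * (2 * a * q - b * p)
  have hs : s ∈ M := Ideal.mul_mem_left _ _ (sub_mem (Ideal.mul_mem_left _ _ hp) (Ideal.mul_mem_left _ _ hq))
  have ht : t ∈ M := Ideal.mul_mem_left _ _ (sub_mem (Ideal.mul_mem_left _ _ hq) (Ideal.mul_mem_left _ _ hp))
  refine ⟨s, hs, t, ht, ?_, ?_⟩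
  · simp only [qv]
    rw [pow_two, pow_two, mul_assoc b]
    exact add_mem (add_mem (Ideal.mul_mem_left _ _ (Ideal.mul_mem_mul hs hs))
      (Ideal.mul_mem_left _ _ (Ideal.mul_mem_mul hs ht))) (Ideal.mul_mem_left _ _ (Ideal.mul_mem_mul ht ht))
  · have h1 : 2 * a * s + b * t = p := by
      linear_combination (norm := (simp only [s, t]; ring)) p * e.inv_mul - p * (↑e⁻¹ : B) * he
    have h2 : b * s + 2 * c * t = q := by
      linear_combination (norm := (simp only [s, t]; ring)) q * e.inv_mul - q * (↑e⁻¹ : B) * he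
    simp only [qv]
    linear_combination -U * h1 - V * h2

/-- The Morse lemma in two variables relative to a complete base. -/
theorem exists_morse (hrat : Rat' R B) {a b c : R} (hΔ : IsUnit (4 * a * c - b ^ 2))
    (hloc : (maximalIdeal R).map (algebraMap R B) ≤ maximalIdeal B) {U V : B}
    (hm : maximalIdeal B = Ideal.span {U, V} ⊔ (maximalIdeal R).map (algebraMap R B))
    (hq : qv (algebraMap R B a) (algebraMap R B b) (algebraMap R B c) U V ∈
      (maximalIdeal R).map (algebraMap R B) ⊔ maximalIdeal B ^ 3) :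
    ∃ h ∈ maximalIdeal R, ∃ U' V' : B,
      maximalIdeal B = Ideal.span {U', V'} ⊔ (maximalIdeal R).map (algebraMap R B) ∧
      qv (algebraMap R B a) (algebraMap R B b) (algebraMap R B c) U' V' = algebraMap R B h := by
  classical
  set m := maximalIdeal B with hmdef
  set I := (maximalIdeal R).map (algebraMap R B) with hI
  set a' := algebraMap R B a
  set b' := algebraMap R B b
  set c' := algebraMap R B c
  have hΔ' : IsUnit (4 * a' * c' - b' ^ 2) := by simpa [a', b', c', map_ofNat] using hΔ.map (algebraMap R B)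
  let P : ℕ → B × B × R → Prop := fun n w => m = Ideal.span {w.1, w.2.1} ⊔ I ∧ w.2.2 ∈ maximalIdeal R ∧
    qv a' b' c' w.1 w.2.1 - algebraMap R B w.2.2 ∈ m ^ (n + 3)
  have h0 : ∃ w, P 0 w := by
    obtain ⟨x, hx, y, hy, hxy⟩ := Submodule.mem_sup.1 hq
    obtain ⟨h₁, hh₁, e₁⟩ := exists_sub_mem_map_mul hrat _ hx
    rw [← hI] at e₁
    have e₁' : x - algebraMap R B h₁ ∈ (Ideal.span {U} * I ⊔ Ideal.span {V} * I) ⊔ I * I := by
      refine (?_ : I * m ≤ _) e₁
      rw [hm, Ideal.mul_sup, mul_comm I (Ideal.span {U, V}), Ideal.span_insert, Ideal.sup_mul]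
    obtain ⟨g, hg, y₃, hy₃, hsum⟩ := Submodule.mem_sup.1 e₁'
    obtain ⟨g₁, hg₁, g₂, hg₂, rfl⟩ := Submodule.mem_sup.1 hg
    obtain ⟨p, hp, rfl⟩ := Ideal.mem_span_singleton_mul.1 hg₁
    obtain ⟨q, hq', rfl⟩ := Ideal.mem_span_singleton_mul.1 hg₂
    obtain ⟨s, hs, t, ht, hst, e⟩ := exists_shift hΔ' hp hq' U V
    have h2 : y₃ + qv a' b' c' s t ∈ (maximalIdeal R ^ 2).map (algebraMap R B) := by
      rw [Ideal.map_pow, pow_two, ← hI]; exact add_mem hy₃ hst
    obtain ⟨h₂, hh₂, e₂⟩ := exists_sub_mem_map_mul hrat _ h2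
    refine ⟨(U - s, V - t, h₁ + h₂), ?_, add_mem hh₁ (Ideal.pow_le_self two_ne_zero hh₂), ?_⟩
    · have hUm : U ∈ m := hm ▸ Ideal.mem_sup_left (Ideal.subset_span (Set.mem_insert _ _))
      have hVm : V ∈ m := hm ▸ Ideal.mem_sup_left (Ideal.subset_span (Set.mem_insert_of_mem _ rfl))
      refine le_antisymm ?_ (sup_le (Ideal.span_le.2 ?_) hloc)
      · conv_lhs => rw [hm]
        refine sup_le (Ideal.span_le.2 ?_) le_sup_right
        intro z hz
        rcases hz with hz | hz
        · rw [hz, SetLike.mem_coe]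
          refine Eq.subst (motive := fun z => z ∈ Ideal.span {U - s, V - t} ⊔ I) (sub_add_cancel _ s) ?_
          exact add_mem (Ideal.mem_sup_left (Ideal.subset_span (Set.mem_insert _ _))) (Ideal.mem_sup_right hs)
        · rw [Set.mem_singleton_iff.1 hz, SetLike.mem_coe]
          refine Eq.subst (motive := fun z => z ∈ Ideal.span {U - s, V - t} ⊔ I) (sub_add_cancel _ t) ?_
          exact add_mem (Ideal.mem_sup_left (Ideal.subset_span (Set.mem_insert_of_mem _ rfl))) (Ideal.mem_sup_right ht)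
      · rintro w (rfl | rfl)
        exacts [sub_mem hUm (hloc hs), sub_mem hVm (hloc ht)]
    · show qv a' b' c' (U - s) (V - t) - algebraMap R B (h₁ + h₂) ∈ m ^ (0 + 3)
      rw [e, ← hxy, map_add, show x + y - (p * U + q * V) + qv a' b' c' s t - (algebraMap R B h₁ + algebraMap R B h₂) =
        y + (y₃ + qv a' b' c' s t - algebraMap R B h₂) by linear_combination -hsum]
      refine add_mem hy ((?_ : (maximalIdeal R ^ 2).map (algebraMap R B) * m ≤ m ^ 3) e₂)
      rw [Ideal.map_pow, ← hI, pow_succ m 2]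
      exact Ideal.mul_mono_left (Ideal.pow_right_mono hloc 2)
  have step : ∀ n w, P n w → ∃ w', P (n + 1) w' ∧ w'.1 - w.1 ∈ m ^ (n + 2) ∧ w'.2.1 - w.2.1 ∈ m ^ (n + 2) ∧
      w'.2.2 - w.2.2 ∈ maximalIdeal R ^ (n + 1) := by
    rintro n ⟨X, Y, h⟩ ⟨hXY, hh, hx⟩
    simp only at hXY hh hx ⊢
    obtain ⟨h', hh', p, hp, q, hq', e⟩ := exists_decomp hrat hXY (n + 2) hx
    obtain ⟨s, hs, t, ht, hst, e'⟩ := exists_shift hΔ' hp hq' X Y
    rw [← pow_add] at hst
    refine ⟨(X - s, Y - t, h + h'), ⟨span_sup_eq_of_sub_mem hXY ?_ ?_,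
      add_mem hh (Ideal.pow_le_self (by omega) hh'), ?_⟩, ?_, ?_, ?_⟩
    · simpa using neg_mem (Ideal.pow_le_pow_right (by omega : 2 ≤ n + 2) hs)
    · simpa using neg_mem (Ideal.pow_le_pow_right (by omega : 2 ≤ n + 2) ht)
    · rw [e', map_add, show qv a' b' c' X Y - (p * X + q * Y) + qv a' b' c' s t -
          (algebraMap R B h + algebraMap R B h') =
        (qv a' b' c' X Y - algebraMap R B h - algebraMap R B h' - (p * X + q * Y)) + qv a' b' c' s t by ring]
      exact add_mem e (Ideal.pow_le_pow_right (by omega) hst)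
    · simpa using neg_mem hs
    · simpa using neg_mem ht
    · simpa using Ideal.pow_le_pow_right (by omega : n + 1 ≤ n + 2 + 1) hh'
  obtain ⟨w₀, hw₀⟩ := h0
  choose f hf using step
  let seq : (n : ℕ) → {w : B × B × R // P n w} := fun n =>
    Nat.rec (motive := fun n => {w : B × B × R // P n w}) ⟨w₀, hw₀⟩
      (fun n w => ⟨f n w.1 w.2, (hf n w.1 w.2).1⟩) n
  have hstep : ∀ n, (seq (n + 1)).1.1 - (seq n).1.1 ∈ m ^ (n + 2) ∧
      (seq (n + 1)).1.2.1 - (seq n).1.2.1 ∈ m ^ (n + 2) ∧
      (seq (n + 1)).1.2.2 - (seq n).1.2.2 ∈ maximalIdeal R ^ (n + 1) := fun n => (hf n (seq n).1 (seq n).2).2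
  obtain ⟨L₁, hL₁⟩ := NodeComplLib.exists_limit m (fun n => (seq n).1.1)
    fun n => Ideal.pow_le_pow_right (by omega) (hstep n).1
  obtain ⟨L₂, hL₂⟩ := NodeComplLib.exists_limit m (fun n => (seq n).1.2.1)
    fun n => Ideal.pow_le_pow_right (by omega) (hstep n).2.1
  obtain ⟨h, hh⟩ := NodeComplLib.exists_limit (maximalIdeal R) (fun n => (seq n).1.2.2) fun n => (hstep n).2.2
  refine ⟨h, ?_, L₁, L₂, span_sup_eq_of_sub_mem (seq 1).2.1 (hL₁ 1) (hL₂ 1),
    NodeComplLib.eq_of_forall_sub_mem m _ _ fun n => ?_⟩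
  · rw [← sub_add_cancel h (seq 0).1.2.2]
    exact add_mem (by simpa using hh 0) (seq 0).2.2.1
  have h1 : algebraMap R B h - algebraMap R B (seq n).1.2.2 ∈ m ^ (n + 1) := by
    have h2 := Ideal.mem_map_of_mem (algebraMap R B) (hh n)
    rw [map_sub, Ideal.map_pow] at h2
    exact Ideal.pow_right_mono hloc _ h2
  have h3 := Ideal.pow_le_pow_right (by omega : n + 1 ≤ n + 3) (seq n).2.2.2
  rw [show qv a' b' c' L₁ L₂ - algebraMap R B h =
      (L₁ - (seq n).1.1) * (a' * (L₁ + (seq n).1.1) + b' * L₂) +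
      (L₂ - (seq n).1.2.1) * (c' * (L₂ + (seq n).1.2.1) + b' * (seq n).1.1) +
      (qv a' b' c' (seq n).1.1 (seq n).1.2.1 - algebraMap R B (seq n).1.2.2) -
      (algebraMap R B h - algebraMap R B (seq n).1.2.2) by simp only [qv]; ring]
  exact sub_mem (add_mem (add_mem (Ideal.mul_mem_right _ _ (hL₁ n)) (Ideal.mul_mem_right _ _ (hL₂ n))) h3) h1

end Morse

section PS

variable {R B : Type u} [CommRing R] [IsLocalRing R] [IsNoetherianRing R] [IsAdicComplete (maximalIdeal R) R]
  [CommRing B] [IsLocalRing B] [IsNoetherianRing B] [IsAdicComplete (maximalIdeal B) B] [Algebra R B]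

theorem maximalIdeal_ps : maximalIdeal (MvPowerSeries (Fin 2) R) =
    (maximalIdeal R).map (MvPowerSeries.C (σ := Fin 2) (R := R)) ⊔ Ideal.span {MvPowerSeries.X 0, MvPowerSeries.X 1} := by
  refine le_antisymm (fun f hf => ?_) (sup_le (Ideal.map_le_iff_le_comap.mpr fun a ha => ?_) (Ideal.span_le.mpr ?_))
  · have hc : MvPowerSeries.constantCoeff f ∈ maximalIdeal R := by
      rw [mem_maximalIdeal, mem_nonunits_iff] at hf ⊢
      exact fun h => hf (MvPowerSeries.isUnit_iff_constantCoeff.mpr h)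
    rw [← sub_add_cancel f (MvPowerSeries.C (MvPowerSeries.constantCoeff f))]
    refine add_mem (Ideal.mem_sup_right ?_) (Ideal.mem_sup_left (Ideal.mem_map_of_mem _ hc))
    have h : f - MvPowerSeries.C (MvPowerSeries.constantCoeff f) ∈
        Ideal.span (Set.range (MvPowerSeries.X : Fin 2 → MvPowerSeries (Fin 2) R)) := by
      rw [← WildQuotLib.ker_constantCoeff_eq R 2]
      simp [RingHom.mem_ker]
    rwa [show Set.range (MvPowerSeries.X : Fin 2 → MvPowerSeries (Fin 2) R) = {MvPowerSeries.X 0, MvPowerSeries.X 1}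
      from Set.ext fun z => by simp [Fin.exists_fin_two, eq_comm]] at h
  · rw [Ideal.mem_comap, mem_maximalIdeal, mem_nonunits_iff]
    exact fun h => (mem_maximalIdeal _).1 ha (by simpa using MvPowerSeries.isUnit_iff_constantCoeff.mp h)
  · rintro _ (rfl | rfl) <;>
      · rw [SetLike.mem_coe, mem_maximalIdeal, mem_nonunits_iff]
        exact fun h => not_isUnit_zero (M₀ := R) (by simpa using MvPowerSeries.isUnit_iff_constantCoeff.mp h)

theorem surjective_ps (hrat : Rat' R B) (hloc : (maximalIdeal R).map (algebraMap R B) ≤ maximalIdeal B)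
    (Φ : MvPowerSeries (Fin 2) R →ₐ[R] B)
    (hm : maximalIdeal B = Ideal.span {Φ (MvPowerSeries.X 0), Φ (MvPowerSeries.X 1)} ⊔ (maximalIdeal R).map (algebraMap R B)) :
    Function.Surjective Φ := by
  let P := MvPowerSeries (Fin 2) R
  obtain ⟨-, -, -, hPc⟩ := ArtFunLib.exists_psCRing (k := ResidueField R) (Λ := R)
    IsLocalRing.residue_surjective 2
  haveI : IsAdicComplete (maximalIdeal P) P := hPc
  have hmap : (maximalIdeal P).map Φ.toRingHom = maximalIdeal B := by
    rw [maximalIdeal_ps, Ideal.map_sup, Ideal.map_map, Ideal.map_span, Set.image_pair, hm, sup_comm]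
    congr 2
    exact RingHom.ext fun r => Φ.commutes r
  haveI : IsHausdorff ((maximalIdeal P).map Φ.toRingHom) B := by rw [hmap]; infer_instance
  refine surjective_of_mk_map_comp_surjective (I := maximalIdeal P) (f := Φ.toRingHom) fun z => ?_
  obtain ⟨y, rfl⟩ := Ideal.Quotient.mk_surjective z
  obtain ⟨r, hr⟩ := hrat y
  refine ⟨MvPowerSeries.C r, Ideal.Quotient.eq.mpr ?_⟩
  rw [hmap, show Φ.toRingHom (MvPowerSeries.C r) = algebraMap R B r from Φ.commutes r]
  simpa using neg_mem hr

end PS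

section Field

variable {k F : Type u} [Field k] [CommRing F] [IsLocalRing F] [IsNoetherianRing F] [Algebra k F]

local notation "Fh" => AdicCompletion (maximalIdeal F) F

theorem quad_of_completion_field {a b c : k} (hΔ : 4 * a * c - b ^ 2 ≠ 0) (e : Fh ≃+* QModel a b c)
    (he : ∀ r, e (algebraMap F Fh (algebraMap k F r)) = algebraMap k (QModel a b c) r) :
    (∀ z : F, ∃ r : k, z - algebraMap k F r ∈ maximalIdeal F) ∧ _root_.IsReduced Fh ∧
      (∀ w, maximalIdeal Fh ≠ Ideal.span {w}) ∧ ∃ x y : F, maximalIdeal F = Ideal.span {x, y} ∧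
        qv (algebraMap k F a) (algebraMap k F b) (algebraMap k F c) x y ∈ maximalIdeal F ^ 3 := by
  haveI := NodeComplLib.isNoetherianRing_completion F
  haveI := isReduced_qModel a b c hΔ
  let Q := QModel a b c
  have hE : (maximalIdeal Q).map e.symm.toRingHom = maximalIdeal Fh := IsLocalRing.map_ringEquiv_maximalIdeal e.symm
  have hes : ∀ r, e.symm (algebraMap k Q r) = algebraMap F Fh (algebraMap k F r) := fun r => by
    rw [← he, e.symm_apply_apply]
  have hmem : ∀ z, algebraMap F Fh z ∈ maximalIdeal Fh → z ∈ maximalIdeal F := fun z hz => by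
    simpa using (mem_pow_iff F 1 z).1 (by simpa using hz)
  refine ⟨fun z => ?_, isReduced_of_injective e.toRingHom e.injective, fun w h => ?_, ?_⟩
  · obtain ⟨r, hr⟩ := rational_qModel a b c (e (algebraMap F Fh z))
    refine ⟨r, hmem _ ?_⟩
    have h := Ideal.mem_map_of_mem e.symm.toRingHom hr
    rw [hE] at h
    rw [map_sub, show e.symm.toRingHom (e (algebraMap F Fh z)) = algebraMap F Fh z from e.symm_apply_apply _,
      show e.symm.toRingHom (algebraMap k _ r) = algebraMap F Fh (algebraMap k F r) from hes r, ← map_sub] at h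
    exact h
  · exact qModel_ne_principal a b c (e w) ((IsLocalRing.map_ringEquiv_maximalIdeal e).symm.trans
      ((congrArg (Ideal.map _) h).trans ((Ideal.map_span _ _).trans (congrArg Ideal.span Set.image_singleton))))
  let U := e.symm (qX a b c 0)
  let V := e.symm (qX a b c 1)
  have hUV : maximalIdeal Fh = Ideal.span {U, V} := by
    rw [← hE, maximalIdeal_qModel, Ideal.map_span, Set.image_insert_eq, Set.image_singleton]
    rfl
  obtain ⟨x, hx⟩ := exists_sub_mem F 2 U
  obtain ⟨y, hy⟩ := exists_sub_mem F 2 V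
  have hUm : U ∈ maximalIdeal Fh := hUV.ge (Ideal.subset_span (Set.mem_insert _ _))
  have hVm : V ∈ maximalIdeal Fh := hUV.ge (Ideal.subset_span (Set.mem_insert_of_mem _ rfl))
  have hxm' : algebraMap F Fh x ∈ maximalIdeal Fh := by
    rw [show algebraMap F Fh x = U - (U - algebraMap F Fh x) by ring]
    exact sub_mem hUm (Ideal.pow_le_self two_ne_zero hx)
  have hym' : algebraMap F Fh y ∈ maximalIdeal Fh := by
    rw [show algebraMap F Fh y = V - (V - algebraMap F Fh y) by ring]
    exact sub_mem hVm (Ideal.pow_le_self two_ne_zero hy)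
  refine ⟨x, y, ?_, ?_⟩
  · refine (span_eq_of_le_sup (Ideal.span_le.2 ?_) fun z hz => ?_)
    · rintro z (rfl | rfl)
      exacts [hmem _ hxm', hmem _ hym']
    have hz' : algebraMap F Fh z ∈ Ideal.span {algebraMap F Fh x, algebraMap F Fh y} := by
      rw [← span_eq_of_sub_mem hUV (neg_sub U (algebraMap F Fh x) ▸ neg_mem hx)
        (neg_sub V (algebraMap F Fh y) ▸ neg_mem hy)]
      rw [AdicCompletion.maximalIdeal_eq_map]; exact Ideal.mem_map_of_mem _ hz
    obtain ⟨p, q, hpq⟩ := Ideal.mem_span_pair.1 hz'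
    obtain ⟨p', hp⟩ := exists_sub_mem F 1 p
    obtain ⟨q', hq⟩ := exists_sub_mem F 1 q
    rw [pow_one] at hp hq
    refine Submodule.mem_sup.2 ⟨p' * x + q' * y, Ideal.mem_span_pair.2 ⟨p', q', rfl⟩, z - (p' * x + q' * y), ?_,
      add_sub_cancel _ _⟩
    rw [← pow_two, ← mem_pow_iff, map_sub, map_add, map_mul, map_mul, ← hpq,
      show ∀ u v : Fh, p * u + q * v - (algebraMap F Fh p' * u + algebraMap F Fh q' * v) =
        (p - algebraMap F Fh p') * u + (q - algebraMap F Fh q') * v from fun u v => by ring, pow_two]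
    exact add_mem (Ideal.mul_mem_mul hp hxm') (Ideal.mul_mem_mul hq hym')
  · rw [← mem_pow_iff, map_qv, ← hes, ← hes, ← hes]
    have h1 := qv_sub_mem (I := maximalIdeal Fh) (a := e.symm (algebraMap k Q a)) (b := e.symm (algebraMap k Q b))
      (c := e.symm (algebraMap k Q c)) (a' := e.symm (algebraMap k Q a)) (b' := e.symm (algebraMap k Q b))
      (c' := e.symm (algebraMap k Q c)) (by simp) (by simp) (by simp) hx hy hUm hVm hxm' hym'
    have h2 : qv (e.symm (algebraMap k Q a)) (e.symm (algebraMap k Q b)) (e.symm (algebraMap k Q c)) U V = 0 := by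
      have h3 := congrArg e.symm.toRingHom (qv_qX a b c)
      rw [map_qv, map_zero] at h3
      exact h3
    rw [h2, zero_sub, neg_mem_iff] at h1
    exact h1

end Field

section Main

variable {A C F k : Type u} [CommRing A] [IsLocalRing A] [IsNoetherianRing A]
  [CommRing C] [IsLocalRing C] [IsNoetherianRing C] [CommRing F] [IsLocalRing F] [Field k]
  [Algebra A C] [IsLocalHom (algebraMap A C)] [Module.Flat A C] [Algebra k F]

local notation "Ah" => AdicCompletion (maximalIdeal A) A
local notation "Ch" => AdicCompletion (maximalIdeal C) C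
local notation "Fh" => AdicCompletion (maximalIdeal F) F

/-- The completion at a node of a flat family. -/
theorem exists_completion_quad (φ : C →+* F) (hφ : Function.Surjective φ)
    (hker : RingHom.ker φ = (maximalIdeal A).map (algebraMap A C))
    (ρ : A →+* k) (hρ : Function.Surjective ρ) (hρm : RingHom.ker ρ = maximalIdeal A)
    (hcomp : ∀ r, φ (algebraMap A C r) = algebraMap k F (ρ r))
    {a b c : k} (hΔ : 4 * a * c - b ^ 2 ≠ 0) (e : Fh ≃+* QModel a b c)
    (he : ∀ r, e (algebraMap F Fh (algebraMap k F r)) = algebraMap k (QModel a b c) r)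
    {a' b' c' : A} (ha : ρ a' = a) (hb : ρ b' = b) (hc : ρ c' = c) :
    IsUnit (4 * algebraMap A Ah a' * algebraMap A Ah c' - algebraMap A Ah b' ^ 2) ∧
    ∃ h ∈ maximalIdeal Ah, ∃ E : Ch ≃+*
        (MvPowerSeries (Fin 2) Ah ⧸ Ideal.span
          {(MvPowerSeries.C (algebraMap A Ah a') * MvPowerSeries.X 0 ^ 2 +
            MvPowerSeries.C (algebraMap A Ah b') * MvPowerSeries.X 0 * MvPowerSeries.X 1 +
            MvPowerSeries.C (algebraMap A Ah c') * MvPowerSeries.X 1 ^ 2 - MvPowerSeries.C h :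
              MvPowerSeries (Fin 2) Ah)}),
      ∀ r : A, E (algebraMap C Ch (algebraMap A C r)) =
        Ideal.Quotient.mk _ (MvPowerSeries.C (algebraMap A Ah r)) := by
  haveI : IsNoetherianRing F := isNoetherianRing_of_surjective C F φ hφ
  haveI := NodeComplLib.isNoetherianRing_completion A
  haveI := NodeComplLib.isNoetherianRing_completion C
  haveI := NodeComplLib.isNoetherianRing_completion F
  obtain ⟨hratF, hredF, hnpF, x, y, hxy, hqF⟩ := quad_of_completion_field hΔ e he
  haveI := hredF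
  haveI : IsLocalHom φ := IsLocalHom.of_surjective φ hφ
  have hΔA : IsUnit (4 * a' * c' - b' ^ 2) := by
    rw [← notMem_maximalIdeal, ← hρm, RingHom.mem_ker]
    simpa [ha, hb, hc, map_ofNat] using hΔ
  have hΔR : IsUnit (4 * algebraMap A Ah a' * algebraMap A Ah c' - algebraMap A Ah b' ^ 2) := by
    simpa [map_ofNat] using hΔA.map (algebraMap A Ah)
  refine ⟨hΔR, ?_⟩
  have hmA : maximalIdeal Ah = (maximalIdeal A).map (algebraMap A Ah) := AdicCompletion.maximalIdeal_eq_map
  have hloc0 : (maximalIdeal A).map (algebraMap A Ch) ≤ maximalIdeal Ch :=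
    NodeComplLib.map_maximalIdeal_le_compl A C
  obtain ⟨gA, hgA⟩ := AdicRingLib.exists_algHom_completion (R := A) (maximalIdeal A) (maximalIdeal Ch)
    (Algebra.ofId A Ch) hloc0
  letI : Algebra Ah Ch := gA.toRingHom.toAlgebra
  haveI : IsScalarTower A Ah Ch := .of_algebraMap_eq fun r => (gA.commutes r).symm
  have hmap : (maximalIdeal Ah).map (algebraMap Ah Ch) = (maximalIdeal A).map (algebraMap A Ch) := by
    rw [hmA, Ideal.map_map, ← IsScalarTower.algebraMap_eq]
  have hloc : (maximalIdeal Ah).map (algebraMap Ah Ch) ≤ maximalIdeal Ch := hmap ▸ hloc0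
  have hmC' : ∀ z, φ z ∈ maximalIdeal F → z ∈ maximalIdeal C := fun z hz => by
    by_contra hcon
    exact (mem_maximalIdeal _).1 hz ((notMem_maximalIdeal.1 hcon).map φ)
  have hmF : maximalIdeal F = (maximalIdeal C).map φ := by
    refine le_antisymm (fun z hz => ?_) (Ideal.map_le_iff_le_comap.2 fun z hz => map_nonunit φ z hz)
    obtain ⟨z, rfl⟩ := hφ z
    exact Ideal.mem_map_of_mem φ (hmC' z hz)
  obtain ⟨u, rfl⟩ := hφ x
  obtain ⟨v, rfl⟩ := hφ y
  have hmC : maximalIdeal C = Ideal.span {u, v} ⊔ (maximalIdeal A).map (algebraMap A C) := by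
    rw [← hker, RingHom.ker_eq_comap_bot, ← Ideal.comap_map_of_surjective φ hφ, Ideal.map_span, Set.image_pair, ← hxy]
    refine le_antisymm (fun z hz => map_nonunit φ z hz) fun z hz => hmC' z hz
  have hqC : qv (algebraMap A C a') (algebraMap A C b') (algebraMap A C c') u v ∈
      maximalIdeal C ^ 3 ⊔ (maximalIdeal A).map (algebraMap A C) := by
    rw [← hker, RingHom.ker_eq_comap_bot, ← Ideal.comap_map_of_surjective φ hφ, Ideal.mem_comap, Ideal.map_pow, ← hmF,
      map_qv, hcomp, hcomp, hcomp, ha, hb, hc]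
    exact hqF
  let ι := algebraMap C Ch
  have hιA : ∀ r, ι (algebraMap A C r) = algebraMap Ah Ch (algebraMap A Ah r) := fun r => by
    rw [← IsScalarTower.algebraMap_apply, ← IsScalarTower.algebraMap_apply]
  have hIC : (maximalIdeal A).map (algebraMap A Ch) = ((maximalIdeal A).map (algebraMap A C)).map ι := by
    rw [Ideal.map_map, ← IsScalarTower.algebraMap_eq]
  have hm0 : maximalIdeal Ch = Ideal.span {ι u, ι v} ⊔ (maximalIdeal Ah).map (algebraMap Ah Ch) := by
    rw [hmap, hIC, AdicCompletion.maximalIdeal_eq_map]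
    refine (congrArg (Ideal.map ι) hmC).trans ?_
    rw [Ideal.map_sup, Ideal.map_span, Set.image_pair]
  have hq0 : qv (algebraMap Ah Ch (algebraMap A Ah a')) (algebraMap Ah Ch (algebraMap A Ah b'))
      (algebraMap Ah Ch (algebraMap A Ah c')) (ι u) (ι v) ∈
      (maximalIdeal Ah).map (algebraMap Ah Ch) ⊔ maximalIdeal Ch ^ 3 := by
    rw [hmap, hIC, AdicCompletion.maximalIdeal_eq_map, ← Ideal.map_pow, ← Ideal.map_sup, sup_comm, ← hιA, ← hιA,
      ← hιA, ← map_qv]
    exact Ideal.mem_map_of_mem _ hqC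
  have hrat : Rat' Ah Ch := fun z => by
    obtain ⟨z₀, hz₀⟩ := exists_sub_mem C 1 z
    rw [pow_one] at hz₀
    obtain ⟨r, hr⟩ := hratF (φ z₀)
    obtain ⟨r, rfl⟩ := hρ r
    refine ⟨algebraMap A Ah r, ?_⟩
    rw [← hcomp, ← map_sub] at hr
    rw [← hιA, show z - ι (algebraMap A C r) = (z - ι z₀) + ι (z₀ - algebraMap A C r) by rw [map_sub]; ring]
    refine add_mem hz₀ ?_
    rw [AdicCompletion.maximalIdeal_eq_map]
    exact Ideal.mem_map_of_mem _ (hmC' _ hr)
  obtain ⟨h, hh, U, V, hm, hUV⟩ := exists_morse hrat hΔR hloc hm0 hq0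
  refine ⟨h, hh, ?_⟩
  obtain ⟨Φ, hΦ⟩ := ArtFunLib.ps_exists_lift (Λ := Ah) (maximalIdeal Ch) ![U, V] (by
    rw [Fin.forall_fin_two]
    exact ⟨hm ▸ Ideal.mem_sup_left (Ideal.subset_span (Set.mem_insert _ _)),
      hm ▸ Ideal.mem_sup_left (Ideal.subset_span (Set.mem_insert_of_mem _ rfl))⟩)
  have hΦ0 : Φ (MvPowerSeries.X 0) = U := hΦ 0
  have hΦ1 : Φ (MvPowerSeries.X 1) = V := hΦ 1
  have hΦs : Function.Surjective Φ := surjective_ps hrat hloc Φ (by rw [hΦ0, hΦ1]; exact hm)
  let P₀ := MvPowerSeries (Fin 2) Ah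
  let g₀ : P₀ := MvPowerSeries.C (algebraMap A Ah a') * MvPowerSeries.X 0 ^ 2 +
    MvPowerSeries.C (algebraMap A Ah b') * MvPowerSeries.X 0 * MvPowerSeries.X 1 +
    MvPowerSeries.C (algebraMap A Ah c') * MvPowerSeries.X 1 ^ 2 - MvPowerSeries.C h
  let J : Ideal P₀ := Ideal.span {g₀}
  have hΦC : ∀ r, Φ (MvPowerSeries.C r) = algebraMap Ah Ch r := fun r => Φ.commutes r
  have hJ : ∀ w ∈ J, Φ w = 0 := fun w hw => by
    obtain ⟨w', rfl⟩ := Ideal.mem_span_singleton'.1 hw
    rw [map_mul]
    simp only [g₀, map_sub, map_add, map_mul, map_pow, hΦC, hΦ0, hΦ1]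
    rw [← sub_self (algebraMap Ah Ch h)] at *
    conv_lhs => rw [← hUV]
    simp [qv]
  let P := P₀ ⧸ J
  let π : P →ₐ[A] Ch := (Ideal.Quotient.liftₐ J Φ hJ).restrictScalars A
  have hπ : Function.Surjective π := fun w => by
    obtain ⟨w', hw'⟩ := hΦs w
    exact ⟨Ideal.Quotient.mk J w', hw'⟩
  letI : Algebra A F := (φ.comp (algebraMap A C)).toAlgebra
  let g : C →ₐ[A] Fh :=
    { (algebraMap F Fh).comp φ with
      commutes' := fun r => (IsScalarTower.algebraMap_apply A F Fh r).symm }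
  obtain ⟨G, hG⟩ := AdicRingLib.exists_algHom_completion (R := A) (maximalIdeal C) (maximalIdeal Fh) g (by
    rw [Ideal.map_le_iff_le_comap]
    intro z hz
    rw [Ideal.mem_comap, AdicCompletion.maximalIdeal_eq_map]
    exact Ideal.mem_map_of_mem _ (map_nonunit φ z hz))
  have hGs : Function.Surjective G := by
    have hmapG : (maximalIdeal Ch).map G.toRingHom = maximalIdeal Fh := by
      rw [AdicCompletion.maximalIdeal_eq_map, AdicCompletion.maximalIdeal_eq_map, Ideal.map_map]
      refine Eq.trans ?_ (congrArg (Ideal.map (algebraMap F Fh)) hmF).symm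
      rw [Ideal.map_map]
      exact congrArg (fun f => Ideal.map f (maximalIdeal C)) (RingHom.ext fun z => hG z)
    haveI : IsHausdorff ((maximalIdeal Ch).map G.toRingHom) Fh := by rw [hmapG]; infer_instance
    refine surjective_of_mk_map_comp_surjective (I := maximalIdeal Ch) (f := G.toRingHom) fun z => ?_
    obtain ⟨w, rfl⟩ := Ideal.Quotient.mk_surjective z
    obtain ⟨w₀, hw₀⟩ := exists_sub_mem F 1 w
    obtain ⟨w₁, rfl⟩ := hφ w₀
    refine ⟨ι w₁, Ideal.Quotient.eq.mpr ?_⟩
    rw [hmapG]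
    show G (ι w₁) - w ∈ _
    rw [hG, show g w₁ = algebraMap F Fh (φ w₁) from rfl]
    simpa using neg_mem hw₀
  let π₁ : P →ₐ[A] Fh := G.comp π
  let mAP : Ideal P := (maximalIdeal A).map (algebraMap A P)
  have hmAP : ∀ w ∈ mAP, π₁ w = 0 := by
    intro w hw
    refine RingHom.mem_ker.1 ((Ideal.map_le_iff_le_comap.2 fun r hr => ?_ : mAP ≤ RingHom.ker π₁) hw)
    rw [Ideal.mem_comap, RingHom.mem_ker, AlgHom.commutes, IsScalarTower.algebraMap_apply A F Fh,
      show algebraMap A F r = φ (algebraMap A C r) from rfl,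
      RingHom.mem_ker.1 (hker.ge (Ideal.mem_map_of_mem _ hr)), map_zero]
  let C₀ := P ⧸ mAP
  let π₀ : C₀ →+* Fh := Ideal.Quotient.lift mAP π₁.toRingHom hmAP
  haveI : Nontrivial C₀ := π₀.domain_nontrivial
  haveI : Nontrivial P := π₁.toRingHom.domain_nontrivial
  haveI : IsLocalRing P := .of_surjective' (Ideal.Quotient.mk J) Ideal.Quotient.mk_surjective
  haveI : IsLocalRing C₀ := .of_surjective' (Ideal.Quotient.mk mAP) Ideal.Quotient.mk_surjective
  let q₀ : P₀ →+* C₀ := (Ideal.Quotient.mk mAP).comp (Ideal.Quotient.mk J)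
  have hq₀s : Function.Surjective q₀ := Ideal.Quotient.mk_surjective.comp Ideal.Quotient.mk_surjective
  haveI : IsLocalHom q₀ := IsLocalHom.of_surjective (R := P₀) (S := C₀) q₀ hq₀s
  have hq₀C : ∀ r ∈ maximalIdeal Ah, q₀ (MvPowerSeries.C r) = 0 := fun r hr => by
    rw [hmA] at hr
    refine RingHom.mem_ker.1 ((Ideal.map_le_iff_le_comap.2 fun r hr => ?_ :
      (maximalIdeal A).map (algebraMap A Ah) ≤ RingHom.ker (q₀.comp MvPowerSeries.C)) hr)
    have h := Ideal.mem_map_of_mem (algebraMap A P) hr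
    rw [IsScalarTower.algebraMap_apply A P₀ P, MvPowerSeries.algebraMap_apply] at h
    exact Ideal.Quotient.eq_zero_iff_mem.2 h
  have hmC₀ : maximalIdeal C₀ = Ideal.span {q₀ (MvPowerSeries.X 0), q₀ (MvPowerSeries.X 1)} := by
    have h1 : maximalIdeal C₀ = (maximalIdeal P₀).map q₀ := by
      refine le_antisymm (fun w hw => ?_) (Ideal.map_le_iff_le_comap.2 fun w hw =>
        Ideal.mem_comap.2 ((mem_maximalIdeal _).2 fun hu => (mem_maximalIdeal _).1 hw (isUnit_of_map_unit q₀ w hu)))
      obtain ⟨w, rfl⟩ := hq₀s w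
      refine Ideal.mem_map_of_mem _ ?_
      by_contra hcon
      exact (mem_maximalIdeal _).1 hw ((notMem_maximalIdeal.1 hcon).map q₀)
    rw [h1, maximalIdeal_ps, Ideal.map_sup, Ideal.map_span, Set.image_pair, sup_eq_right, Ideal.map_map,
      Ideal.map_le_iff_le_comap]
    intro r hr
    show q₀ (MvPowerSeries.C r) ∈ (Ideal.span {q₀ (MvPowerSeries.X 0), q₀ (MvPowerSeries.X 1)} : Ideal C₀)
    rw [hq₀C r hr]
    exact zero_mem _
  have hπ₁s : Function.Surjective π₁.toRingHom := fun w => by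
    obtain ⟨w', rfl⟩ := hGs w
    obtain ⟨w'', rfl⟩ := hπ w'
    exact ⟨w'', rfl⟩
  have hinj : Function.Injective π₀ := by
    refine EtaleLocal.injective_of_quad π₀
      (Ideal.Quotient.lift_surjective_of_surjective mAP hmAP hπ₁s)
      (a := q₀ (MvPowerSeries.C (algebraMap A Ah a'))) (b := q₀ (MvPowerSeries.C (algebraMap A Ah b')))
      (c := q₀ (MvPowerSeries.C (algebraMap A Ah c'))) ?_ hmC₀ ?_ hnpF
    · simpa [map_ofNat] using hΔR.map (q₀.comp MvPowerSeries.C)
    · have h1 : q₀ g₀ = 0 := by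
        show Ideal.Quotient.mk mAP (Ideal.Quotient.mk J g₀) = 0
        rw [Ideal.Quotient.eq_zero_iff_mem.2 (Ideal.mem_span_singleton_self _), map_zero]
      simp only [g₀, map_sub, map_add, map_mul, map_pow, hq₀C h hh, sub_zero] at h1
      simp only [qv]
      rw [h1]
      exact zero_mem _
  have hK : RingHom.ker π ≤ mAP := fun w hw => Ideal.Quotient.eq_zero_iff_mem.1 (hinj (by
    rw [map_zero]
    show G (π w) = 0
    rw [RingHom.mem_ker.1 hw, map_zero]))
  haveI : Module.Flat A Ch := Module.Flat.trans A C Ch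
  have hK' : RingHom.ker π ≤ mAP * RingHom.ker π := fun w hw =>
    EtaleLocal.inf_map_le_of_flat π hπ (maximalIdeal A) ⟨hw, hK hw⟩
  have hjac : mAP ≤ Ideal.jacobson ⊥ := (IsLocalRing.le_maximalIdeal
    (fun h => not_subsingleton C₀ (Ideal.Quotient.subsingleton_iff.2 h))).trans
      (maximalIdeal_le_jacobson _)
  have hK0 : RingHom.ker π = ⊥ := Submodule.eq_bot_of_le_smul_of_le_jacobson_bot mAP _
    (Ideal.fg_of_isNoetherianRing _) (by rwa [smul_eq_mul]) hjac
  refine ⟨(RingEquiv.ofBijective π.toRingHom ⟨(RingHom.injective_iff_ker_eq_bot _).2 hK0, hπ⟩).symm, fun r => ?_⟩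
  rw [RingEquiv.symm_apply_eq]
  show _ = Φ (MvPowerSeries.C (algebraMap A Ah r))
  rw [hΦC]
  exact hιA r

end Main

section Scheme

open CategoryTheory CategoryTheory.Limits AlgebraicGeometry

attribute [local instance] Curv2.stalkAlgebra

variable {T S : Scheme.{u}} (f : T ⟶ S)

/-- The local ring of a fibre as a quotient, compatibly with the residue field. -/
theorem exists_stalk_to_fibre (t : T) :
    letI : (f.fiber (f t)).Over (Spec (CommRingCat.of (S.residueField (f t)))) := ⟨f.fiberToSpecResidueField (f t)⟩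
    ∃ φ : T.presheaf.stalk t →+* (f.fiber (f t)).presheaf.stalk (f.asFiber t),
      Function.Surjective φ ∧
      RingHom.ker φ = (maximalIdeal (S.presheaf.stalk (f t))).map (f.stalkMap t).hom ∧
      ∀ r, φ ((f.stalkMap t).hom r) =
        algebraMap (S.residueField (f t)) ((f.fiber (f t)).presheaf.stalk (f.asFiber t)) ((S.residue (f t)).hom r) := by
  have key : ∀ (s : S) (hs : f t = s) (z : f.fiber s), f.fiberι s z = t →
      letI : (f.fiber s).Over (Spec (CommRingCat.of (S.residueField s))) := ⟨f.fiberToSpecResidueField s⟩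
      ∃ φ : T.presheaf.stalk t →+* (f.fiber s).presheaf.stalk z, Function.Surjective φ ∧
        RingHom.ker φ = (maximalIdeal (S.presheaf.stalk (f t))).map (f.stalkMap t).hom ∧
        ∀ r : S.presheaf.stalk s, φ ((f.stalkMap t).hom
            ((S.presheaf.stalkSpecializes (specializes_of_eq hs : f t ⤳ s)).hom r)) =
          algebraMap (S.residueField s) ((f.fiber s).presheaf.stalk z) ((S.residue s).hom r) := by
    intro s hs z hz
    letI : (f.fiber s).Over (Spec (CommRingCat.of (S.residueField s))) := ⟨f.fiberToSpecResidueField s⟩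
    subst hz
    refine ⟨_, FlatLocus.fiberι_stalkMap_surjective f s z, FlatLocus.ker_fiberι_stalkMap f s z, fun r => ?_⟩
    have h : S.presheaf.stalkSpecializes (specializes_of_eq hs) ≫ f.stalkMap (f.fiberι s z) ≫
        (f.fiberι s).stalkMap z = S.residue s ≫
          CommRingCat.ofHom (algebraMap (S.residueField s) ((f.fiber s).presheaf.stalk z)) := by
      refine Spec.map_injective ?_
      rw [← cancel_mono (S.fromSpecStalk s), Spec.map_comp, Spec.map_comp, Spec.map_comp]
      simp only [Category.assoc]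
      rw [Scheme.SpecMap_stalkSpecializes_fromSpecStalk, Scheme.SpecMap_stalkMap_fromSpecStalk,
        Scheme.SpecMap_stalkMap_fromSpecStalk_assoc, show Spec.map (S.residue s) ≫ S.fromSpecStalk s =
          S.fromSpecResidueField s from rfl, f.fiber_fac s]
      exact (Category.assoc _ _ _).symm.trans (congrArg (· ≫ S.fromSpecResidueField s)
        (GeomRedPtLib.fromSpecStalk_over (k := S.residueField s) (X := f.fiber s) z))
    exact congrArg (fun g => g.hom r) h
  obtain ⟨φ, h1, h2, h3⟩ := key (f t) rfl (f.asFiber t) (f.fiberι_asFiber t)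
  exact ⟨φ, h1, h2, fun r => by simpa using h3 r⟩

/-- The completion at a node of a flat family of schemes. -/
theorem exists_completion_quad_scheme [LocallyOfFiniteType f] (t : T) [IsNoetherianRing (S.presheaf.stalk (f t))]
    (hfl : (f.stalkMap t).hom.Flat) :
    letI : (f.fiber (f t)).Over (Spec (CommRingCat.of (S.residueField (f t)))) := ⟨f.fiberToSpecResidueField (f t)⟩
    ∀ {a b c : S.residueField (f t)}, b ^ 2 - 4 * a * c ≠ 0 →
      ∀ e : Curv2.cpl ((f.fiber (f t)).presheaf.stalk (f.asFiber t)) ≃+* QModel a b c,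
      (∀ r : S.residueField (f t), e (algebraMap ((f.fiber (f t)).presheaf.stalk (f.asFiber t)) _
          (algebraMap (S.residueField (f t)) ((f.fiber (f t)).presheaf.stalk (f.asFiber t)) r)) =
        Ideal.Quotient.mk _ (MvPowerSeries.C r)) →
      ∀ a' b' c' : S.presheaf.stalk (f t), (S.residue (f t)).hom a' = a → (S.residue (f t)).hom b' = b →
        (S.residue (f t)).hom c' = c →
      IsUnit (algebraMap _ (Curv2.cpl (S.presheaf.stalk (f t))) b' ^ 2 -
          4 * algebraMap _ (Curv2.cpl (S.presheaf.stalk (f t))) a' * algebraMap _ (Curv2.cpl (S.presheaf.stalk (f t))) c') ∧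
      ∃ h ∈ maximalIdeal (Curv2.cpl (S.presheaf.stalk (f t))),
        ∃ E : Curv2.cpl (T.presheaf.stalk t) ≃+*
          (MvPowerSeries (Fin 2) (Curv2.cpl (S.presheaf.stalk (f t))) ⧸ Ideal.span
            {(MvPowerSeries.C (algebraMap _ (Curv2.cpl (S.presheaf.stalk (f t))) a') * MvPowerSeries.X 0 ^ 2 +
              MvPowerSeries.C (algebraMap _ (Curv2.cpl (S.presheaf.stalk (f t))) b') * MvPowerSeries.X 0 * MvPowerSeries.X 1 +
              MvPowerSeries.C (algebraMap _ (Curv2.cpl (S.presheaf.stalk (f t))) c') * MvPowerSeries.X 1 ^ 2 -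
              MvPowerSeries.C h : MvPowerSeries (Fin 2) (Curv2.cpl (S.presheaf.stalk (f t))))}),
          ∀ r : S.presheaf.stalk (f t),
            E (algebraMap (T.presheaf.stalk t) (Curv2.cpl (T.presheaf.stalk t)) ((f.stalkMap t).hom r)) =
              Ideal.Quotient.mk _ (MvPowerSeries.C (algebraMap (S.presheaf.stalk (f t)) (Curv2.cpl (S.presheaf.stalk (f t))) r)) := by
  letI : (f.fiber (f t)).Over (Spec (CommRingCat.of (S.residueField (f t)))) := ⟨f.fiberToSpecResidueField (f t)⟩
  intro a b c hΔ e he a' b' c' ha hb hc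
  letI : Algebra (S.presheaf.stalk (f t)) (T.presheaf.stalk t) := (f.stalkMap t).hom.toAlgebra
  haveI : IsLocalHom (algebraMap (S.presheaf.stalk (f t)) (T.presheaf.stalk t)) := f.toLRSHom.prop t
  haveI : Module.Flat (S.presheaf.stalk (f t)) (T.presheaf.stalk t) := hfl
  haveI : Algebra.EssFiniteType (S.presheaf.stalk (f t)) (T.presheaf.stalk t) := LocallyOfFiniteType.stalkMap f t
  haveI : IsNoetherianRing (T.presheaf.stalk t) :=
    Algebra.EssFiniteType.isNoetherianRing (S.presheaf.stalk (f t)) (T.presheaf.stalk t)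
  obtain ⟨φ, hφ, hker, hcomp⟩ := exists_stalk_to_fibre f t
  obtain ⟨hu, h, hh, E, hE⟩ := exists_completion_quad φ hφ hker (S.residue (f t)).hom
    Ideal.Quotient.mk_surjective (Ideal.mk_ker) hcomp (a := a) (b := b) (c := c)
    (fun h0 => hΔ (by linear_combination -h0)) e he ha hb hc
  exact ⟨by simpa [neg_sub] using hu.neg, h, hh, E, hE⟩

end Scheme

end Groth.Agent.NodePtLib.FamCompl
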