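import Groth.Agent.NodePtLib.Compl
import Groth.Agent.FittLib.Minor
import Groth.Agent.FittLib.BaseChange
import Mathlib.RingTheory.Kaehler.Basic

/-!
# The Jacobian criterion for ordinary double points
-/

set_option autoImplicit false
set_option linter.unusedSectionVars false
set_option linter.style.haveILetI false

universe u

open IsLocalRing

noncomputable section

namespace Groth.Agent.NodePtLib

variable {K : Type u} [Field K] {O : Type u} [CommRing O] [IsLocalRing O] [IsNoetherianRing O] [Algebra K O]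

local notation "m" => maximalIdeal O
local notation "ck" => algebraMap K O

theorem smul_mk (I : Ideal O) (c : K) (x : O) :
    c • Ideal.Quotient.mk I x = Ideal.Quotient.mk I (ck c * x) := by
  rw [← Algebra.smul_def]; rfl

theorem eq_zero_of_algebraMap_mem {c : K} (h : ck c ∈ m) : c = 0 := by
  by_contra hc
  exact (mem_maximalIdeal _).1 h ((Ne.isUnit hc).map ck)

theorem dNode_mem_pow (n : ℕ) : ∀ a ∈ m ^ (n + 1),
    KaehlerDifferential.D K O a ∈ (m ^ n) • (⊤ : Submodule O Ω[O⁄K]) := by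
  induction n with
  | zero => intro a _; simp
  | succ n ih =>
    intro a ha
    rw [pow_succ] at ha
    induction ha using Submodule.mul_induction_on' with
    | mem_mul_mem b hb c hc =>
      rw [Derivation.leibniz]
      refine Submodule.add_mem _ (Submodule.smul_mem_smul hb trivial) ?_
      have h := Submodule.smul_mem_smul hc (ih b hb)
      rwa [← Submodule.smul_assoc, smul_eq_mul, ← pow_succ'] at h
    | add b _ c _ hb hc => rw [map_add]; exact Submodule.add_mem _ hb hc

section Gen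

variable [Algebra.EssFiniteType K O]

/-- Differentials of generators of the maximal ideal generate. -/
theorem span_D_eq_top (hK : Rational K O) {n : ℕ} {x : Fin n → O} (hx : m = Ideal.span (Set.range x)) :
    Submodule.span O (Set.range fun i => KaehlerDifferential.D K O (x i)) = ⊤ := by
  set S := Submodule.span O (Set.range fun i => KaehlerDifferential.D K O (x i)) with hS
  refine top_le_iff.1 (Submodule.le_of_le_smul_of_le_jacobson_bot (I := m) Module.Finite.fg_top
    (IsLocalRing.maximalIdeal_le_jacobson ⊥) ?_)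
  rw [← KaehlerDifferential.span_range_derivation K O, Submodule.span_le]
  rintro _ ⟨a, rfl⟩
  obtain ⟨c, hc⟩ := hK a
  have hd : KaehlerDifferential.D K O a = KaehlerDifferential.D K O (a - ck c) := by
    rw [map_sub, Derivation.map_algebraMap, sub_zero]
  rw [SetLike.mem_coe, hd]
  rw [hx, Ideal.mem_span_range_iff_exists_fun] at hc
  obtain ⟨p, hp⟩ := hc
  rw [← hp, map_sum]
  refine Submodule.sum_mem _ fun i _ => ?_
  rw [Derivation.leibniz]
  refine Submodule.add_mem _ (Submodule.mem_sup_left (Submodule.smul_mem _ _ (Submodule.subset_span ⟨i, rfl⟩)))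
    (Submodule.mem_sup_right ?_)
  rw [KaehlerDifferential.span_range_derivation K O]
  exact Submodule.smul_mem_smul (hx.ge (Ideal.subset_span ⟨i, rfl⟩)) trivial

/-- With the maximal ideal principal the Jacobian ideal is trivial. -/
theorem fitt_eq_top_of_principal (hK : Rational K O) {t : O} (ht : m = Ideal.span {t}) :
    Fitt.ideal O Ω[O⁄K] 1 = ⊤ := by
  refine (Ideal.eq_top_iff_one _).2
    (Ideal.subset_span ⟨1, fun _ => KaehlerDifferential.D K O t, 1, ?_, fun i hi => absurd hi (by simp), by simp⟩)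
  exact span_D_eq_top hK (x := fun _ : Fin 1 => t) (by rw [ht, Set.range_const])

/-- Derivations see the relations of the differentials. -/
theorem relation_eq_zero {M : Type u} [AddCommGroup M] [Module O M] [Module K M] [IsScalarTower K O M]
    (D : Derivation K O M) {n : ℕ} {x : Fin n → O} {z : Fin n → O}
    (hz : ∑ i, z i • KaehlerDifferential.D K O (x i) = 0) : ∑ i, z i • D (x i) = 0 := by
  have h := congrArg D.liftKaehlerDifferential hz
  rw [map_sum, map_zero] at h
  simpa only [map_smul, Derivation.liftKaehlerDifferential_comp_D] using h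

end Gen

/-- A linear form on the cotangent space gives a derivation into the residue field. -/
theorem exists_derivation_residue (hK : Rational K O) (φ : (O ⧸ m ^ 2) →ₗ[K] K) (h1 : φ 1 = 0) :
    ∃ D : Derivation K O (O ⧸ m), ∀ a, D a = Ideal.Quotient.mk m (ck (φ (Ideal.Quotient.mk _ a))) := by
  let L : O →ₗ[K] (O ⧸ m) := (Algebra.linearMap K (O ⧸ m)) ∘ₗ φ ∘ₗ (Ideal.Quotient.mkₐ K (m ^ 2)).toLinearMap
  have hL : ∀ a, L a = Ideal.Quotient.mk m (ck (φ (Ideal.Quotient.mk _ a))) := fun a => rfl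
  have hLc : ∀ c, L (ck c) = 0 := fun c => by
    have : L (ck c) = c • L 1 := by rw [← map_smul, Algebra.smul_def, mul_one]
    rw [this, hL, map_one, h1, map_zero, map_zero, smul_zero]
  have hL2 : ∀ a ∈ m ^ 2, L a = 0 := fun a ha => by
    rw [hL, Ideal.Quotient.eq_zero_iff_mem.2 ha, map_zero, map_zero, map_zero]
  refine ⟨{ toLinearMap := L, map_one_eq_zero' := ?_, leibniz' := fun a b => ?_ }, hL⟩
  · have h := hLc 1; rwa [map_one] at h
  · obtain ⟨a₀, ha⟩ := hK a
    obtain ⟨b₀, hb⟩ := hK b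
    have key : ∀ (a b : O) (a₀ : K), a - ck a₀ ∈ m → a • L b = a₀ • L b := fun a b a₀ ha => by
      rw [← IsScalarTower.algebraMap_smul O a₀ (L b), ← sub_eq_zero, ← sub_smul]
      obtain ⟨y, hy⟩ := Ideal.Quotient.mk_surjective (L b)
      rw [← hy, Algebra.smul_def, Ideal.Quotient.algebraMap_eq, Ideal.Quotient.eq_zero_iff_mem.2 ha, zero_mul]
    rw [key a b a₀ ha, key b a b₀ hb]
    have e : a * b = (a - ck a₀) * (b - ck b₀) + (a₀ • b + b₀ • a - ck (a₀ * b₀)) := by
      rw [Algebra.smul_def, Algebra.smul_def, map_mul]; ring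
    rw [e, map_add, hL2 _ (by rw [pow_two]; exact Ideal.mul_mem_mul ha hb), zero_add, map_sub, map_add, map_smul,
      map_smul, hLc, sub_zero]

/-- Coordinates on `O / m ^ 2`. -/
theorem exists_coord (hK : Rational K O) {n : ℕ} {x : Fin n → O} (hx : ∀ i, x i ∈ m)
    (hind : ∀ c : Fin n → K, ∑ i, ck (c i) * x i ∈ m ^ 2 → c = 0) (j : Fin n) :
    ∃ D : Derivation K O (O ⧸ m), ∀ i, D (x i) = if i = j then 1 else 0 := by
  classical
  let v : Option (Fin n) → O ⧸ m ^ 2 := fun o => o.elim 1 fun i => Ideal.Quotient.mk _ (x i)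
  have hli : LinearIndependent K v := by
    rw [Fintype.linearIndependent_iff]
    intro c hc
    rw [Fintype.sum_option] at hc
    simp only [v, Option.elim_none, Option.elim_some, smul_mk] at hc
    rw [← map_one (Ideal.Quotient.mk (m ^ 2)), smul_mk, mul_one, ← map_sum, ← map_add,
      Ideal.Quotient.eq_zero_iff_mem] at hc
    have h0 : c none = 0 := eq_zero_of_algebraMap_mem (K := K) (by
      have h := sub_mem (Ideal.pow_le_self two_ne_zero hc) (Ideal.sum_mem m (t := Finset.univ)
        fun i _ => Ideal.mul_mem_left m (ck (c (some i))) (hx i))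
      rwa [add_sub_cancel_right] at h)
    rw [h0, map_zero, zero_add] at hc
    intro o
    rcases o with _ | i
    · exact h0
    · exact congrFun (hind _ hc) i
  let b := Module.Basis.span hli
  obtain ⟨φ, hφ⟩ := LinearMap.exists_extend (b.coord (some j))
  have hval : ∀ o, φ (v o) = if o = some j then 1 else 0 := fun o => by
    have h := LinearMap.congr_fun hφ ⟨v o, Submodule.subset_span ⟨o, rfl⟩⟩
    rw [LinearMap.comp_apply, Submodule.subtype_apply] at h
    rw [h, show (⟨v o, Submodule.subset_span ⟨o, rfl⟩⟩ : Submodule.span K (Set.range v)) = b o from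
      Subtype.ext (by simp [b]), Module.Basis.coord_apply, Module.Basis.repr_self, Finsupp.single_apply]
  obtain ⟨D, hD⟩ := exists_derivation_residue hK φ (by simpa [v] using hval none)
  refine ⟨D, fun i => ?_⟩
  have h := hval (some i)
  simp only [v, Option.elim_some, Option.some.injEq] at h
  rw [hD, h]
  split <;> simp

/-- A linear form on the jets of order two gives a derivation. -/
theorem exists_derivation_jet (hK : Rational K O) {a b : O} (hab : m = Ideal.span {a, b})
    (hind : ∀ α β : K, ck α * a + ck β * b ∈ m ^ 2 → α = 0 ∧ β = 0)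
    {I : Ideal O} (hI : m ^ 2 ≤ I) (p q : O)
    (hrel : ∀ c₀ c₁ c₂ : K, ck c₀ * (a * a) + ck c₁ * (a * b) + ck c₂ * (b * b) ∈ m ^ 3 →
      ck c₀ * (2 * a * p) + ck c₁ * (a * q + b * p) + ck c₂ * (2 * b * q) ∈ I) :
    ∃ D : Derivation K O (O ⧸ I), D a = Ideal.Quotient.mk I p ∧ D b = Ideal.Quotient.mk I q := by
  classical
  have ha : a ∈ m := hab.ge (Ideal.subset_span (Set.mem_insert a {b}))
  have hb : b ∈ m := hab.ge (Ideal.subset_span (Set.mem_insert_of_mem a rfl))
  have haa : a * a ∈ m ^ 2 := by rw [pow_two]; exact Ideal.mul_mem_mul ha ha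
  have hab' : a * b ∈ m ^ 2 := by rw [pow_two]; exact Ideal.mul_mem_mul ha hb
  have hbb : b * b ∈ m ^ 2 := by rw [pow_two]; exact Ideal.mul_mem_mul hb hb
  let src : (Fin 6 → K) → O := fun c =>
    ck (c 0) + ck (c 1) * a + ck (c 2) * b + (ck (c 3) * (a * a) + ck (c 4) * (a * b) + ck (c 5) * (b * b))
  let tgt : (Fin 6 → K) → O := fun c =>
    ck (c 1) * p + ck (c 2) * q + (ck (c 3) * (2 * a * p) + ck (c 4) * (a * q + b * p) + ck (c 5) * (2 * b * q))
  let Φ : (Fin 6 → K) →ₗ[K] O ⧸ m ^ 3 :=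
    { toFun := fun c => Ideal.Quotient.mk _ (src c)
      map_add' := fun c d => by rw [← map_add]; congr 1; simp only [src, Pi.add_apply, map_add]; ring
      map_smul' := fun r c => by
        rw [RingHom.id_apply, smul_mk]; congr 1
        simp only [src, Pi.smul_apply, smul_eq_mul, map_mul]; ring }
  let Ψ : (Fin 6 → K) →ₗ[K] O ⧸ I :=
    { toFun := fun c => Ideal.Quotient.mk _ (tgt c)
      map_add' := fun c d => by rw [← map_add]; congr 1; simp only [tgt, Pi.add_apply, map_add]; ring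
      map_smul' := fun r c => by
        rw [RingHom.id_apply, smul_mk]; congr 1
        simp only [tgt, Pi.smul_apply, smul_eq_mul, map_mul]; ring }
  have h32 : m ^ 3 ≤ m ^ 2 := Ideal.pow_le_pow_right (by omega)
  have hker : LinearMap.ker Φ ≤ LinearMap.ker Ψ := fun c hc => by
    have hc' : src c ∈ m ^ 3 := Ideal.Quotient.eq_zero_iff_mem.1 hc
    have hQ : ck (c 3) * (a * a) + ck (c 4) * (a * b) + ck (c 5) * (b * b) ∈ m ^ 2 :=
      add_mem (add_mem (Ideal.mul_mem_left _ _ haa) (Ideal.mul_mem_left _ _ hab')) (Ideal.mul_mem_left _ _ hbb)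
    have hL : ck (c 1) * a + ck (c 2) * b ∈ m := add_mem (Ideal.mul_mem_left _ _ ha) (Ideal.mul_mem_left _ _ hb)
    have h0 : c 0 = 0 := eq_zero_of_algebraMap_mem (K := K) (by
      have h := sub_mem (Ideal.pow_le_self (by norm_num) hc' : src c ∈ m)
        (add_mem hL (Ideal.pow_le_self two_ne_zero hQ))
      convert h using 1; simp only [src]; ring)
    obtain ⟨h1, h2⟩ := hind (c 1) (c 2) (by
      have h := sub_mem (h32 hc') hQ
      convert h using 1; simp only [src, h0, map_zero]; ring)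
    have h3 := hrel (c 3) (c 4) (c 5) (by
      convert hc' using 1; simp only [src, h0, h1, h2, map_zero]; ring)
    refine Ideal.Quotient.eq_zero_iff_mem.2 ?_
    simpa only [tgt, h1, h2, map_zero, zero_mul, zero_add] using h3
  have hsq : ∀ r ∈ m ^ 2, ∃ c₀ c₁ c₂ : K, r - (ck c₀ * (a * a) + ck c₁ * (a * b) + ck c₂ * (b * b)) ∈ m ^ 3 := by
    intro r hr
    rw [pow_two] at hr
    induction hr using Submodule.mul_induction_on' with
    | mem_mul_mem s hs t ht =>
      rw [hab, Ideal.mem_span_pair] at hs ht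
      obtain ⟨s₀, s₁, rfl⟩ := hs
      obtain ⟨t₀, t₁, rfl⟩ := ht
      obtain ⟨x, hx⟩ := hK (s₀ * t₀)
      obtain ⟨y, hy⟩ := hK (s₀ * t₁ + s₁ * t₀)
      obtain ⟨z, hz⟩ := hK (s₁ * t₁)
      refine ⟨x, y, z, ?_⟩
      have h := add_mem (add_mem (Ideal.mul_mem_mul hx haa) (Ideal.mul_mem_mul hy hab')) (Ideal.mul_mem_mul hz hbb)
      rw [← pow_succ'] at h
      convert h using 1; ring
    | add s _ t _ hs ht =>
      obtain ⟨x, y, z, hs⟩ := hs
      obtain ⟨x', y', z', ht⟩ := ht
      refine ⟨x + x', y + y', z + z', ?_⟩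
      convert add_mem hs ht using 1
      simp only [map_add]; ring
  have hsurj : Function.Surjective Φ := fun w => by
    obtain ⟨w, rfl⟩ := Ideal.Quotient.mk_surjective w
    obtain ⟨c0, h0⟩ := hK w
    rw [hab, Ideal.mem_span_pair] at h0
    obtain ⟨s, t, hst⟩ := h0
    obtain ⟨c1, h1⟩ := hK s
    obtain ⟨c2, h2⟩ := hK t
    obtain ⟨c3, c4, c5, h3⟩ := hsq ((s - ck c1) * a + (t - ck c2) * b) (by
      rw [pow_two]; exact add_mem (Ideal.mul_mem_mul h1 ha) (Ideal.mul_mem_mul h2 hb))
    refine ⟨![c0, c1, c2, c3, c4, c5], ?_⟩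
    show Ideal.Quotient.mk _ (src _) = _
    rw [Ideal.Quotient.mk_eq_mk_iff_sub_mem]
    convert neg_mem h3 using 1
    simp [src]
    linear_combination hst
  obtain ⟨Λ, hΛ⟩ := LinearMap.exists_extend (p := LinearMap.range Φ)
    ((LinearMap.ker Φ).liftQ Ψ hker ∘ₗ Φ.quotKerEquivRange.symm.toLinearMap)
  have hΛΦ : ∀ c, Λ (Φ c) = Ψ c := fun c => by
    have h := LinearMap.congr_fun hΛ ⟨Φ c, LinearMap.mem_range_self Φ c⟩
    rw [LinearMap.comp_apply, Submodule.subtype_apply] at h
    rw [h, LinearMap.comp_apply, LinearEquiv.coe_coe, LinearMap.quotKerEquivRange_symm_apply_image,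
      Submodule.mkQ_apply, Submodule.liftQ_apply]
  let L : O →ₗ[K] O ⧸ I := Λ ∘ₗ (Ideal.Quotient.mkₐ K (m ^ 3)).toLinearMap
  have hLval : ∀ c x, x - src c ∈ m ^ 3 → L x = Ideal.Quotient.mk I (tgt c) := fun c x hx => by
    show Λ (Ideal.Quotient.mk _ x) = _
    rw [(Ideal.Quotient.mk_eq_mk_iff_sub_mem x (src c)).2 hx]
    exact hΛΦ c
  have hnorm : ∀ x, ∃ c, x - src c ∈ m ^ 3 := fun x => by
    obtain ⟨c, hc⟩ := hsurj (Ideal.Quotient.mk _ x)
    exact ⟨c, (Ideal.Quotient.mk_eq_mk_iff_sub_mem _ _).1 hc.symm⟩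
  refine ⟨{ toLinearMap := L, map_one_eq_zero' := ?_, leibniz' := fun x y => ?_ }, ?_, ?_⟩
  · rw [hLval ![1, 0, 0, 0, 0, 0] 1 (by simp [src])]
    simp [tgt]
  · obtain ⟨c, hc⟩ := hnorm x
    obtain ⟨d, hd⟩ := hnorm y
    let e : Fin 6 → K := ![c 0 * d 0, c 0 * d 1 + c 1 * d 0, c 0 * d 2 + c 2 * d 0,
      c 0 * d 3 + c 3 * d 0 + c 1 * d 1, c 0 * d 4 + c 4 * d 0 + (c 1 * d 2 + c 2 * d 1),
      c 0 * d 5 + c 5 * d 0 + c 2 * d 2]
    let Lc : (Fin 6 → K) → O := fun c => ck (c 1) * a + ck (c 2) * b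
    let Qc : (Fin 6 → K) → O := fun c => ck (c 3) * (a * a) + ck (c 4) * (a * b) + ck (c 5) * (b * b)
    have hLm : ∀ c, Lc c ∈ m := fun c => add_mem (Ideal.mul_mem_left _ _ ha) (Ideal.mul_mem_left _ _ hb)
    have hQm : ∀ c, Qc c ∈ m ^ 2 := fun c =>
      add_mem (add_mem (Ideal.mul_mem_left _ _ haa) (Ideal.mul_mem_left _ _ hab')) (Ideal.mul_mem_left _ _ hbb)
    have he : x * y - src e ∈ m ^ 3 := by
      have e1 : x * y - src e = (x - src c) * y + src c * (y - src d) +
          (Lc c * Qc d + Qc c * Lc d + Qc c * Qc d) := by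
        simp only [src, e, Lc, Qc, Matrix.cons_val, map_add, map_mul]; ring
      rw [e1]
      refine add_mem (add_mem (Ideal.mul_mem_right _ _ hc) (Ideal.mul_mem_left _ _ hd)) (add_mem (add_mem ?_ ?_) ?_)
      · rw [pow_succ']; exact Ideal.mul_mem_mul (hLm c) (hQm d)
      · rw [pow_succ]; exact Ideal.mul_mem_mul (hQm c) (hLm d)
      · rw [pow_succ]; exact Ideal.mul_mem_mul (hQm c) (Ideal.pow_le_self two_ne_zero (hQm d))
    rw [hLval e _ he, hLval c x hc, hLval d y hd]
    rw [Algebra.smul_def, Algebra.smul_def, Ideal.Quotient.algebraMap_eq, ← map_mul, ← map_mul, ← map_add,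
      Ideal.Quotient.mk_eq_mk_iff_sub_mem]
    let S : (Fin 6 → K) → O := fun c =>
      ck (c 3) * (2 * a * p) + ck (c 4) * (a * q + b * p) + ck (c 5) * (2 * b * q)
    have hS : ∀ c, S c ∈ m := fun c => add_mem (add_mem
      (Ideal.mul_mem_left _ _ (Ideal.mul_mem_right _ _ (Ideal.mul_mem_left _ _ ha)))
      (Ideal.mul_mem_left _ _ (add_mem (Ideal.mul_mem_right _ _ ha) (Ideal.mul_mem_right _ _ hb))))
      (Ideal.mul_mem_left _ _ (Ideal.mul_mem_right _ _ (Ideal.mul_mem_left _ _ hb)))
    have e2 : tgt e - (x * tgt d + y * tgt c) = -((x - src c) * tgt d + (y - src d) * tgt c +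
        (Lc c * S d + Lc d * S c) + Qc c * tgt d + Qc d * tgt c) := by
      simp only [tgt, src, e, Lc, Qc, S, Matrix.cons_val, map_add, map_mul]; ring
    rw [e2]
    refine hI (neg_mem (add_mem (add_mem (add_mem (add_mem (Ideal.mul_mem_right _ _ (h32 hc))
      (Ideal.mul_mem_right _ _ (h32 hd))) (add_mem ?_ ?_)) (Ideal.mul_mem_right _ _ (hQm c)))
      (Ideal.mul_mem_right _ _ (hQm d))))
    · rw [pow_two]; exact Ideal.mul_mem_mul (hLm c) (hS d)
    · rw [pow_two]; exact Ideal.mul_mem_mul (hLm d) (hS c)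
  · rw [Derivation.mk_coe, hLval ![0, 1, 0, 0, 0, 0] a (by simp [src])]
    simp [tgt]
  · rw [Derivation.mk_coe, hLval ![0, 0, 1, 0, 0, 0] b (by simp [src])]
    simp [tgt]

/-! ### The criterion -/

theorem Gens.swap {u v : O} (h : Gens u v) : Gens v u :=
  ⟨h.1.trans (congrArg Ideal.span (Set.pair_comm u v)), mul_comm u v ▸ h.2⟩

/-- An element of a noetherian local ring times itself modulo the maximal ideal. -/
theorem eq_zero_of_mem_mul_self {z : O} (hz : z ∈ m * Ideal.span {z}) : z = 0 := by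
  have h := Submodule.eq_bot_of_le_smul_of_le_jacobson_bot m (Ideal.span {z}) (Submodule.fg_span_singleton z)
    (by rw [smul_eq_mul, Ideal.span_le, Set.singleton_subset_iff]; exact hz) (IsLocalRing.maximalIdeal_le_jacobson _)
  exact Ideal.span_singleton_eq_bot.1 h

/-- No power of a non-principal maximal ideal with a non-zero-divisor is principal. -/
theorem not_principal_pow {t : O} (ht : t ∈ m) (htd : t ∈ nonZeroDivisors O) (hnp : ∀ c, m ≠ Ideal.span {c})
    {N : ℕ} (hN : 1 ≤ N) (z : O) : m ^ N ≠ Ideal.span {z} := fun h => by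
  obtain ⟨N, rfl⟩ : ∃ N', N = N' + 1 := ⟨N - 1, by omega⟩
  have htz : t ^ (N + 1) ∈ Ideal.span {z} := h ▸ Ideal.pow_mem_pow ht _
  obtain ⟨r, hr⟩ := Ideal.mem_span_singleton.1 htz
  have hzd : z ∈ nonZeroDivisors O := (mul_mem_nonZeroDivisors.1 (hr ▸ pow_mem htd _)).1
  have hz0 : z ≠ 0 := nonZeroDivisors.ne_zero hzd
  obtain ⟨a, ha, b, hb, hab⟩ : ∃ a ∈ m ^ N, ∃ b ∈ m, a * b ∉ m * Ideal.span {z} := by
    by_contra! hcon
    refine hz0 (eq_zero_of_mem_mul_self ?_)
    have hle : m ^ (N + 1) ≤ m * Ideal.span {z} := by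
      rw [pow_succ, Ideal.mul_le]; exact hcon
    exact hle (h.ge (Ideal.mem_span_singleton_self z))
  obtain ⟨e, he⟩ := Ideal.mem_span_singleton'.1 (h.le (pow_succ m N ▸ Ideal.mul_mem_mul ha hb))
  have hu : IsUnit e := by
    by_contra hu
    exact hab (he ▸ Ideal.mul_mem_mul ((mem_maximalIdeal _).2 hu) (Ideal.mem_span_singleton_self z))
  have had : a ∈ nonZeroDivisors O :=
    (mul_mem_nonZeroDivisors.1 (he ▸ mul_mem hu.mem_nonZeroDivisors hzd)).1
  refine hnp b (le_antisymm (fun c hc => ?_) ((Ideal.span_singleton_le_iff_mem _).2 hb))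
  obtain ⟨g, hg⟩ := Ideal.mem_span_singleton'.1 (h.le (pow_succ m N ▸ Ideal.mul_mem_mul ha hc))
  obtain ⟨ε, rfl⟩ := hu
  refine Ideal.mem_span_singleton'.2 ⟨g * ↑ε⁻¹, ?_⟩
  refine (mul_cancel_left_mem_nonZeroDivisors had).1 ?_
  have hε : (↑ε⁻¹ : O) * (↑ε : O) = 1 := ε.inv_mul
  linear_combination hg - g * (↑ε⁻¹ : O) * he + g * z * hε

variable [Algebra.EssFiniteType K O]

/-- The Jacobian ideal of a node is the maximal ideal. -/
theorem fitt_eq_maximal (hK : Rational K O) {u v : O} (h : Gens u v) (hd : NodeDim K O) :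
    Fitt.ideal O Ω[O⁄K] 1 = m := by
  classical
  have hx : m = Ideal.span (Set.range ![u, v]) := by
    rw [h.1]; congr 1; ext z; simp [Fin.exists_fin_two, eq_comm]; exact or_comm
  have hxm : ∀ i, ![u, v] i ∈ m := fun i => hx.ge (Ideal.subset_span ⟨i, rfl⟩)
  have hspan := span_D_eq_top hK hx
  rw [FittLib.ideal_eq_minors (fun i => KaehlerDifferential.D K O (![u, v] i)) hspan 1]
  refine le_antisymm (Ideal.span_le.2 ?_) ?_
  · rintro _ ⟨z, e, hz, rfl⟩
    have hind : ∀ c : Fin 2 → K, ∑ i, ck (c i) * ![u, v] i ∈ m ^ 2 → c = 0 := fun c hc => by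
      have hli := Fintype.linearIndependent_iff.1 (linearIndependent_monQ hK h hd (N := 2) (by norm_num))
        (Sum.elim ![0, c 0] ![c 1]) (by
          rw [Fintype.sum_sum_type, Fin.sum_univ_two, Fin.sum_univ_one]
          simp only [Sum.elim_inl, Sum.elim_inr, monQ, mon, Matrix.cons_val_zero, Matrix.cons_val_one, zero_smul,
            zero_add, smul_mk, ← map_add, Ideal.Quotient.eq_zero_iff_mem]
          simpa [Fin.sum_univ_two] using hc)
      funext i
      fin_cases i
      · simpa using hli (.inl 1)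
      · simpa using hli (.inr 0)
    obtain ⟨D, hD⟩ := exists_coord hK hxm hind (e 0)
    have := relation_eq_zero D (hz 0)
    rw [Finset.sum_eq_single (e 0) (fun i _ hi => by rw [hD, if_neg hi, smul_zero]) (by simp), hD, if_pos rfl,
      Algebra.smul_def, mul_one, Ideal.Quotient.algebraMap_eq, Ideal.Quotient.eq_zero_iff_mem] at this
    simpa using this
  · have hmem := dNode_mem_pow (K := K) 2 _ h.2
    rw [Derivation.leibniz, ← hspan, Submodule.mem_ideal_smul_span_iff_exists_sum] at hmem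
    obtain ⟨α, hα, hsum⟩ := hmem
    rw [Finsupp.sum_fintype α (fun i c => c • KaehlerDifferential.D K O (![u, v] i)) (fun i => zero_smul O _),
      Fin.sum_univ_two] at hsum
    let z : Fin (2 - 1) → Fin 2 → O := fun _ => ![v - α 0, u - α 1]
    have hz : ∀ j, ∑ i, z j i • KaehlerDifferential.D K O (![u, v] i) = 0 := fun j => by
      simp only [Fin.sum_univ_two, z, Matrix.cons_val_zero, Matrix.cons_val_one, sub_smul] at hsum ⊢
      rw [sub_add_sub_comm, hsum, add_comm (v • _), sub_self]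
    rw [span_eq_of_sub_mem (u' := v - α 0) (v' := u - α 1) h.swap.1 (by simpa using neg_mem (hα 0))
      (by simpa using neg_mem (hα 1)), Ideal.span_le]
    haveI : Unique (Fin ((Nat.succ 0).succ - 1)) := inferInstanceAs (Unique (Fin 1))
    rintro w (rfl | rfl)
    · exact Ideal.subset_span ⟨z, fun _ => 0, hz, by rw [Matrix.det_unique]; rfl⟩
    · exact Ideal.subset_span ⟨z, fun _ => 1, hz, by rw [Matrix.det_unique]; rfl⟩

end Groth.Agent.NodePtLib
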