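import Groth.Agent.NodePtLib.Unram
import Groth.Agent.NodePtLib.QuadNode
import Groth.Agent.CIFlatLib.Basic
import Groth.Agent.GorSchemeLib.LCI
import Groth.Agent.CancelLib.Ring
import Groth.Agent.RegIdealLib.Nested
import Groth.Agent.GorLib.CM
import Groth.Agent.S1493
import Groth.Agent.S2166

/-!
# Nodal curves are local complete intersections
-/

set_option autoImplicit false
set_option backward.isDefEq.respectTransparency false
set_option linter.style.haveILetI false
set_option linter.unusedSectionVars false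

universe u

open CategoryTheory CategoryTheory.Limits AlgebraicGeometry IsLocalRing

noncomputable section

namespace Groth.Agent.NodePtLib

theorem isLCI_of_ci {A B : Type u} [CommRing A] [CommRing B] [Algebra A B] [IsRegularRing A]
    [Algebra.FiniteType A B]
    (h : ∀ (q : Ideal B) [q.IsPrime], Pi1.IsCompleteIntersection (Localization.AtPrime q)) : LCI.IsLCI A B := by
  obtain ⟨n, φ, hφ⟩ := Algebra.FiniteType.iff_quotient_mvPolynomial''.mp ‹Algebra.FiniteType A B›
  refine ⟨‹_›, n, φ, hφ, CILib.isKoszulRegularIdeal_of_nearGen fun p _ hp => ?_⟩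
  have hp' : RingHom.ker φ.toRingHom ≤ p := hp
  haveI : (p.map φ.toRingHom).IsPrime := Ideal.map_isPrime_of_surjective (f := φ.toRingHom) hφ hp'
  have hc : p = (p.map φ.toRingHom).comap φ.toRingHom := by
    have h := Ideal.comap_map_of_surjective φ.toRingHom hφ p
    rw [show Ideal.comap φ.toRingHom ⊥ = RingHom.ker φ.toRingHom from rfl, sup_eq_left.2 hp'] at h
    exact h.symm
  let π := Localization.localRingHom p (p.map φ.toRingHom) φ.toRingHom hc
  have hπ : Function.Surjective π := CMGraded.localRingHom_surjective hφ _ _ hc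
  let e := RingHom.quotientKerEquivOfSurjective hπ
  have hne : RingHom.ker π ≠ ⊤ := RingHom.ker_ne_top π
  haveI : IsLocalRing (Localization.AtPrime p ⧸ RingHom.ker π) := e.symm.isLocalRing
  have hreg : CInt.IsRegularIdeal (RingHom.ker π) := by
    obtain ⟨rs, h1, h2⟩ := (Groth.Agent.S2166.result (RingHom.ker π) hne).1
      ((CIFlatLib.isCI_congr e).2 (h (p.map φ.toRingHom)))
    exact ⟨rs, h2, h1⟩
  obtain ⟨g, hg, -, l, hl⟩ := CancelLib.exists_nearGen_of_isRegularIdeal (RingHom.ker φ.toRingHom) p hp' (by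
    have hk : RingHom.ker π = (RingHom.ker φ.toRingHom).map (algebraMap _ (Localization.AtPrime p)) :=
      CMGraded.ker_localRingHom (φ := φ.toRingHom) hφ _ _ hc
    exact hk ▸ hreg)
  exact ⟨g, hg, l, hl⟩

section Field

attribute [local instance] Curv2.stalkAlgebra

variable {k : Type u} [Field k] {X : Scheme.{u}} [X.Over (Spec (CommRingCat.of k))]
  [LocallyOfFiniteType (X ↘ Spec (CommRingCat.of k))]

theorem isCI_stalk (hc : NodalLib.Comps1 X) (hX : Curv2.AtWorstNodal k X) (x : X) :
    Pi1.IsCompleteIntersection (X.presheaf.stalk x) := by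
  rcases smooth_or_node_at hc hX x with hs | hn
  · haveI := regular_of_smooth_nhd (k := k) hs
    exact CIFlatLib.isCI_of_isRegularLocalRing _
  · haveI := LocallyOfFiniteType.isLocallyNoetherian (X ↘ Spec (CommRingCat.of k))
    obtain ⟨hs, hr, hq⟩ := (isNode_iff_quadPt (k := k) hn.1).1 hn
    haveI := hs
    haveI := hr
    obtain ⟨a, b, c, hd, e, -⟩ := exists_completion_iso k (X.presheaf.stalk x) hq
    let P := MvPowerSeries (Fin 2) (ResidueField (X.presheaf.stalk x))
    haveI : IsDomain (MvPowerSeries (Fin 2) (ResidueField (X.presheaf.stalk x))) := NoZeroDivisors.to_isDomain _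
    have hset : {r : P | r ∈ [qSeries a b c]} = {qSeries a b c} := by ext r; simp
    refine ⟨P, inferInstance, inferInstance, [qSeries a b c], ?_, ?_, ⟨e.trans (Ideal.quotEquivOfEq (by rw [hset]))⟩⟩
    · intro r hr
      rw [List.mem_singleton] at hr
      rw [hr]
      exact Ideal.pow_le_self two_ne_zero (span_q_le a b c (Ideal.mem_span_singleton_self _))
    · have hne : qSeries a b c ≠ 0 := fun h0 => by
        refine hd ?_
        have h1 : ∀ d, MvPowerSeries.coeff d (qSeries a b c) = 0 := fun d => by rw [h0, map_zero]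
        have hX : ∀ i : Fin 2, (MvPowerSeries.X i : P) = MvPowerSeries.monomial (Finsupp.single i 1) 1 := fun i => rfl
        have e20 := h1 (Finsupp.single 0 2)
        have e11 := h1 (Finsupp.single 0 1 + Finsupp.single 1 1)
        have e02 := h1 (Finsupp.single 1 2)
        simp only [qSeries, pow_two, hX, map_add, mul_assoc, MvPowerSeries.coeff_C_mul,
          MvPowerSeries.monomial_mul_monomial, MvPowerSeries.coeff_monomial, one_mul] at e20 e11 e02
        simp [Finsupp.ext_iff, Fin.forall_fin_two] at e20 e11 e02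
        rw [e20, e11, e02]; ring
      refine (IsLocalRing.isRegular_iff_isWeaklyRegular_of_subset_maximalIdeal (R := P) (fun r hr => ?_)).2 ?_
      · rw [List.mem_singleton] at hr
        rw [hr]
        exact Ideal.pow_le_self two_ne_zero (span_q_le a b c (Ideal.mem_span_singleton_self _))
      · rw [RingTheory.Sequence.isWeaklyRegular_cons_iff']
        exact ⟨fun u v huv => mul_left_cancel₀ hne huv, RingTheory.Sequence.IsWeaklyRegular.nil _ _⟩

theorem isLCIMor_of_atWorstNodal (hc : NodalLib.Comps1 X) (hX : Curv2.AtWorstNodal k X) :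
    Dual3.IsLCIMor (X ↘ Spec (CommRingCat.of k)) := by
  intro x
  let f := X ↘ Spec (CommRingCat.of k)
  obtain ⟨U, hU, hxU, -⟩ := exists_isAffineOpen_mem_and_subset (X := X) (x := x) (U := ⊤) trivial
  refine ⟨⟨U, hU⟩, ⟨⊤, isAffineOpen_top _⟩, le_top, hxU, ?_⟩
  letI := (f.appLE ⊤ U le_top).hom.toAlgebra
  haveI : Algebra.FiniteType Γ(Spec (CommRingCat.of k), ⊤) Γ(X, U) := f.finiteType_appLE (isAffineOpen_top _) hU le_top
  haveI : IsRegularRing Γ(Spec (CommRingCat.of k), ⊤) := by
    have e : k ≃+* Γ(Spec (CommRingCat.of k), ⊤) := (Scheme.ΓSpecIso (CommRingCat.of k)).symm.commRingCatIsoToRingEquiv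
    exact IsRegularRing.of_ringEquiv e
  refine isLCI_of_ci fun q hq => ?_
  have hy : hU.fromSpec ⟨q, hq⟩ ∈ U := hU.range_fromSpec.le ⟨⟨q, hq⟩, rfl⟩
  letI := TopCat.Presheaf.algebra_section_stalk X.presheaf ⟨hU.fromSpec ⟨q, hq⟩, hy⟩
  haveI : IsLocalization.AtPrime (X.presheaf.stalk (hU.fromSpec ⟨q, hq⟩)) q := hU.isLocalization_stalk' ⟨q, hq⟩ hy
  exact (CIFlatLib.isCI_congr (IsLocalization.algEquiv q.primeCompl (X.presheaf.stalk (hU.fromSpec ⟨q, hq⟩))
    (Localization.AtPrime q)).toRingEquiv).1 (isCI_stalk hc hX _)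

theorem exists_nzd_of_gorenstein [IsLocallyNoetherian X] (hX1 : NodalLib.Comps1 X) {x : X}
    (hx : IsClosed ({x} : Set X)) (hG : LocCoh.IsGorensteinLocalRing (X.presheaf.stalk x)) :
    ∃ t ∈ maximalIdeal (X.presheaf.stalk x), t ∈ nonZeroDivisors (X.presheaf.stalk x) := by
  by_contra! hcon
  have hsub : (maximalIdeal (X.presheaf.stalk x) : Set (X.presheaf.stalk x)) ⊆
      ⋃ p ∈ associatedPrimes (X.presheaf.stalk x) (X.presheaf.stalk x), (p : Set (X.presheaf.stalk x)) := fun a ha => by
    rw [biUnion_associatedPrimes_eq_compl_nonZeroDivisors (X.presheaf.stalk x)]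
    exact hcon a ha
  obtain ⟨p, hp, hle⟩ := (Ideal.subset_union_prime_finite (associatedPrimes.finite _ _) (maximalIdeal _)
    (maximalIdeal _) (fun p hp _ _ => hp.isPrime)).1 hsub
  obtain rfl : p = maximalIdeal (X.presheaf.stalk x) := ((maximalIdeal.isMaximal _).eq_of_le hp.isPrime.ne_top hle).symm
  have h0 : LocCoh.depth (X.presheaf.stalk x) (X.presheaf.stalk x) = 0 := Depth.depth_self_eq_zero_iff.2 hp
  have hcm := GorLib.isCohenMacaulay _ hG
  have hd := hcm.supportDim_eq_depth
  rw [h0, Module.supportDim_self_eq_ringKrullDim] at hd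
  have hmax : ∀ v : X, v ⤳ x → v = x := fun v hv =>
    ASp.eq_of_ringKrullDim_stalk_eq_zero hd hv
  have hcomp : ({x} : Set X) ∈ irreducibleComponents X := by
    have h := Groth.Agent.S4673.component_of_maximal hmax
    rwa [hx.closure_eq] at h
  have h1 := hX1 _ hcomp
  haveI : Subsingleton ({x} : Set X) := Set.subsingleton_singleton.coe_sort
  have hle0 : topologicalKrullDim ({x} : Set X) ≤ 0 := by
    haveI : Subsingleton (TopologicalSpace.IrreducibleCloseds ({x} : Set X)) := ⟨fun a b => by
      refine TopologicalSpace.IrreducibleCloseds.ext ?_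
      obtain ⟨u, hu⟩ := a.2.1
      obtain ⟨v, hv⟩ := b.2.1
      ext c
      exact iff_of_true (Subsingleton.elim u c ▸ hu) (Subsingleton.elim v c ▸ hv)⟩
    exact Order.krullDim_nonpos_of_subsingleton
  rw [h1] at hle0
  exact absurd hle0 (by decide)

theorem atWorstNodal_of_lci_unram [QuasiSeparated (X ↘ Spec (CommRingCat.of k))] (hc : NodalLib.Comps1 X)
    (hl : Dual3.IsLCIMor (X ↘ Spec (CommRingCat.of k)))
    (hu : FormallyUnramified ((jacSheaf (X ↘ Spec (CommRingCat.of k))).subschemeι ≫ (X ↘ Spec (CommRingCat.of k)))) :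
    Curv2.AtWorstNodal k X := by
  intro x hx
  let K := AlgebraicClosure k
  letI : (Curv2.bc k X K).Over (Spec (CommRingCat.of K)) := ⟨Curv2.bcSnd k X K⟩
  haveI : LocallyOfFiniteType (Curv2.bc k X K ↘ Spec (CommRingCat.of K)) :=
    inferInstanceAs (LocallyOfFiniteType (pullback.snd (X ↘ Spec (CommRingCat.of k)) _))
  haveI : QuasiSeparated (Curv2.bc k X K ↘ Spec (CommRingCat.of K)) :=
    inferInstanceAs (QuasiSeparated (pullback.snd (X ↘ Spec (CommRingCat.of k)) _))
  haveI := LocallyOfFiniteType.isLocallyNoetherian (X ↘ Spec (CommRingCat.of k))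
  obtain ⟨w, rfl⟩ := surjective_bcFst k X K x
  have hGk : Dual3.IsGorenstein (Spec (CommRingCat.of k)) := ⟨inferInstance, fun y => by
    haveI : IsRegularLocalRing ((Spec (CommRingCat.of k)).presheaf.stalk y) :=
      ASp.isRegularLocalRing_stalk_of_smooth_field (𝟙 (Spec (CommRingCat.of k))) y
    exact Groth.Agent.S0342.result _⟩
  obtain ⟨t, ht, htd⟩ := exists_nzd_of_gorenstein hc hx ((GorSchemeLib.isGorenstein_of_isLCIMor _ hl hGk).2 _)
  by_cases htop : jac k X (Curv2.bcFst k X K w) = ⊤
  · exact Or.inl (smooth_of_jac_top hx htop ht htd)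
  · have hmem : Curv2.bcFst k X K w ∈ (jacSheaf (X ↘ Spec (CommRingCat.of k))).support := by
      by_contra hcon
      exact htop ((stalkIdeal_jacSheaf (k := k) _).symm.trans (stalkIdeal_eq_top_of_notMem hcon))
    obtain ⟨z', hz'⟩ := exists_over (X ↘ Spec (CommRingCat.of k)) _ w hmem
    obtain ⟨z, hz⟩ : ∃ z, (jacSheaf (X ↘ Spec (CommRingCat.of k))).subschemeι z = Curv2.bcFst k X K w := by
      have h := hmem
      rw [← SetLike.mem_coe, ← Scheme.IdealSheafData.range_subschemeι] at h
      exact h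
    have huz : UnramAt ((jacSheaf (X ↘ Spec (CommRingCat.of k))).subschemeι ≫ (X ↘ Spec (CommRingCat.of k))) z := by
      haveI := hu
      exact ⟨⊤, trivial, MorphismProperty.comp_mem _ _ _ (inferInstanceAs (FormallyUnramified (Scheme.Opens.ι _))) hu⟩
    have hun := (unramAt_jac_bc _ _ w z z' hz hz').2 huz
    have hz'w : (jacSheaf (Curv2.bc k X K ↘ Spec (CommRingCat.of K))).subschemeι z' = w := hz'
    have hjac := (unramAt_iff (k := K) (X := Curv2.bc k X K) z'
      (by rw [hz'w]; exact NodalLib.closed_over hx w rfl)).1 hun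
    rw [hz'w] at hjac
    exact Or.inr (isNode_of_jac hx ((jac_bc k X K w).symm.trans hjac) ht htd)

theorem formallyUnramified_jac_field [QuasiSeparated (X ↘ Spec (CommRingCat.of k))] (hc : NodalLib.Comps1 X)
    (hX : Curv2.AtWorstNodal k X) :
    FormallyUnramified ((jacSheaf (X ↘ Spec (CommRingCat.of k))).subschemeι ≫ (X ↘ Spec (CommRingCat.of k))) := by
  let f := X ↘ Spec (CommRingCat.of k)
  let Z := jacSheaf f
  haveI : LocallyOfFiniteType (Z.subschemeι ≫ f) := inferInstance
  haveI : JacobsonSpace Z.subscheme := LocallyOfFiniteType.jacobsonSpace (Z.subschemeι ≫ f)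
  have key : ∀ z : Z.subscheme, UnramAt (Z.subschemeι ≫ f) z := by
    intro z
    obtain ⟨c, hc1, hcc⟩ := nonempty_inter_closedPoints (Z := closure ({z} : Set Z.subscheme))
      ⟨z, subset_closure rfl⟩ isClosed_closure.isLocallyClosed
    have hx : IsClosed ({Z.subschemeι c} : Set X) := by
      rw [← Set.image_singleton]
      exact Z.subschemeι.isClosedEmbedding.isClosedMap _ hcc
    suffices h : UnramAt (Z.subschemeι ≫ f) c by
      obtain ⟨U, hU, hun⟩ := h
      exact ⟨U, (specializes_iff_mem_closure.2 hc1).mem_open U.2 hU, hun⟩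
    rcases hX _ hx with hs | hn
    · exact absurd (Z.range_subschemeι.le ⟨c, rfl⟩)
        (notMem_support_of_jac_top (k := k) (jac_eq_top_of_smooth (k := k) hc hx hs))
    · exact unramAt_of_isNode (k := k) c hn
  choose U hzU hU using key
  haveI := hU
  exact IsZariskiLocalAtSource.of_openCover
    (Scheme.openCoverOfIsOpenCover _ U (TopologicalSpace.IsOpenCover.mk (top_le_iff.1 fun z _ =>
      TopologicalSpace.Opens.mem_iSup.2 ⟨z, hzU z⟩))) fun i => hU i

end Field

end Groth.Agent.NodePtLib
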