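import Groth.Agent.NodePtLib.MaxOpen
import Groth.Agent.GorSp.Sch
import Mathlib.RingTheory.DedekindDomain.Dvr
import Mathlib.RingTheory.IntegralClosure.IntegrallyClosed

/-!
# Normality of nodal families with normal generic fibre
-/

set_option autoImplicit false
set_option backward.isDefEq.respectTransparency false
set_option linter.style.haveILetI false
set_option linter.unusedSectionVars false

universe u

open CategoryTheory CategoryTheory.Limits AlgebraicGeometry IsLocalRing

noncomputable section

namespace Groth.Agent.NodePtLib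

/-- A Noetherian ring with trivial idempotents and domains as local rings is a domain. -/
theorem isDomain_of_idempotents {S : Type u} [CommRing S] [IsNoetherianRing S] [Nontrivial S]
    (he : ∀ e : S, e * e = e → e = 0 ∨ e = 1)
    (hl : ∀ (p : Ideal S) [p.IsPrime], IsDomain (Localization.AtPrime p)) : IsDomain S := by
  obtain ⟨m₀, hm₀⟩ := Ideal.exists_maximal S
  obtain ⟨q, hq, -⟩ := Ideal.exists_minimalPrimes_le (bot_le : (⊥ : Ideal S) ≤ m₀)
  haveI := hq.1.1
  have htop : q ⊔ Submodule.annihilator (q : Submodule S S) = ⊤ := by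
    by_contra hne
    obtain ⟨p, hp, hle⟩ := Ideal.exists_le_maximal _ hne
    haveI := hp.isPrime
    haveI := hl p
    have hqp : q ≤ p := le_sup_left.trans hle
    obtain ⟨s, hs⟩ : ∃ s : Finset S, Ideal.span (s : Set S) = q := IsNoetherian.noetherian q
    have hker : ∀ x ∈ q, ∃ t ∉ p, t * x = 0 := fun x hx => by
      have h0 : algebraMap S (Localization.AtPrime p) x = 0 := by
        haveI : ((⊥ : Ideal (Localization.AtPrime p)).comap (algebraMap S (Localization.AtPrime p))).IsPrime :=
          Ideal.IsPrime.comap _
        have hle2 : (⊥ : Ideal (Localization.AtPrime p)).comap (algebraMap S (Localization.AtPrime p)) ≤ q := by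
          intro y hy
          rw [Ideal.mem_comap, Ideal.mem_bot, IsLocalization.map_eq_zero_iff p.primeCompl] at hy
          obtain ⟨t, ht⟩ := hy
          exact (hq.1.1.mem_or_mem (ht ▸ q.zero_mem)).resolve_left fun h => t.2 (hqp h)
        have := hq.2 ⟨inferInstance, bot_le⟩ hle2 hx
        exact this
      rw [IsLocalization.map_eq_zero_iff p.primeCompl] at h0
      obtain ⟨t, ht⟩ := h0
      exact ⟨t, t.2, ht⟩
    choose t ht htx using hker
    have hsq : ∀ x : s, (x : S) ∈ q := fun x => hs ▸ Ideal.subset_span x.2
    let T := ∏ x : s, t x (hsq x)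
    have hT : T ∉ p := fun h => by
      obtain ⟨x, -, hx⟩ := (Ideal.IsPrime.prod_mem_iff).1 h
      exact ht _ _ hx
    refine hT (hle (Submodule.mem_sup_right ?_))
    rw [← hs, Ideal.span, Submodule.mem_annihilator_span]
    intro n
    rw [smul_eq_mul]
    obtain ⟨d, hd⟩ : t _ (hsq ⟨n.1, n.2⟩) ∣ T := Finset.dvd_prod_of_mem _ (Finset.mem_univ _)
    rw [show T = _ from hd, mul_comm _ d, mul_assoc]
    exact (congrArg (d * ·) (htx _ _)).trans (mul_zero d)
  obtain ⟨x, hx, y, hy, hxy⟩ := Submodule.mem_sup.1 (show (1 : S) ∈ q ⊔ Submodule.annihilator (q : Submodule S S) by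
    rw [htop]; trivial)
  have hann : ∀ n ∈ q, y * n = 0 := fun n hn => (Submodule.mem_annihilator.1 hy) n hn
  have hxx : x * x = x := by linear_combination x * hxy - hann x hx
  rcases he x hxx with rfl | rfl
  · have hq0 : q = ⊥ := by
      rw [Submodule.eq_bot_iff]
      intro n hn
      rw [zero_add] at hxy
      simpa [hxy] using hann n hn
    subst hq0
    exact IsDomain.of_bot_isPrime S
  · exact absurd ((Ideal.eq_top_iff_one q).2 hx) hq.1.1.ne_top

/-- Normality lifts from the complement of a reduced principal divisor. -/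
theorem normal_of_away {A : Type u} [CommRing A] [IsLocalRing A] [IsNoetherianRing A] {π : A}
    (hπ : π ∈ maximalIdeal A) (hreg : π ∈ nonZeroDivisors A) [_root_.IsReduced (A ⧸ Ideal.span {π})]
    (h : ∀ (q : Ideal A) [q.IsPrime], π ∉ q → IsDomain (Localization.AtPrime q) ∧
      IsIntegrallyClosed (Localization.AtPrime q)) :
    IsDomain A ∧ IsIntegrallyClosed A := by
  let S := Localization.Away π
  have hinj : Function.Injective (algebraMap A S) :=
    IsLocalization.injective S (Submonoid.powers_le.2 hreg)
  haveI : Nontrivial S := hinj.nontrivial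
  haveI : IsNoetherianRing S := IsLocalization.isNoetherianRing (Submonoid.powers π) S inferInstance
  have hprime : ∀ (p : Ideal S) [p.IsPrime], IsDomain (Localization.AtPrime p) ∧
      IsIntegrallyClosed (Localization.AtPrime p) := by
    intro p _
    have hπp : π ∉ p.comap (algebraMap A S) := fun hh =>
      ‹p.IsPrime›.ne_top (Ideal.eq_top_of_isUnit_mem _ hh (IsLocalization.Away.algebraMap_isUnit π))
    obtain ⟨hd, hic⟩ := h (p.comap (algebraMap A S)) hπp
    haveI := hd
    haveI := hic
    let e : Localization.AtPrime (p.comap (algebraMap A S)) ≃ₐ[A] Localization.AtPrime p :=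
      haveI : IsLocalization.AtPrime (Localization.AtPrime p) (p.comap (algebraMap A S)) :=
        IsLocalization.isLocalization_isLocalization_atPrime_isLocalization (Submonoid.powers π)
          (Localization.AtPrime p) p
      IsLocalization.algEquiv (p.comap (algebraMap A S)).primeCompl _ _
    haveI : IsDomain (Localization.AtPrime p) := e.symm.toRingEquiv.toMulEquiv.isDomain _
    exact ⟨inferInstance, IsIntegrallyClosed.of_equiv e.toRingEquiv⟩
  -- integral elements of the localisation
  have key : ∀ x : S, IsIntegral A x → ∃ a : A, algebraMap A S a = x := by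
    intro x hx
    obtain ⟨⟨a, ⟨_, n, rfl⟩⟩, hn⟩ := IsLocalization.surj (M := Submonoid.powers π) x
    simp only at hn
    induction n generalizing a with
    | zero => exact ⟨a, by simpa using hn.symm⟩
    | succ n ih =>
      obtain ⟨P, hP, hP0⟩ := hx
      have hdeg : 0 < P.natDegree := Nat.pos_of_ne_zero fun h0 => by
        rw [Polynomial.eq_one_of_monic_natDegree_zero hP h0] at hP0
        simp at hP0
      set m := P.natDegree with hm
      have hmem : a ^ m ∈ Ideal.span {π} := by
        rw [Polynomial.eval₂_eq_sum_range, ← hm, Finset.sum_range_succ,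
          show P.coeff m = 1 from hP.coeff_natDegree, map_one, one_mul] at hP0
        have h1 : algebraMap A S (a ^ m + ∑ i ∈ Finset.range m, P.coeff i * a ^ i * π ^ ((n + 1) * (m - i))) = 0 := by
          have h2 := congrArg (· * (algebraMap A S (π ^ (n + 1))) ^ m) hP0
          simp only [zero_mul, add_mul, Finset.sum_mul] at h2
          rw [map_add, map_sum, map_pow, ← hn, mul_pow, add_comm, ← h2]
          congr 1
          rw [Finset.sum_mul]
          refine Finset.sum_congr rfl fun i hi => ?_
          have him : i < m := Finset.mem_range.1 hi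
          rw [map_mul, map_mul, map_pow, map_pow, ← hn, mul_pow, map_pow, ← pow_mul, ← pow_mul]
          have : (n + 1) * m = (n + 1) * i + (n + 1) * (m - i) := by rw [← mul_add]; congr 1; omega
          rw [this, pow_add]
          ring
        have h3 := hinj (h1.trans (map_zero _).symm)
        rw [eq_neg_of_add_eq_zero_left h3]
        refine neg_mem (Ideal.sum_mem _ fun i hi => Ideal.mul_mem_left _ _ ?_)
        have him : i < m := Finset.mem_range.1 hi
        exact Ideal.pow_mem_of_mem _ (Ideal.mem_span_singleton_self π) _ (Nat.mul_pos (Nat.succ_pos n) (by omega))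
      have ha : a ∈ Ideal.span {π} := by
        rw [← Ideal.Quotient.eq_zero_iff_mem] at hmem ⊢
        rw [map_pow] at hmem
        exact eq_zero_of_pow_eq_zero hmem
      obtain ⟨b, rfl⟩ := Ideal.mem_span_singleton'.1 ha
      refine ih b ((IsLocalization.Away.algebraMap_isUnit (S := S) π).mul_left_injective ?_)
      simp only
      rw [← map_mul, ← hn, pow_succ, map_mul, mul_assoc]
  have hS : IsDomain S := by
    refine isDomain_of_idempotents (fun e he => ?_) fun p _ => (hprime p).1
    obtain ⟨a, rfl⟩ := key e ⟨Polynomial.X ^ 2 - Polynomial.X, Polynomial.monic_X_pow_sub (by simp), by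
      simp [pow_two, he]⟩
    have haa : a * a = a := hinj (by rw [map_mul, he])
    by_cases ha : IsUnit a
    · refine Or.inr ?_
      rw [← map_one (algebraMap A S)]
      exact congrArg _ (ha.mul_left_cancel (by rw [haa, mul_one]))
    · refine Or.inl ?_
      have hu : IsUnit (1 - a) := (IsLocalRing.isUnit_or_isUnit_one_sub_self a).resolve_left ha
      rw [← map_zero (algebraMap A S)]
      exact congrArg _ (hu.mul_left_cancel (by rw [mul_zero, sub_mul, haa, one_mul, sub_self]))
  haveI := hS
  haveI : IsIntegrallyClosed S := IsIntegrallyClosed.of_localization_maximal fun p _ hp => (hprime p).2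
  haveI : IsDomain A := hinj.isDomain
  refine ⟨inferInstance, ?_⟩
  let K := FractionRing S
  haveI : FaithfulSMul A K := (faithfulSMul_iff_algebraMap_injective A K).2 (by
    rw [IsScalarTower.algebraMap_eq A S K]; exact (IsFractionRing.injective S K).comp hinj)
  haveI : IsFractionRing A K := IsFractionRing.of_field A K fun z => by
    obtain ⟨s, t, ht, rfl⟩ := IsFractionRing.div_surjective (A := S) z
    obtain ⟨⟨a, u⟩, hau⟩ := IsLocalization.surj (M := Submonoid.powers π) s
    obtain ⟨⟨b, v⟩, hbv⟩ := IsLocalization.surj (M := Submonoid.powers π) t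
    refine ⟨a * v, b * u, ?_⟩
    simp only at hau hbv
    have hne : ∀ w : Submonoid.powers π, algebraMap S K (algebraMap A S (w : A)) ≠ 0 := fun w =>
      ((IsLocalization.map_units S w).map (algebraMap S K)).ne_zero
    simp only [IsScalarTower.algebraMap_apply A S K, map_mul, ← hau, ← hbv]
    have cancel : ∀ p q c d : K, c ≠ 0 → d ≠ 0 → p / q = p * c * d / (q * d * c) := fun p q c d hc hd => by
      rw [mul_assoc, mul_assoc, mul_comm d c, mul_div_mul_right p q (mul_ne_zero hc hd)]
    exact cancel _ _ _ _ (hne u) (hne v)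
  rw [isIntegrallyClosed_iff K]
  intro x hx
  obtain ⟨s, rfl⟩ := (isIntegrallyClosed_iff K).1 ‹IsIntegrallyClosed S› (IsIntegral.tower_top hx)
  obtain ⟨a, rfl⟩ := key s ((isIntegral_algebraMap_iff (IsFractionRing.injective S K)).1 hx)
  exact ⟨a, IsScalarTower.algebraMap_apply A S K a⟩

/-- The local rings of a nodal family over a Dedekind ring with normal generic fibre are normal. -/
theorem normal_stalk_of_family {R : Type u} [CommRing R] [IsDedekindDomain R]
    {X : Scheme.{u}} (f : X ⟶ Spec (CommRingCat.of R)) (hf : Curv2.IsNodalFamily f)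
    (hgen : ∀ x : X, (f.base x).asIdeal = ⊥ →
      IsDomain (X.presheaf.stalk x) ∧ IsIntegrallyClosed (X.presheaf.stalk x)) (x : X) :
    IsDomain (X.presheaf.stalk x) ∧ IsIntegrallyClosed (X.presheaf.stalk x) := by
  haveI := hf.1
  haveI := hf.2.1
  haveI : IsLocallyNoetherian X := LocallyOfFiniteType.isLocallyNoetherian f
  by_cases hx : (f.base x).asIdeal = ⊥
  · exact hgen x hx
  let P := f.base x
  let S₀ := (Spec (CommRingCat.of R)).presheaf.stalk P
  letI : Algebra R S₀ := StructureSheaf.stalkAlgebra (CommRingCat.of R) P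
  haveI : IsLocalization.AtPrime S₀ P.asIdeal := StructureSheaf.IsLocalization.to_stalk (CommRingCat.of R) P
  haveI : IsDomain S₀ :=
    IsLocalization.isDomain_of_le_nonZeroDivisors (M := P.asIdeal.primeCompl) (S := S₀) P.asIdeal.primeCompl_le_nonZeroDivisors
  haveI : IsDiscreteValuationRing S₀ :=
    IsLocalization.AtPrime.isDiscreteValuationRing_of_dedekind_domain R hx S₀
  obtain ⟨ϖ, hϖ⟩ := IsDiscreteValuationRing.exists_irreducible S₀
  have hmax : maximalIdeal S₀ = Ideal.span {ϖ} := Irreducible.maximalIdeal_eq hϖ
  let A := X.presheaf.stalk x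
  let φ : S₀ →+* A := (f.stalkMap x).hom
  have hϖm : ϖ ∈ maximalIdeal S₀ := hmax ▸ Ideal.mem_span_singleton_self ϖ
  have hπm : φ ϖ ∈ maximalIdeal A := map_nonunit φ ϖ hϖm
  have hreg : φ ϖ ∈ nonZeroDivisors A := by
    letI := φ.toAlgebra
    haveI : Module.Flat S₀ A := Flat.stalkMap f x
    exact nzd_of_flat (mem_nonZeroDivisors_of_ne_zero hϖ.ne_zero)
  -- the fibre
  haveI : _root_.IsReduced (A ⧸ Ideal.span {φ ϖ}) := by
    haveI := isReduced_of_goodPt f (goodPt_of_family f hf x)
    have gen : ∀ x' : X, x' = x →
        _root_.IsReduced (X.presheaf.stalk x' ⧸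
          (maximalIdeal ((Spec (CommRingCat.of R)).presheaf.stalk (f x'))).map (f.stalkMap x').hom) →
        _root_.IsReduced (A ⧸ (maximalIdeal S₀).map φ) := by
      rintro x' rfl h; exact h
    have h := gen _ (f.fiberι_asFiber x)
      (isReduced_of_injective (GorSp.fibreStalkEquiv f (f.base x) (f.asFiber x)).toRingHom
        (GorSp.fibreStalkEquiv f (f.base x) (f.asFiber x)).injective)
    rw [hmax, Ideal.map_span, Set.image_singleton] at h
    exact h
  refine normal_of_away hπm hreg fun q _ hq => ?_
  let qq : PrimeSpectrum A := ⟨q, ‹_›⟩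
  let y : X := X.fromSpecStalk x qq
  have hyx : y ⤳ x := by
    have h : y ∈ Set.range (X.fromSpecStalk x) := ⟨qq, rfl⟩
    rwa [Scheme.range_fromSpecStalk] at h
  letI := (X.presheaf.stalkSpecializes hyx).hom.toAlgebra
  haveI := Groth.Agent.S5090.isLocalization_stalkSpecializes hyx
  have hcomap : (maximalIdeal (X.presheaf.stalk y)).comap (X.presheaf.stalkSpecializes hyx).hom = q := by
    have h1 : X.fromSpecStalk x (Spec.map (X.presheaf.stalkSpecializes hyx) (closedPoint (X.presheaf.stalk y))) =
        X.fromSpecStalk x qq := by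
      rw [← Scheme.Hom.comp_apply, Scheme.SpecMap_stalkSpecializes_fromSpecStalk]
      exact Scheme.fromSpecStalk_closedPoint
    exact congrArg PrimeSpectrum.asIdeal ((X.fromSpecStalk x).isEmbedding.injective h1)
  have hfy : (f.base y).asIdeal = ⊥ := by
    by_contra hne
    have hle : (f.base y).asIdeal ≤ P.asIdeal :=
      (PrimeSpectrum.le_iff_specializes (f.base y) P).2 (hyx.map f.continuous)
    have heq : f.base y = P := PrimeSpectrum.ext (((Ideal.IsPrime.isMaximal inferInstance hne)).eq_of_le
      P.2.ne_top hle)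
    have hs : IsUnit (X.presheaf.stalkSpecializes hyx (φ ϖ)) := notMem_maximalIdeal.1 fun hm => hq (hcomap ▸ hm)
    rw [← Scheme.Hom.stalkSpecializes_stalkMap_apply f y x hyx ϖ] at hs
    have hu := (isUnit_map_iff (f.stalkMap y).hom _).1 hs
    have key : ∀ (Q : Spec (CommRingCat.of R)) (hQ : Q ⤳ P), Q = P →
        IsUnit ((Spec (CommRingCat.of R)).presheaf.stalkSpecializes hQ ϖ) → False := by
      rintro Q hQ rfl hu'
      rw [TopCat.Presheaf.stalkSpecializes_refl] at hu'
      exact (mem_maximalIdeal _).1 hϖm hu'
    exact key _ _ heq hu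
  obtain ⟨hd, hic⟩ := hgen y hfy
  haveI := hd
  haveI := hic
  haveI : IsLocalization.AtPrime (X.presheaf.stalk y) q := by
    have := Groth.Agent.S5090.isLocalization_stalkSpecializes hyx
    rw [show IsLocalization.AtPrime (X.presheaf.stalk y) q = IsLocalization.AtPrime (X.presheaf.stalk y)
      ((maximalIdeal (X.presheaf.stalk y)).comap (X.presheaf.stalkSpecializes hyx).hom) by simp only [hcomap]]
    exact this
  let e : X.presheaf.stalk y ≃ₐ[A] Localization.AtPrime q := IsLocalization.algEquiv q.primeCompl _ _
  haveI : IsDomain (Localization.AtPrime q) := e.symm.toRingEquiv.toMulEquiv.isDomain _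
  exact ⟨inferInstance, IsIntegrallyClosed.of_equiv e.toRingEquiv⟩

end Groth.Agent.NodePtLib
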