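import Groth.Agent.NodePtLib.SingLocus
import Groth.Agent.NodePtLib.Gor
import Groth.Agent.S2549

/-!
# Openness of the nodal locus
-/

set_option autoImplicit false
set_option backward.isDefEq.respectTransparency false
set_option linter.style.haveILetI false
set_option linter.unusedSectionVars false

universe u

open CategoryTheory CategoryTheory.Limits AlgebraicGeometry IsLocalRing

noncomputable section

namespace Groth.Agent.NodePtLib

section Field

variable {k : Type u} [Field k] {X : Scheme.{u}} [X.Over (Spec (CommRingCat.of k))]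
  [LocallyOfFiniteType (X ↘ Spec (CommRingCat.of k))]

/-- A generisation of a node other than the node is a smooth point. -/
theorem smooth_nhd_of_specializes_node
    (hd : ∀ Z ∈ irreducibleComponents (X : Type u), topologicalKrullDim Z ≤ 1) {x c : X} (hs : x ⤳ c)
    (hne : ¬ IsClosed ({x} : Set X)) (hc : Curv2.IsNode k X c) :
    ∃ U : X.Opens, x ∈ U ∧ Smooth (U.ι ≫ (X ↘ Spec (CommRingCat.of k))) := by
  haveI : LocallyOfFinitePresentation (X ↘ Spec (CommRingCat.of k)) :=
    haveI := LocallyOfFiniteType.isLocallyNoetherian (X ↘ Spec (CommRingCat.of k))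
    LocallyOfFinitePresentation.iff_locallyOfFiniteType.mpr inferInstance
  let kb := AlgebraicClosure k
  obtain ⟨zb, hzb⟩ := surjective_bcFst k X kb c
  let Xb := Curv2.bc k X kb
  letI : Xb.Over (Spec (CommRingCat.of kb)) := ⟨Curv2.bcSnd k X kb⟩
  haveI : LocallyOfFiniteType (Curv2.bcSnd k X kb) :=
    inferInstanceAs (LocallyOfFiniteType (pullback.snd (X ↘ Spec (CommRingCat.of k)) _))
  haveI : LocallyOfFinitePresentation (Curv2.bcSnd k X kb) :=
    inferInstanceAs (LocallyOfFinitePresentation (pullback.snd (X ↘ Spec (CommRingCat.of k)) _))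
  haveI := LocallyOfFiniteType.isLocallyNoetherian (Curv2.bcSnd k X kb)
  haveI := flat_bcFst k X kb
  haveI : IsIntegralHom (Curv2.bcFst k X kb) := by
    haveI : IsIntegralHom (Spec.map (CommRingCat.ofHom (algebraMap k kb))) :=
      IsIntegralHom.SpecMap_iff.2 (algebraMap_isIntegral_iff.2 Algebra.IsAlgebraic.isIntegral)
    exact inferInstanceAs (IsIntegralHom (pullback.fst _ _))
  obtain ⟨xb, hxb, hxbx⟩ := Flat.generalizingMap (Curv2.bcFst k X kb) (hzb.symm ▸ hs)
  letI := Curv2.stalkAlgebra kb Xb zb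
  haveI := isReduced_of_ordDoublePt (K := kb) (A := Xb.presheaf.stalk zb) (ordPtBc_of_isNode k X c hc zb hzb)
  haveI : _root_.IsReduced (Xb.presheaf.stalk xb) := by
    letI := (Xb.presheaf.stalkSpecializes hxb).hom.toAlgebra
    haveI := Groth.Agent.S5090.isLocalization_stalkSpecializes hxb
    exact isReduced_localizationPreserves
      ((maximalIdeal (Xb.presheaf.stalk xb)).comap (Xb.presheaf.stalkSpecializes hxb).hom).primeCompl
      (Xb.presheaf.stalk xb) inferInstance
  haveI : Ring.KrullDimLE 0 (Xb.presheaf.stalk xb) := Ring.krullDimLE_iff.2 (ASp.ringKrullDim_stalk_eq_zero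
    fun v hv => NormalSch.eq_of_specializes_of_eq (Curv2.bcFst k X kb) hv
      ((maximal_of_not_closed hd hne _ (hxbx ▸ hv.map (Curv2.bcFst k X kb).continuous)).trans hxbx.symm)).le
  have hF : IsField (Xb.presheaf.stalk xb) := Ring.KrullDimLE.isField_of_isReduced
  obtain ⟨U, hU, hsm⟩ := (PointBC.smooth_nhd_iff (X ↘ Spec (CommRingCat.of k))
    (Spec.map (CommRingCat.ofHom (algebraMap k kb))) xb (Or.inr stalkMap_ofHom_flat)).1
    ((FlatLocus.exists_smooth_nhd_iff _ _).2 (formallySmooth_stalkMap_of_isField (Curv2.bcSnd k X kb) hF))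
  exact ⟨U, hxbx ▸ hU, hsm⟩

theorem geomReducedAt_of_isNode (hd : ∀ Z ∈ irreducibleComponents (X : Type u), topologicalKrullDim Z ≤ 1) {x : X}
    (hx : Curv2.IsNode k X x) : FBase.IsGeomReducedAt (X ↘ Spec (CommRingCat.of k)) x := by
  intro K _ _ w hw
  change Curv2.bc k X K at w
  change Curv2.bcFst k X K w = x at hw
  change _root_.IsReduced ((Curv2.bc k X K).presheaf.stalk w)
  letI : (Curv2.bc k X K).Over (Spec (CommRingCat.of K)) := ⟨Curv2.bcSnd k X K⟩
  haveI : LocallyOfFiniteType (Curv2.bc k X K ↘ Spec (CommRingCat.of K)) :=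
    inferInstanceAs (LocallyOfFiniteType (pullback.snd (X ↘ Spec (CommRingCat.of k)) _))
  subst hw
  have hn := (isNode_bc_iff k X hd K w).1 hx
  let Kb := AlgebraicClosure K
  let W := Curv2.bc K (Curv2.bc k X K) Kb
  obtain ⟨z, hz⟩ := surjective_bcFst K (Curv2.bc k X K) Kb w
  letI : W.Over (Spec (CommRingCat.of Kb)) := ⟨Curv2.bcSnd K (Curv2.bc k X K) Kb⟩
  haveI : LocallyOfFiniteType (W ↘ Spec (CommRingCat.of Kb)) :=
    inferInstanceAs (LocallyOfFiniteType (pullback.snd (Curv2.bc k X K ↘ Spec (CommRingCat.of K)) _))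
  haveI := LocallyOfFiniteType.isLocallyNoetherian (W ↘ Spec (CommRingCat.of Kb))
  letI := Curv2.stalkAlgebra Kb W z
  haveI := isReduced_of_ordDoublePt (K := Kb) (A := W.presheaf.stalk z) (ordPtBc_of_isNode K _ w hn z hz)
  haveI := flat_bcFst K (Curv2.bc k X K) Kb
  subst hz
  exact isReduced_of_injective ((Curv2.bcFst K (Curv2.bc k X K) Kb).stalkMap z).hom
    (ASp.injective_stalkMap_of_flat (Curv2.bcFst K (Curv2.bc k X K) Kb) z)

theorem exists_nzd_of_reduced [IsLocallyNoetherian X] (hX1 : NodalLib.Comps1 X) {x : X} (hx : IsClosed ({x} : Set X))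
    [_root_.IsReduced (X.presheaf.stalk x)] :
    ∃ t ∈ maximalIdeal (X.presheaf.stalk x), t ∈ nonZeroDivisors (X.presheaf.stalk x) := by
  classical
  have hnf : ¬ IsField (X.presheaf.stalk x) := fun hF => by
    have hmax : ∀ v : X, v ⤳ x → v = x := fun v hv =>
      ASp.eq_of_ringKrullDim_stalk_eq_zero (ringKrullDim_eq_zero_of_isField hF) hv
    have hcomp : ({x} : Set X) ∈ irreducibleComponents X := by
      have h := Groth.Agent.S4673.component_of_maximal hmax
      rwa [hx.closure_eq] at h
    have h1 := hX1 _ hcomp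
    haveI : Subsingleton ({x} : Set X) := Set.subsingleton_singleton.coe_sort
    have h0 : topologicalKrullDim ({x} : Set X) ≤ 0 := by
      haveI : Subsingleton (TopologicalSpace.IrreducibleCloseds ({x} : Set X)) := ⟨fun a b => by
        refine TopologicalSpace.IrreducibleCloseds.ext ?_
        obtain ⟨u, hu⟩ := a.2.1
        obtain ⟨v, hv⟩ := b.2.1
        ext c
        exact iff_of_true (Subsingleton.elim u c ▸ hu) (Subsingleton.elim v c ▸ hv)⟩
      exact Order.krullDim_nonpos_of_subsingleton
    rw [h1] at h0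
    exact absurd h0 (by decide)
  let A := X.presheaf.stalk x
  by_contra! hcon
  have hsub : (maximalIdeal A : Set A) ⊆ ⋃ p ∈ associatedPrimes A A, (p : Set A) := fun a ha => by
    rw [biUnion_associatedPrimes_eq_compl_nonZeroDivisors A]
    exact hcon a ha
  obtain ⟨p, hp, hle⟩ := (Ideal.subset_union_prime_finite (associatedPrimes.finite A A) (maximalIdeal A)
    (maximalIdeal A) (fun p hp _ _ => hp.isPrime)).1 hsub
  obtain ⟨hprime, c, hc⟩ := hp
  have hp' : p = maximalIdeal A := ((maximalIdeal.isMaximal A).eq_of_le hprime.ne_top hle).symm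
  have hkill : ∀ a ∈ maximalIdeal A, a * c = 0 := fun a ha => by
    rw [← hp', hc] at ha
    obtain ⟨n, hn⟩ := ha
    rw [Submodule.mem_colon_singleton, Submodule.mem_bot, smul_eq_mul] at hn
    exact eq_zero_of_pow_eq_zero (n := n + 1)
      (by rw [show (a * c) ^ (n + 1) = a * c ^ n * (a ^ n * c) by ring, hn, mul_zero])
  have hc0 : c ≠ 0 := fun h => hprime.ne_top (by
    rw [hc, h, Ideal.eq_top_iff_one]
    exact Ideal.le_radical (Submodule.mem_colon_singleton.2 (by simp)))
  by_cases hcm : c ∈ maximalIdeal A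
  · exact hc0 (eq_zero_of_pow_eq_zero (n := 2) (by rw [pow_two]; exact hkill c hcm))
  · refine hnf (isField_iff_maximalIdeal_eq.2 ((Submodule.eq_bot_iff _).2 fun a ha => ?_))
    obtain ⟨e, he⟩ := notMem_maximalIdeal.1 hcm
    have := hkill a ha
    rwa [← he, e.mul_left_eq_zero] at this

variable [QuasiSeparated (X ↘ Spec (CommRingCat.of k))]

theorem stalkIdeal_eq_top_of_notMem {I : X.IdealSheafData} {x : X} (hx : x ∉ I.support) :
    IntMult.stalkIdeal I x = ⊤ := by
  obtain ⟨U, hxU, hU⟩ := IdealStalkLib.exists_unit_nhd I hx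
  rw [IdealStalkLib.stalkIdeal_eq I U x hxU, hU, Ideal.map_top]

/-- The singular scheme is unramified at a node. -/
theorem unramAt_of_isNode (z : (jacSheaf (X ↘ Spec (CommRingCat.of k))).subscheme)
    (hx : Curv2.IsNode k X ((jacSheaf (X ↘ Spec (CommRingCat.of k))).subschemeι z)) :
    UnramAt ((jacSheaf (X ↘ Spec (CommRingCat.of k))).subschemeι ≫ (X ↘ Spec (CommRingCat.of k))) z := by
  let K := AlgebraicClosure k
  letI : (Curv2.bc k X K).Over (Spec (CommRingCat.of K)) := ⟨Curv2.bcSnd k X K⟩
  haveI : LocallyOfFiniteType (Curv2.bc k X K ↘ Spec (CommRingCat.of K)) :=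
    inferInstanceAs (LocallyOfFiniteType (pullback.snd (X ↘ Spec (CommRingCat.of k)) _))
  haveI : QuasiSeparated (Curv2.bc k X K ↘ Spec (CommRingCat.of K)) :=
    inferInstanceAs (QuasiSeparated (pullback.snd (X ↘ Spec (CommRingCat.of k)) _))
  obtain ⟨w, hw⟩ := surjective_bcFst k X K ((jacSheaf (X ↘ Spec (CommRingCat.of k))).subschemeι z)
  have hmem : pullback.fst (X ↘ Spec (CommRingCat.of k)) _ w ∈ (jacSheaf (X ↘ Spec (CommRingCat.of k))).support := by
    have h : Curv2.bcFst k X K w ∈ Set.range (jacSheaf (X ↘ Spec (CommRingCat.of k))).subschemeι := ⟨z, hw.symm⟩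
    rwa [Scheme.IdealSheafData.range_subschemeι] at h
  obtain ⟨z', hz'⟩ := exists_over (X ↘ Spec (CommRingCat.of k)) _ w hmem
  refine (unramAt_jac_bc _ _ w z z' hw.symm hz').1 ?_
  have hwc := NodalLib.closed_over hx.1 w hw
  rw [← hw] at hx
  exact (unramAt_iff (k := K) (X := Curv2.bc k X K) z' (by rw [show (jacSheaf (Curv2.bc k X K ↘ Spec (CommRingCat.of K))).subschemeι z' = w from hz']; exact hwc)).2
    (by
      rw [show (jacSheaf (Curv2.bc k X K ↘ Spec (CommRingCat.of K))).subschemeι z' = w from hz']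
      exact (jac_bc k X K w).trans (jac_map_of_isNode hx))

/-- A point with geometrically reduced local ring at which the singular scheme is unramified. -/
theorem smooth_or_node_of_unramAt (hX1 : NodalLib.Comps1 X) {x : X} (hx : IsClosed ({x} : Set X))
    (hred : FBase.IsGeomReducedAt (X ↘ Spec (CommRingCat.of k)) x)
    (hu : ∀ z, (jacSheaf (X ↘ Spec (CommRingCat.of k))).subschemeι z = x →
      UnramAt ((jacSheaf (X ↘ Spec (CommRingCat.of k))).subschemeι ≫ (X ↘ Spec (CommRingCat.of k))) z) :
    (∃ U : X.Opens, x ∈ U ∧ Smooth (U.ι ≫ (X ↘ Spec (CommRingCat.of k)))) ∨ Curv2.IsNode k X x := by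
  classical
  let K := AlgebraicClosure k
  letI : (Curv2.bc k X K).Over (Spec (CommRingCat.of K)) := ⟨Curv2.bcSnd k X K⟩
  haveI : LocallyOfFiniteType (Curv2.bc k X K ↘ Spec (CommRingCat.of K)) :=
    inferInstanceAs (LocallyOfFiniteType (pullback.snd (X ↘ Spec (CommRingCat.of k)) _))
  haveI : QuasiSeparated (Curv2.bc k X K ↘ Spec (CommRingCat.of K)) :=
    inferInstanceAs (QuasiSeparated (pullback.snd (X ↘ Spec (CommRingCat.of k)) _))
  obtain ⟨w, rfl⟩ := surjective_bcFst k X K x
  haveI : _root_.IsReduced ((Curv2.bc k X K).presheaf.stalk w) := hred K w rfl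
  haveI := flat_bcFst k X K
  haveI : _root_.IsReduced (X.presheaf.stalk (Curv2.bcFst k X K w)) :=
    isReduced_of_injective ((Curv2.bcFst k X K).stalkMap w).hom
      (ASp.injective_stalkMap_of_flat (Curv2.bcFst k X K) w)
  haveI := LocallyOfFiniteType.isLocallyNoetherian (X ↘ Spec (CommRingCat.of k))
  obtain ⟨t, ht, htd⟩ := exists_nzd_of_reduced hX1 hx
  by_cases htop : jac k X (Curv2.bcFst k X K w) = ⊤
  · exact Or.inl (smooth_of_jac_top hx htop ht htd)
  · have hmem : Curv2.bcFst k X K w ∈ (jacSheaf (X ↘ Spec (CommRingCat.of k))).support := by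
      by_contra hcon
      exact htop ((stalkIdeal_jacSheaf (k := k) _).symm.trans (stalkIdeal_eq_top_of_notMem hcon))
    obtain ⟨z', hz'⟩ := exists_over (X ↘ Spec (CommRingCat.of k)) _ w hmem
    obtain ⟨z, hz⟩ : ∃ z, (jacSheaf (X ↘ Spec (CommRingCat.of k))).subschemeι z = Curv2.bcFst k X K w := by
      have h := hmem
      rw [← SetLike.mem_coe, ← Scheme.IdealSheafData.range_subschemeι] at h
      exact h
    have hun := (unramAt_jac_bc _ _ w z z' hz hz').2 (hu z hz)
    have hz'w : (jacSheaf (Curv2.bc k X K ↘ Spec (CommRingCat.of K))).subschemeι z' = w := hz'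
    have hjac := (unramAt_iff (k := K) (X := Curv2.bc k X K) z'
      (by rw [hz'w]; exact NodalLib.closed_over hx w rfl)).1 hun
    rw [hz'w] at hjac
    exact Or.inr (isNode_of_jac hx ((jac_bc k X K w).symm.trans hjac) ht htd)

end Field

section Family

variable {X S : Scheme.{u}}

/-- A smooth point or a node of its fibre. -/
def GoodPt (f : X ⟶ S) (x : X) : Prop :=
  (∃ U : X.Opens, x ∈ U ∧ Smooth (U.ι ≫ f)) ∨
    @Curv2.IsNode (S.residueField (f.base x)) _ (f.fiber (f.base x)) ⟨f.fiberToSpecResidueField (f.base x)⟩ (f.asFiber x)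

theorem smooth_fibre_iff (f : X ⟶ S) [Flat f] [LocallyOfFinitePresentation f] (s : S) (z : f.fiber s) :
    (∃ U : X.Opens, f.fiberι s z ∈ U ∧ Smooth (U.ι ≫ f)) ↔
      ∃ U : (f.fiber s).Opens, z ∈ U ∧ Smooth (U.ι ≫ f.fiberToSpecResidueField s) := by
  haveI : LocallyOfFinitePresentation (f.fiberToSpecResidueField s) :=
    MorphismProperty.pullback_snd _ _ inferInstance
  rw [FlatLocus.exists_smooth_nhd_iff, FlatLocus.exists_smooth_nhd_iff, FlatLocus.mem_smoothLocus_iff_fibre]
  exact and_iff_right (Flat.stalkMap f _)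

theorem isOpen_goodPt_qs (f : X ⟶ S) [Flat f] [LocallyOfFinitePresentation f] [QuasiSeparated f]
    (hfib : ∀ s : S, NodalLib.Comps1 (f.fiber s)) : IsOpen {x : X | GoodPt f x} := by
  classical
  haveI : ∀ s : S, QuasiSeparated (f.fiberToSpecResidueField s) := fun s =>
    inferInstanceAs (QuasiSeparated (pullback.snd f _))
  let Z := jacSheaf f
  let B : Set Z.subscheme := {z | ¬ UnramAt (Z.subschemeι ≫ f) z}
  have hB : IsClosed B := by
    rw [← isOpen_compl_iff, isOpen_iff_forall_mem_open]
    intro z hz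
    obtain ⟨U, hU, hun⟩ := not_not.1 hz
    exact ⟨U, fun z' hz' h => h ⟨U, hz', hun⟩, U.2, hU⟩
  let W : Set X := (Z.subschemeι '' B)ᶜ ∩ {x : X | FBase.IsGeomReducedAt (f.fiberToSpecResidueField (f.base x)) (f.asFiber x)}
  have hW : IsOpen W := (Z.subschemeι.isClosedEmbedding.isClosedMap _ hB).isOpen_compl.inter (Groth.Agent.S2549.result f)
  suffices h : {x : X | GoodPt f x} = (f.smoothLocus : Set X) ∪ W by
    rw [h]; exact f.smoothLocus.2.union hW
  -- fibres
  have hov : ∀ (s : S) (w : f.fiber s) (z : Z.subscheme), Z.subschemeι z = f.fiberι s w →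
      ∃ z' : (jacSheaf (f.fiberToSpecResidueField s)).subscheme,
        (jacSheaf (f.fiberToSpecResidueField s)).subschemeι z' = w ∧
          (UnramAt ((jacSheaf (f.fiberToSpecResidueField s)).subschemeι ≫ f.fiberToSpecResidueField s) z' ↔
            UnramAt (Z.subschemeι ≫ f) z) := by
    intro s w z hz
    have hmem : pullback.fst f (S.fromSpecResidueField s) w ∈ Z.support := by
      have h : f.fiberι s w ∈ Set.range Z.subschemeι := ⟨z, hz⟩
      rwa [Scheme.IdealSheafData.range_subschemeι] at h
    obtain ⟨z', hz'⟩ := exists_over f (S.fromSpecResidueField s) w hmem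
    exact ⟨z', hz', unramAt_jac_bc f (S.fromSpecResidueField s) w z z' hz hz'⟩
  refine Set.Subset.antisymm (fun x hx => ?_) (fun x hx => ?_)
  · rcases hx with hs | hn
    · exact Or.inl ((FlatLocus.exists_smooth_nhd_iff f x).1 hs)
    · let F := f.fiber (f.base x)
      letI : F.Over (Spec (CommRingCat.of (S.residueField (f.base x)))) := ⟨f.fiberToSpecResidueField (f.base x)⟩
      haveI : LocallyOfFiniteType (F ↘ Spec (CommRingCat.of (S.residueField (f.base x)))) :=
        inferInstanceAs (LocallyOfFiniteType (pullback.snd f _))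
      haveI : QuasiSeparated (F ↘ Spec (CommRingCat.of (S.residueField (f.base x)))) :=
        inferInstanceAs (QuasiSeparated (pullback.snd f _))
      refine Or.inr ⟨?_, geomReducedAt_of_isNode (k := S.residueField (f.base x)) (fun Z' hZ' => ((hfib _) Z' hZ').le) hn⟩
      rintro ⟨z, hz, hzx⟩
      obtain ⟨z', hz', hiff⟩ := hov (f.base x) (f.asFiber x) z (by rw [hzx, f.fiberι_asFiber])
      refine hz (hiff.1 (unramAt_of_isNode (k := S.residueField (f.base x)) (X := F) z' ?_))
      exact hz'.symm ▸ hn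
  · rcases hx with hs | hxW
    · exact Or.inl ((FlatLocus.exists_smooth_nhd_iff f x).2 hs)
    · let s := f.base x
      let F := f.fiber s
      letI : F.Over (Spec (CommRingCat.of (S.residueField s))) := ⟨f.fiberToSpecResidueField s⟩
      haveI : LocallyOfFiniteType (F ↘ Spec (CommRingCat.of (S.residueField s))) :=
        inferInstanceAs (LocallyOfFiniteType (pullback.snd f _))
      haveI : QuasiSeparated (F ↘ Spec (CommRingCat.of (S.residueField s))) :=
        inferInstanceAs (QuasiSeparated (pullback.snd f _))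
      have key : ∀ c : F, IsClosed ({c} : Set F) → f.fiberι s c ∈ W →
          (∃ U : F.Opens, c ∈ U ∧ Smooth (U.ι ≫ (F ↘ Spec (CommRingCat.of (S.residueField s))))) ∨
            Curv2.IsNode (S.residueField s) F c := by
        intro c hc hcW
        refine smooth_or_node_of_unramAt (hfib s) hc ?_ fun z' hz' => ?_
        · have h := hcW.2
          have hsc : f.base (f.fiberι s c) = s := by
            have : f.fiberι s c ∈ f ⁻¹' {s} := by rw [← f.range_fiberι s]; exact ⟨c, rfl⟩
            exact this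
          have gen : ∀ (s' : S) (_ : s' = s) (c' : f.fiber s'), f.fiberι s' c' = f.fiberι s c →
              FBase.IsGeomReducedAt (f.fiberToSpecResidueField s') c' →
              FBase.IsGeomReducedAt (f.fiberToSpecResidueField s) c := by
            intro s' e c' hc' hgr
            subst e
            obtain rfl := (f.fiberι _).isEmbedding.injective hc'
            exact hgr
          exact gen _ hsc _ (f.fiberι_asFiber _) h
        · obtain ⟨z, hz⟩ : ∃ z, Z.subschemeι z = f.fiberι s c := by
            have h : f.fiberι s c ∈ Set.range Z.subschemeι := by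
              rw [Scheme.IdealSheafData.range_subschemeι]
              have h' : c ∈ Set.range (jacSheaf (f.fiberToSpecResidueField s)).subschemeι := ⟨z', hz'⟩
              rw [Scheme.IdealSheafData.range_subschemeι] at h'
              exact (show (jacSheaf (pullback.snd f (S.fromSpecResidueField s))).support ≤
                (Z.support.preimage (pullback.fst f (S.fromSpecResidueField s)).continuous) by
                  rw [jacSheaf_comap, Scheme.IdealSheafData.support_comap]) h'
            exact h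
          obtain ⟨z'', hz'', hiff⟩ := hov s c z hz
          rw [(jacSheaf (F ↘ Spec (CommRingCat.of (S.residueField s)))).subschemeι.isEmbedding.injective
            (hz'.trans hz''.symm)]
          exact hiff.2 (by
            by_contra hun
            exact hcW.1 ⟨z, hun, hz⟩)
      haveI : JacobsonSpace F := LocallyOfFiniteType.jacobsonSpace (F ↘ Spec (CommRingCat.of (S.residueField s)))
      let x' : F := f.asFiber x
      have hx' : f.fiberι s x' = x := f.fiberι_asFiber x
      obtain ⟨c, ⟨hc1, hc2⟩, hcc⟩ := nonempty_inter_closedPoints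
        (Z := closure ({x'} : Set F) ∩ f.fiberι s ⁻¹' W) ⟨x', subset_closure rfl, by rw [Set.mem_preimage, hx']; exact hxW⟩
        (isClosed_closure.isLocallyClosed.inter (hW.preimage (f.fiberι s).continuous).isLocallyClosed)
      have hsp : x' ⤳ c := specializes_iff_mem_closure.2 hc1
      rcases key c hcc hc2 with ⟨U, hU, hs⟩ | hn
      · refine Or.inl ?_
        have h := (smooth_fibre_iff f s x').2 ⟨U, hsp.mem_open U.2 hU, hs⟩
        rwa [hx'] at h
      · by_cases hx'c : IsClosed ({x'} : Set F)
        · rw [hsp.mem_closed hx'c rfl] at hn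
          exact Or.inr hn
        · refine Or.inl ?_
          have h := (smooth_fibre_iff f s x').2
            (smooth_nhd_of_specializes_node (k := S.residueField s) (fun Z' hZ' => ((hfib s) Z' hZ').le) hsp hx'c hn)
          rwa [hx'] at h

theorem goodPt_restrict_iff (π : X ⟶ S) [LocallyOfFinitePresentation π] (U : X.Opens) (u : U) :
    GoodPt (U.ι ≫ π) u ↔ GoodPt π (U.ι u) := by
  unfold GoodPt
  refine or_congr ?_ ?_
  · rw [FlatLocus.exists_smooth_nhd_iff, FlatLocus.exists_smooth_nhd_iff]
    show u ∈ (U.ι ≫ π).smoothLocus ↔ U.ι u ∈ π.smoothLocus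
    rw [← Scheme.Hom.preimage_smoothLocus_eq]
    rfl
  · let s := π.base (U.ι u)
    letI : (π.fiber s).Over (Spec (CommRingCat.of (S.residueField s))) := ⟨π.fiberToSpecResidueField s⟩
    letI : ((U.ι ≫ π).fiber s).Over (Spec (CommRingCat.of (S.residueField s))) :=
      ⟨(U.ι ≫ π).fiberToSpecResidueField s⟩
    haveI : LocallyOfFiniteType (π.fiber s ↘ Spec (CommRingCat.of (S.residueField s))) :=
      inferInstanceAs (LocallyOfFiniteType (pullback.snd π _))
    have hm : NodalLib.fibreMap π U.ι s ((U.ι ≫ π).asFiber u) = π.asFiber (U.ι u) := by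
      refine (π.fiberι s).isEmbedding.injective ?_
      rw [← Scheme.Hom.comp_apply, NodalLib.fibreMap_ι, Scheme.Hom.comp_apply]
      exact (congrArg U.ι ((U.ι ≫ π).fiberι_asFiber u)).trans (π.fiberι_asFiber (U.ι u)).symm
    have h := NodalLib.isNode_iff_etale (k := S.residueField s) (X := π.fiber s) (Y := (U.ι ≫ π).fiber s)
      (NodalLib.fibreMap π U.ι s) (NodalLib.fibreMap_snd π U.ι s) ((U.ι ≫ π).asFiber u)
    rw [hm] at h
    exact h.symm

/-- The smooth points and nodes of the fibres form an open set. -/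
theorem isOpen_goodPt (π : X ⟶ S) [Flat π] [LocallyOfFinitePresentation π]
    (hfib : ∀ s : S, NodalLib.Comps1 (π.fiber s)) : IsOpen {x : X | GoodPt π x} := by
  rw [isOpen_iff_forall_mem_open]
  intro x hx
  obtain ⟨U, hU, hxU, -⟩ := exists_isAffineOpen_mem_and_subset (X := X) (x := x) (U := ⊤) trivial
  haveI : IsAffine U.toScheme := hU
  haveI : QuasiSeparated (U.ι ≫ π) := inferInstance
  have hopen := isOpen_goodPt_qs (U.ι ≫ π) fun s => by
    haveI : LocallyOfFiniteType (π.fiberToSpecResidueField s) := inferInstance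
    exact NodalLib.comps1_of_etale (π.fiberToSpecResidueField s) (NodalLib.fibreMap π U.ι s) (hfib s)
  refine ⟨U.ι '' {u | GoodPt (U.ι ≫ π) u}, ?_, U.ι.isOpenEmbedding.isOpenMap _ hopen,
    ⟨⟨x, hxU⟩, (goodPt_restrict_iff π U _).2 hx, rfl⟩⟩
  rintro _ ⟨u, hu, rfl⟩
  exact (goodPt_restrict_iff π U u).1 hu

end Family

end Groth.Agent.NodePtLib
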