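import Groth.Agent.NodePtLib.Quad
import Mathlib.RingTheory.Flat.EquationalCriterion

/-!
# Quadratic points and ordinary double points under flat extensions
-/

set_option autoImplicit false
set_option backward.isDefEq.respectTransparency false
set_option linter.unusedSectionVars false
set_option linter.style.haveILetI false

universe u

open IsLocalRing
open scoped Pointwise

noncomputable section

namespace Groth.Agent.NodePtLib

variable {K : Type u} [Field K] [IsAlgClosed K]
variable {A B : Type u} [CommRing A] [IsLocalRing A] [IsNoetherianRing A] [CommRing B] [IsLocalRing B]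
  [IsNoetherianRing B] [Algebra K B] [Algebra A B] [Module.Flat A B] [IsLocalHom (algebraMap A B)]

local notation "φ" => algebraMap A B
local notation "mA" => maximalIdeal A
local notation "mB" => maximalIdeal B

theorem exists_eq_of_span_pair_eq_singleton {C : Type u} [CommRing C] [IsLocalRing C] {p q w : C}
    (hw : w ∈ maximalIdeal C) (h : Ideal.span {p, q} = Ideal.span {w}) :
    Ideal.span {w} = Ideal.span {p} ∨ Ideal.span {w} = Ideal.span {q} := by
  obtain ⟨r, s, hrs⟩ := Ideal.mem_span_pair.1 (h.ge (Ideal.mem_span_singleton_self w))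
  obtain ⟨r', hr⟩ := Ideal.mem_span_singleton'.1 (h.le (Ideal.subset_span (Set.mem_insert p {q})))
  obtain ⟨s', hs⟩ := Ideal.mem_span_singleton'.1 (h.le (Ideal.subset_span (Set.mem_insert_of_mem p rfl)))
  by_cases hu : IsUnit r'
  · obtain ⟨e, rfl⟩ := hu
    exact Or.inl (by rw [← hr, Ideal.span_singleton_mul_left_unit e.isUnit])
  by_cases hu' : IsUnit s'
  · obtain ⟨e, rfl⟩ := hu'
    exact Or.inr (by rw [← hs, Ideal.span_singleton_mul_left_unit e.isUnit])
  obtain ⟨e, he⟩ := notMem_maximalIdeal.1 (fun hm : 1 - (r * r' + s * s') ∈ maximalIdeal C =>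
    (mem_maximalIdeal _).1 (by
      rw [show (1 : C) = 1 - (r * r' + s * s') + (r * r' + s * s') by ring]
      exact add_mem hm (add_mem (Ideal.mul_mem_left _ _ ((mem_maximalIdeal _).2 hu))
        (Ideal.mul_mem_left _ _ ((mem_maximalIdeal _).2 hu')))) isUnit_one)
  have h0 : (e : C) * w = 0 := by
    rw [he]
    linear_combination -hrs + r * hr.symm + s * hs.symm
  rw [e.mul_right_eq_zero] at h0
  refine Or.inl ?_
  rw [← hr, h0, mul_zero]

variable (A B) in
theorem comap_map_eq (I : Ideal A) : (I.map φ).comap φ = I := by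
  haveI : Module.FaithfullyFlat A B := Module.FaithfullyFlat.of_flat_of_isLocalHom
  exact Ideal.comap_map_eq_self_of_faithfullyFlat I

theorem not_principal_map (hm : (mA).map φ = mB) {x y : A} (hxy : mA = Ideal.span {x, y})
    (hnp : ∀ z, mA ≠ Ideal.span {z}) (w : B) : mB ≠ Ideal.span {w} := fun h => by
  have h2 : Ideal.span {φ x, φ y} = Ideal.span {w} := by
    rw [← h, ← hm, hxy, Ideal.map_span, Set.image_pair]
  have key : ∀ z, mB = Ideal.span {φ z} → False := fun z hz => hnp z (by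
    have hz' : mB = (Ideal.span {z}).map φ := by rw [Ideal.map_span, Set.image_singleton, hz]
    rw [← comap_map_eq A B (Ideal.span {z}), ← hz', ← hm, comap_map_eq A B])
  rcases exists_eq_of_span_pair_eq_singleton (h.ge (Ideal.mem_span_singleton_self w)) h2 with e | e
  · exact key x (h.trans e)
  · exact key y (h.trans e)

/-- A quadratic point becomes an ordinary double point. -/
theorem isOrdDoublePt_of_quadPt [_root_.IsReduced A] (hB : Rational K B) (hm : (mA).map φ = mB) (hq : QuadPt A) :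
    Curv2.IsOrdDoublePt K B := by
  obtain ⟨x, y, a, b, c, hxy, hnp, hΔ, hqm⟩ := hq
  obtain ⟨α, hα⟩ := hB (φ a)
  obtain ⟨β, hβ⟩ := hB (φ b)
  obtain ⟨γ, hγ⟩ := hB (φ c)
  have hd : 4 * α * γ - β ^ 2 ≠ 0 := fun h => by
    have hu : IsUnit (φ (4 * a * c - b ^ 2)) := by
      refine IsUnit.map φ (notMem_maximalIdeal.1 fun hh => hΔ ((residue_eq_zero_iff _).2 hh))
    refine (mem_maximalIdeal _).1 ?_ hu
    rw [← Ideal.Quotient.eq_zero_iff_mem]
    rw [← Ideal.Quotient.eq] at hα hβ hγ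
    simp only [map_sub, map_mul, map_pow, map_ofNat, hα, hβ, hγ]
    have h' := congrArg (fun t => Ideal.Quotient.mk mB (algebraMap K B t)) h
    simpa only [map_sub, map_mul, map_pow, map_ofNat, map_zero] using h'
  obtain ⟨p₁, p₂, s₁, s₂, ha, hb, hc, hdet⟩ := exists_factor α β γ hd
  let u := algebraMap K B p₁ * φ x + algebraMap K B p₂ * φ y
  let v := algebraMap K B s₁ * φ x + algebraMap K B s₂ * φ y
  have hspan : mB = Ideal.span {φ x, φ y} := by rw [← hm, hxy, Ideal.map_span, Set.image_pair]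
  have hxm : φ x ∈ mB := hspan.ge (Ideal.subset_span (Set.mem_insert _ _))
  have hym : φ y ∈ mB := hspan.ge (Ideal.subset_span (Set.mem_insert_of_mem _ rfl))
  have hg : Gens u v := by
    refine ⟨le_antisymm ?_ ?_, ?_⟩
    · rw [hspan, Ideal.span_le]
      have he : algebraMap K B (p₁ * s₂ - p₂ * s₁)⁻¹ * (algebraMap K B p₁ * algebraMap K B s₂ -
          algebraMap K B p₂ * algebraMap K B s₁) = 1 := by
        rw [← map_mul, ← map_mul, ← map_sub, ← map_mul, inv_mul_cancel₀ hdet, map_one]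
      rintro z (rfl | rfl) <;> refine Ideal.mem_span_pair.2 ?_
      · exact ⟨algebraMap K B (p₁ * s₂ - p₂ * s₁)⁻¹ * algebraMap K B s₂,
          -(algebraMap K B (p₁ * s₂ - p₂ * s₁)⁻¹ * algebraMap K B p₂), by
            simp only [u, v]; linear_combination (φ x) * he⟩
      · exact ⟨-(algebraMap K B (p₁ * s₂ - p₂ * s₁)⁻¹ * algebraMap K B s₁),
          algebraMap K B (p₁ * s₂ - p₂ * s₁)⁻¹ * algebraMap K B p₁, by
            simp only [u, v]; linear_combination (φ y) * he⟩
    · rw [Ideal.span_le]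
      rintro z (rfl | rfl) <;> exact add_mem (Ideal.mul_mem_left _ _ hxm) (Ideal.mul_mem_left _ _ hym)
    · have e : u * v = qv (algebraMap K B α) (algebraMap K B β) (algebraMap K B γ) (φ x) (φ y) := by
        simp only [u, v, qv, ha, hb, hc, map_add, map_mul]; ring
      rw [e]
      have h1 := qv_sub_mem hα hβ hγ (x := φ x) (x' := φ x) (y := φ y) (y' := φ y) (by simp) (by simp) hxm hym hxm hym
      have h2 : φ (qv a b c x y) ∈ mB ^ 3 := by
        rw [← hm, ← Ideal.map_pow]; exact Ideal.mem_map_of_mem _ hqm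
      rw [map_qv] at h2
      simpa using sub_mem h2 h1
  obtain ⟨t, ht, htd⟩ := exists_nzd_of_reduced_local hnp
  exact (isOrdDoublePt_iff K B hB).2 ⟨nodeDim_of_gens hB hg (t := φ t) (hm ▸ Ideal.mem_map_of_mem _ ht)
    (nzd_of_flat htd) (not_principal_map hm hxy hnp), u, v, hg⟩

/-- Two generators downstairs. -/
theorem exists_two_gens_down (hm : (mA).map φ = mB) {u v : B} (hg : Gens u v) (hnp : ∀ w, mB ≠ Ideal.span {w}) :
    ∃ x y : A, mA = Ideal.span {x, y} := by
  have pick : ∀ p q : B, mB = Ideal.span {p, q} → ∃ x : A, mB = Ideal.span {φ x, q} := by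
    intro p q hpq
    obtain ⟨x, hx, hx'⟩ : ∃ x ∈ mA, φ x ∉ Ideal.span {q} ⊔ mB * mB := by
      by_contra! hcon
      refine hnp q (span_eq_of_le_sup ?_ ?_)
      · rw [Ideal.span_singleton_le_iff_mem, hpq]; exact Ideal.subset_span (Set.mem_insert_of_mem _ rfl)
      · conv_lhs => rw [← hm]
        rw [Ideal.map_le_iff_le_comap]
        exact hcon
    have hxm : φ x ∈ mB := hm ▸ Ideal.mem_map_of_mem _ hx
    obtain ⟨r, s, hrs⟩ := Ideal.mem_span_pair.1 (hpq ▸ hxm)
    have hr : IsUnit r := notMem_maximalIdeal.1 fun hr => hx' (by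
      rw [← hrs, add_comm]
      exact Submodule.add_mem_sup (Ideal.mul_mem_left _ _ (Ideal.mem_span_singleton_self q))
        (Ideal.mul_mem_mul hr (hpq.ge (Ideal.subset_span (Set.mem_insert _ _)))))
    obtain ⟨e, rfl⟩ := hr
    refine ⟨x, le_antisymm ?_ (Ideal.span_le.2 ?_)⟩
    · rw [hpq, Ideal.span_le]
      rintro z (rfl | rfl)
      · exact Ideal.mem_span_pair.2 ⟨↑e⁻¹, -(↑e⁻¹ * s), by linear_combination (↑e⁻¹ : B) * hrs.symm + z * e.inv_mul⟩
      · exact Ideal.subset_span (Set.mem_insert_of_mem _ rfl)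
    · rintro z (rfl | rfl)
      exacts [hxm, hpq.ge (Ideal.subset_span (Set.mem_insert_of_mem _ rfl))]
  obtain ⟨x, hx⟩ := pick u v hg.1
  obtain ⟨y, hy⟩ := pick v (φ x) (by rw [hx, Set.pair_comm])
  refine ⟨x, y, ?_⟩
  rw [← comap_map_eq A B mA, hm, hy, Set.pair_comm, ← Set.image_pair, ← Ideal.map_span, comap_map_eq A B]

/-- An ordinary double point comes from a quadratic point. -/
theorem quadPt_of_isOrdDoublePt (hB : Rational K B) (hm : (mA).map φ = mB) (hord : Curv2.IsOrdDoublePt K B)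
    (hnp : ∀ w, mB ≠ Ideal.span {w}) : _root_.IsReduced A ∧ QuadPt A := by
  classical
  haveI := isReduced_of_ordDoublePt (K := K) (A := B) hord
  haveI : Module.FaithfullyFlat A B := Module.FaithfullyFlat.of_flat_of_isLocalHom
  refine ⟨isReduced_of_injective φ (FaithfulSMul.algebraMap_injective A B), ?_⟩
  obtain ⟨-, u, v, hg⟩ := (isOrdDoublePt_iff K B hB).1 hord
  obtain ⟨t, ht, htd⟩ := exists_nzd_of_reduced_local hnp
  obtain ⟨x, y, hxy⟩ := exists_two_gens_down hm hg hnp
  have hnpA : ∀ z, mA ≠ Ideal.span {z} := fun z hz => hnp (φ z) (by rw [← hm, hz, Ideal.map_span, Set.image_singleton])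
  have hspan : mB = Ideal.span {φ x, φ y} := by rw [← hm, hxy, Ideal.map_span, Set.image_pair]
  have hxm : x ∈ mA := hxy.ge (Ideal.subset_span (Set.mem_insert _ _))
  have hym : y ∈ mA := hxy.ge (Ideal.subset_span (Set.mem_insert_of_mem _ rfl))
  obtain ⟨p, q, hpq⟩ := Ideal.mem_span_pair.1 (hg.1 ▸ (hspan.ge (Ideal.subset_span (Set.mem_insert (φ x) {φ y}))) : φ x ∈ Ideal.span {u, v})
  obtain ⟨s, t', hst⟩ := Ideal.mem_span_pair.1 (hg.1 ▸ (hspan.ge (Ideal.subset_span (Set.mem_insert_of_mem (φ x) rfl))) : φ y ∈ Ideal.span {u, v})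
  obtain ⟨α, β, hαβ⟩ := Ideal.mem_span_pair.1 (hspan ▸ hg.mem_left : u ∈ Ideal.span {φ x, φ y})
  obtain ⟨γ, δ, hγδ⟩ := Ideal.mem_span_pair.1 (hspan ▸ hg.mem_right : v ∈ Ideal.span {φ x, φ y})
  let π := residue B
  have hzero : ∀ w : B, w ∈ mB → π w = 0 := fun w hw => (residue_eq_zero_iff w).2 hw
  have hind : ∀ r₁ r₂ : B, r₁ * u + r₂ * v ∈ mB ^ 2 → π r₁ = 0 ∧ π r₂ = 0 := by
    intro r₁ r₂ h
    obtain ⟨c₁, h₁⟩ := hB r₁
    obtain ⟨c₂, h₂⟩ := hB r₂
    have hc := cotangent_ind (K := K) ht htd hnp hg.1 c₁ c₂ (by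
      rw [show algebraMap K B c₁ * u + algebraMap K B c₂ * v = r₁ * u + r₂ * v - ((r₁ - algebraMap K B c₁) * u +
        (r₂ - algebraMap K B c₂) * v) by ring]
      refine sub_mem h ?_
      rw [pow_two]
      exact add_mem (Ideal.mul_mem_mul h₁ hg.mem_left) (Ideal.mul_mem_mul h₂ hg.mem_right))
    rw [hc.1, map_zero, sub_zero] at h₁
    rw [hc.2, map_zero, sub_zero] at h₂
    exact ⟨hzero _ h₁, hzero _ h₂⟩
  obtain ⟨i11, i12⟩ := hind (α * p + β * s - 1) (α * q + β * t') (by
    rw [show (α * p + β * s - 1) * u + (α * q + β * t') * v = α * (p * u + q * v) + β * (s * u + t' * v) - u by ring,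
      hpq, hst, hαβ, sub_self]
    exact Ideal.zero_mem _)
  obtain ⟨i21, i22⟩ := hind (γ * p + δ * s) (γ * q + δ * t' - 1) (by
    rw [show (γ * p + δ * s) * u + (γ * q + δ * t' - 1) * v = γ * (p * u + q * v) + δ * (s * u + t' * v) - v by ring,
      hpq, hst, hγδ, sub_self]
    exact Ideal.zero_mem _)
  simp only [map_add, map_sub, map_mul, map_one, sub_eq_zero] at i11 i12 i21 i22
  have hdet : (π α * π δ - π β * π γ) * (π p * π t' - π q * π s) = 1 := by
    linear_combination (π γ * π q + π δ * π t') * i11 + i22 - (π γ * π p + π δ * π s) * i12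
  -- a relation
  obtain ⟨a, b, c, hne, hq⟩ : ∃ a b c : A, ¬ (a ∈ mA ∧ b ∈ mA ∧ c ∈ mA) ∧ qv a b c x y ∈ mA ^ 3 := by
    by_contra! hcon
    let M : Fin 3 → A := ![x * x, x * y, y * y]
    let r : Fin 3 → B := ![α * γ, α * δ + β * γ, β * δ]
    have hr : ∑ i, φ (M i) * r i ∈ mB ^ 3 := by
      have e : ∑ i, φ (M i) * r i = u * v := by
        rw [← hαβ, ← hγδ, Fin.sum_univ_three]; simp [M, r]; ring
      rw [e]; exact hg.2
    have hle : mB ^ 3 ≤ mB * Ideal.span (Set.range fun i => φ (M i)) := by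
      rw [pow_succ' _ 2, pow_two]
      refine Ideal.mul_mono_right ?_
      rw [hspan, Ideal.span_mul_span', Ideal.span_le]
      rintro _ ⟨_, rfl | rfl, _, rfl | rfl, rfl⟩
      · exact Ideal.subset_span ⟨0, by simp [M]⟩
      · exact Ideal.subset_span ⟨1, by simp [M]⟩
      · exact Ideal.subset_span ⟨1, by simp [M, mul_comm]⟩
      · exact Ideal.subset_span ⟨2, by simp [M]⟩
    obtain ⟨e, he, hesum⟩ : ∃ e : Fin 3 → B, (∀ i, e i ∈ mB) ∧ ∑ i, e i * φ (M i) = ∑ i, φ (M i) * r i := by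
      have h := hle hr
      rw [← smul_eq_mul, ← Ideal.submodule_span_eq, Submodule.mem_ideal_smul_span_iff_exists_sum] at h
      obtain ⟨e, he, hsum⟩ := h
      refine ⟨fun i => e i, he, ?_⟩
      rw [← hsum, Finsupp.sum_fintype _ _ (fun i => by simp)]
      simp
    letI : Module A B := Algebra.toModule
    have hrel : ∑ i, M i • (r i - e i) = 0 := by
      simp only [Algebra.smul_def, mul_sub, Finset.sum_sub_distrib]
      rw [sub_eq_zero, ← hesum]
      exact Finset.sum_congr rfl fun i _ => mul_comm _ _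
    obtain ⟨n, a, z, haz, hMa⟩ := Module.Flat.isTrivialRelation_of_sum_smul_eq_zero hrel
    have hmem : ∀ i, π (r i) = 0 := fun i => by
      have h1 : r i - e i ∈ mB := by
        rw [show r i - e i = _ from haz i]
        refine Ideal.sum_mem _ fun j _ => ?_
        rw [Algebra.smul_def]
        refine Ideal.mul_mem_right _ _ (hm ▸ Ideal.mem_map_of_mem _ ?_)
        have h2 := hMa j
        rw [Fin.sum_univ_three] at h2
        have h3 := hcon (a 0 j) (a 1 j) (a 2 j)
        by_contra hcon2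
        refine h3 ?_ ?_
        · intro h0 h1 h2'
          fin_cases i
          exacts [hcon2 h0, hcon2 h1, hcon2 h2']
        · have e0 : qv (a 0 j) (a 1 j) (a 2 j) x y = 0 := by
            rw [← h2]; simp [qv, M]; ring
          rw [e0]; exact Ideal.zero_mem _
      refine hzero _ ?_
      rw [show r i = r i - e i + e i by ring]
      exact add_mem h1 (he i)
    have r0 := hmem 0
    have r1 := hmem 1
    have r2 := hmem 2
    simp [r] at r0 r1 r2
    have : ((π α * π δ - π β * π γ) * (π p * π t' - π q * π s)) ^ 2 = 0 := by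
      have hsq : (π α * π δ - π β * π γ) ^ 2 = 0 := by
        rw [show (π α * π δ - π β * π γ) ^ 2 = (π α * π δ + π β * π γ) ^ 2 - 4 * (π α * π γ) * (π β * π δ) by ring,
          r1]
        rcases r0 with h | h <;> rw [h] <;> ring
      rw [mul_pow, hsq, zero_mul]
    rw [hdet] at this
    simp at this
  refine ⟨x, y, a, b, c, hxy, hnpA, fun hΔ => hne ?_, hq⟩
  let A' := φ a * p ^ 2 + φ b * (p * s) + φ c * s ^ 2
  let B' := 2 * (φ a * p * q) + φ b * (p * t' + q * s) + 2 * (φ c * s * t')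
  let C' := φ a * q ^ 2 + φ b * (q * t') + φ c * t' ^ 2
  have hAC : π A' = 0 ∧ π C' = 0 := by
    obtain ⟨c₁, h₁⟩ := hB A'
    obtain ⟨c₂, h₂⟩ := hB C'
    have hq' : φ (qv a b c x y) ∈ mB ^ 3 := by rw [← hm, ← Ideal.map_pow]; exact Ideal.mem_map_of_mem _ hq
    have e : φ (qv a b c x y) = A' * (u * u) + B' * (u * v) + C' * (v * v) := by
      rw [map_qv, ← hpq, ← hst]; simp only [qv, A', B', C']; ring
    have huu : u * u ∈ mB ^ 2 := by rw [pow_two]; exact Ideal.mul_mem_mul hg.mem_left hg.mem_left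
    have hvv : v * v ∈ mB ^ 2 := by rw [pow_two]; exact Ideal.mul_mem_mul hg.mem_right hg.mem_right
    have hsp : mB ^ 2 ≤ Ideal.span {u * u, v * v} ⊔ mB ^ (2 + 1) := by
      have h2 : mB ^ 2 = Ideal.span (({u, v} : Set B) * ({u, v} : Set B)) := by
        rw [pow_two, hg.1, Ideal.span_mul_span']
      rw [h2, Ideal.span_le]
      rintro _ ⟨z₁, hz₁, z₂, hz₂, rfl⟩
      rcases hz₁ with e₁ | e₁ <;> rcases hz₂ with e₂ | e₂ <;> (try rw [Set.mem_singleton_iff] at e₁) <;> (try rw [Set.mem_singleton_iff] at e₂) <;> rw [e₁, e₂]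
      · exact Submodule.mem_sup_left (Ideal.subset_span (Set.mem_insert _ _))
      · exact Submodule.mem_sup_right hg.2
      · exact Submodule.mem_sup_right (show v * u ∈ _ from mul_comm u v ▸ hg.2)
      · exact Submodule.mem_sup_left (Ideal.subset_span (Set.mem_insert_of_mem _ rfl))
    have hmain : algebraMap K B c₁ * (u * u) + algebraMap K B c₂ * (v * v) ∈ mB ^ (2 + 1) := by
      rw [show algebraMap K B c₁ * (u * u) + algebraMap K B c₂ * (v * v) = (A' * (u * u) + B' * (u * v) + C' * (v * v))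
        - B' * (u * v) - ((A' - algebraMap K B c₁) * (u * u) + (C' - algebraMap K B c₂) * (v * v)) by ring, ← e]
      refine sub_mem (sub_mem hq' (Ideal.mul_mem_left _ _ hg.2)) ?_
      rw [pow_succ' _ 2]
      exact add_mem (Ideal.mul_mem_mul h₁ huu) (Ideal.mul_mem_mul h₂ hvv)
    obtain ⟨e₁, e₂⟩ := two_gen_ind (K := K) ht htd hnp (le_of_lt one_lt_two) huu hvv hsp hmain
    rw [e₁, map_zero, sub_zero] at h₁
    rw [e₂, map_zero, sub_zero] at h₂
    exact ⟨hzero _ h₁, hzero _ h₂⟩
  have hd : π p * π t' - π q * π s ≠ 0 := fun h => by rw [h, mul_zero] at hdet; exact zero_ne_one hdet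
  have hdA : 4 * π (φ a) * π (φ c) - π (φ b) ^ 2 = 0 := by
    have h1 : φ (4 * a * c - b ^ 2) ∈ mB := hm ▸ Ideal.mem_map_of_mem _ ((residue_eq_zero_iff _).1 hΔ)
    have h2 := hzero _ h1
    simpa only [map_sub, map_mul, map_pow, map_ofNat] using h2
  obtain ⟨hA', hC'⟩ := hAC
  simp only [A', C', map_add, map_mul, map_pow] at hA' hC'
  let P := π p
  let Q := π q
  let S := π s
  let T := π t'
  have hB' : 2 * (π (φ a) * P * Q) + π (φ b) * (P * T + Q * S) + 2 * (π (φ c) * S * T) = 0 := by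
    refine eq_zero_of_pow_eq_zero (n := 2) ?_
    linear_combination (4 * (π (φ a) * Q ^ 2 + π (φ b) * (Q * T) + π (φ c) * T ^ 2)) * hA' -
      (P * T - Q * S) ^ 2 * hdA
  have ha0 : (P * T - Q * S) ^ 2 * π (φ a) = 0 := by
    linear_combination T ^ 2 * hA' - T * S * hB' + S ^ 2 * hC'
  have hb0 : (P * T - Q * S) ^ 2 * π (φ b) = 0 := by
    linear_combination -2 * T * Q * hA' + (P * T + Q * S) * hB' - 2 * P * S * hC'
  have hc0 : (P * T - Q * S) ^ 2 * π (φ c) = 0 := by
    linear_combination Q ^ 2 * hA' - P * Q * hB' + P ^ 2 * hC'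
  have hd2 : (P * T - Q * S) ^ 2 ≠ 0 := pow_ne_zero 2 hd
  have back : ∀ w : A, π (φ w) = 0 → w ∈ mA := fun w hw => by
    rw [mem_maximalIdeal]
    intro hu
    exact (mem_maximalIdeal _).1 ((residue_eq_zero_iff _).1 hw) (hu.map φ)
  exact ⟨back a ((mul_eq_zero.1 ha0).resolve_left hd2), back b ((mul_eq_zero.1 hb0).resolve_left hd2),
    back c ((mul_eq_zero.1 hc0).resolve_left hd2)⟩

end Groth.Agent.NodePtLib
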