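import Groth.Agent.NodePtLib.NodeFitt
import Groth.Agent.S8917
import Groth.Agent.IdealStalkLib.Cartier
import Groth.Agent.EtLocalLib.SchemeLocal

/-!
# The singular locus and the Jacobian ideals of the fibres
-/

set_option autoImplicit false
set_option backward.isDefEq.respectTransparency false
set_option linter.style.haveILetI false
set_option linter.unusedSectionVars false

universe u

open CategoryTheory CategoryTheory.Limits AlgebraicGeometry IsLocalRing TensorProduct

noncomputable section

namespace Groth.Agent.NodePtLib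

/-- The Jacobian ideal sheaf. -/
abbrev jacSheaf {X S : Scheme.{u}} (f : X ⟶ S) [QuasiSeparated f] : X.IdealSheafData :=
  Fitt.sheafIdeal (Omega.sheaf f) 1

/-- Unramified near a point. -/
def UnramAt {X S : Scheme.{u}} (f : X ⟶ S) (x : X) : Prop :=
  ∃ U : X.Opens, x ∈ U ∧ FormallyUnramified (U.ι ≫ f)

section Field

attribute [local instance] Curv2.stalkAlgebra

variable {k : Type u} [Field k] {X : Scheme.{u}} [X.Over (Spec (CommRingCat.of k))]
  [LocallyOfFiniteType (X ↘ Spec (CommRingCat.of k))] [QuasiSeparated (X ↘ Spec (CommRingCat.of k))]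

/-- Over a field the stalks of the Jacobian sheaf are the Jacobian ideals. -/
theorem stalkIdeal_jacSheaf (x : X) :
    IntMult.stalkIdeal (jacSheaf (X ↘ Spec (CommRingCat.of k))) x = jac k X x := by
  let f := X ↘ Spec (CommRingCat.of k)
  obtain ⟨U, hU, hxU, -⟩ := exists_isAffineOpen_mem_and_subset (X := X) (x := x) (U := ⊤) trivial
  rw [IdealStalkLib.stalkIdeal_eq _ ⟨U, hU⟩ x hxU,
    FittSheafLib.omega_ideal f (isAffineOpen_top _) hU le_top]
  let R := Γ(Spec (CommRingCat.of k), ⊤)
  let B := Γ(X, U)
  let L := X.presheaf.stalk x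
  let ψ : k →+* R := (Scheme.ΓSpecIso (CommRingCat.of k)).inv.hom
  have hψ : Function.Surjective ψ :=
    (Scheme.ΓSpecIso (CommRingCat.of k)).symm.commRingCatIsoToRingEquiv.surjective
  letI : Algebra k R := ψ.toAlgebra
  letI : Algebra R B := (f.appLE ⊤ U le_top).hom.toAlgebra
  letI : Algebra k B := ((f.appLE ⊤ U le_top).hom.comp ψ).toAlgebra
  haveI : IsScalarTower k R B := IsScalarTower.of_algebraMap_eq fun _ => rfl
  haveI : SMulCommClass R B B := inferInstance
  letI : Algebra B L := TopCat.Presheaf.algebra_section_stalk X.presheaf ⟨x, hxU⟩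
  haveI := hU.isLocalization_stalk ⟨x, hxU⟩
  haveI : IsScalarTower k B L := IsScalarTower.of_algebraMap_eq fun c => by
    show X.presheaf.germ ⊤ x trivial (f.appTop ((Scheme.ΓSpecIso (CommRingCat.of k)).inv c)) =
      X.presheaf.germ U x hxU (f.appLE ⊤ U le_top ((Scheme.ΓSpecIso (CommRingCat.of k)).inv c))
    rw [Scheme.Hom.appLE, CommRingCat.comp_apply, X.presheaf.germ_res_apply]
    rfl
  haveI : Algebra.FiniteType R B := f.finiteType_appLE (isAffineOpen_top _) hU le_top
  haveI : Algebra.FiniteType k B :=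
    RingHom.FiniteType.comp (‹Algebra.FiniteType R B› : (algebraMap R B).FiniteType)
      (RingHom.FiniteType.of_surjective ψ hψ)
  haveI : Algebra.FormallyEtale B L :=
    Algebra.FormallyEtale.of_isLocalization (Rₘ := L) (hU.primeIdealOf ⟨x, hxU⟩).asIdeal.primeCompl
  have h1 : Fitt.ideal L Ω[L⁄k] 1 = (Fitt.ideal B Ω[B⁄k] 1).map (algebraMap B L) := by
    rw [← fitt_congr (KaehlerDifferential.tensorKaehlerEquivOfFormallyEtale k B L) 1, FittLib.ideal_baseChange L 1]
  have h2 : Fitt.ideal B Ω[B⁄R] 1 = Fitt.ideal B Ω[B⁄k] 1 := by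
    haveI : Subsingleton Ω[R⁄k] := KaehlerDifferential.subsingleton_of_surjective k R hψ
    have hbij : Function.Bijective (KaehlerDifferential.map k R B B) := by
      refine ⟨?_, KaehlerDifferential.map_surjective k R B⟩
      rw [injective_iff_map_eq_zero]
      intro w hw
      obtain ⟨v, rfl⟩ := (KaehlerDifferential.exact_mapBaseChange_map k R B w).1 hw
      rw [Subsingleton.elim v 0, map_zero]
    exact (fitt_congr (LinearEquiv.ofBijective (KaehlerDifferential.map k R B B) hbij) 1).symm
  show (Fitt.ideal B Ω[B⁄R] 1).map (algebraMap B L) = Fitt.ideal L Ω[L⁄k] 1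
  rw [h1, h2]

/-- Over an algebraically closed field the singular scheme is unramified where the Jacobian ideal is maximal. -/
theorem unramAt_iff [IsAlgClosed k] (z : (jacSheaf (X ↘ Spec (CommRingCat.of k))).subscheme)
    (hz : IsClosed ({(jacSheaf (X ↘ Spec (CommRingCat.of k))).subschemeι z} : Set X)) :
    UnramAt ((jacSheaf (X ↘ Spec (CommRingCat.of k))).subschemeι ≫ (X ↘ Spec (CommRingCat.of k))) z ↔
      jac k X ((jacSheaf (X ↘ Spec (CommRingCat.of k))).subschemeι z) = maximalIdeal _ := by
  let f := X ↘ Spec (CommRingCat.of k)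
  let ι := (jacSheaf f).subschemeι
  rw [UnramAt, FlatLocus.exists_formallyUnramified_nhd_iff, ← stalkIdeal_jacSheaf,
    ← IdealStalkLib.ker_stalkMap_subschemeι (jacSheaf f) z]
  have hsurj : Function.Surjective (ι.stalkMap z).hom := ι.stalkMap_surjective z
  let M := maximalIdeal (X.presheaf.stalk (ι z))
  constructor
  · intro h
    have h' := ((EtLocalLib.stalkMap_unramified_iff (ι ≫ f) z).1 h).1
    have hw : maximalIdeal ((Spec (CommRingCat.of k)).presheaf.stalk ((ι ≫ f).base z)) = ⊥ := by
      refine IsLocalRing.isField_iff_maximalIdeal_eq.1 ?_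
      rw [show (ι ≫ f).base z = closedPoint k from Subsingleton.elim _ _]
      exact MulEquiv.isField (Field.toIsField k)
        (stalkClosedPointIso (CommRingCat.of k)).commRingCatIsoToRingEquiv.toMulEquiv
    rw [hw, Ideal.map_bot] at h'
    refine le_antisymm (IsLocalRing.le_maximalIdeal (RingHom.ker_ne_top _)) fun a ha => ?_
    have : (ι.stalkMap z).hom a ∈ maximalIdeal ((jacSheaf f).subscheme.presheaf.stalk z) :=
      map_nonunit (ι.stalkMap z).hom a ha
    rwa [← h', Ideal.mem_bot, ← RingHom.mem_ker] at this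
  · intro h
    rw [Scheme.Hom.stalkMap_comp]
    refine RingHom.FormallyUnramified.of_surjective fun b => ?_
    obtain ⟨a, rfl⟩ := hsurj b
    obtain ⟨c, hc⟩ := rational_stalk (K := k) hz a
    rw [← h, RingHom.mem_ker, map_sub, sub_eq_zero] at hc
    refine ⟨(StructureSheaf.toStalk (CommRingCat.of k) (f (ι z))).hom c, ?_⟩
    rw [hc]
    refine congrArg (ι.stalkMap z) ?_
    show f.stalkMap (ι z) _ = X.presheaf.germ ⊤ (ι z) trivial (f.appTop ((Scheme.ΓSpecIso (CommRingCat.of k)).inv c))
    exact Scheme.Hom.germ_stalkMap_apply f ⊤ (ι z) trivial ((Scheme.ΓSpecIso (CommRingCat.of k)).inv c)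

end Field

section BaseChange

variable {X S S' : Scheme.{u}} (f : X ⟶ S) [LocallyOfFiniteType f] (g : S' ⟶ S)

/-- Unramifiedness of a closed subscheme commutes with base change. -/
theorem unramAt_comap_iff (I : X.IdealSheafData) {J : (pullback f g).IdealSheafData}
    (hJ : J = I.comap (pullback.fst f g)) (z' : J.subscheme) :
    ∃ z : I.subscheme, I.subschemeι z = pullback.fst f g (J.subschemeι z') ∧
      (UnramAt (J.subschemeι ≫ pullback.snd f g) z' ↔ UnramAt (I.subschemeι ≫ f) z) := by
  subst hJ
  let q := pullback.fst f g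
  let m := (I.comapIso q).hom ≫ pullback.snd q I.subschemeι
  have hm : IsPullback (I.comap q).subschemeι m q I.subschemeι :=
    IsPullback.of_iso_pullback ⟨by
        rw [← I.comapIso_hom_fst q, Category.assoc, pullback.condition, ← Category.assoc]⟩
      (I.comapIso q) (I.comapIso_hom_fst q) rfl
  have sq : IsPullback m ((I.comap q).subschemeι ≫ pullback.snd f g) (I.subschemeι ≫ f) g :=
    hm.flip.paste_vert (IsPullback.of_hasPullback f g)
  refine ⟨m z', by rw [← Scheme.Hom.comp_apply, ← hm.w, Scheme.Hom.comp_apply], fun h => ?_, fun h =>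
    FlatLocus.exists_nhd_of_isPullback (P := @FormallyUnramified) sq z' h⟩
  let e := sq.isoPullback
  have sq' : IsPullback e.inv (pullback.snd (I.subschemeι ≫ f) g) ((I.comap q).subschemeι ≫ pullback.snd f g) (𝟙 _) :=
    IsPullback.of_horiz_isIso ⟨by rw [Category.comp_id]; exact sq.isoPullback_inv_snd⟩
  have he : e.inv (e.hom z') = z' := by rw [← Scheme.Hom.comp_apply, e.hom_inv_id]; rfl
  have hfst : pullback.fst (I.subschemeι ≫ f) g (e.hom z') = m z' := by
    rw [← Scheme.Hom.comp_apply, sq.isoPullback_hom_fst]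
  rw [UnramAt] at h ⊢
  rw [← hfst]
  exact (PointBC.formallyUnramified_nhd_iff (I.subschemeι ≫ f) g (e.hom z')).1
    (FlatLocus.exists_nhd_of_isPullback (P := @FormallyUnramified) sq' (e.hom z') (by rwa [he]))

variable [QuasiSeparated f]

theorem jacSheaf_comap : jacSheaf (pullback.snd f g) = (jacSheaf f).comap (pullback.fst f g) :=
  (Groth.Agent.S8917.result f g 1).symm

theorem exists_over (w : ↑(pullback f g))
    (hw : pullback.fst f g w ∈ (jacSheaf f).support) :
    ∃ z' : (jacSheaf (pullback.snd f g)).subscheme, (jacSheaf (pullback.snd f g)).subschemeι z' = w := by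
  have h : w ∈ Set.range (jacSheaf (pullback.snd f g)).subschemeι := by
    rw [Scheme.IdealSheafData.range_subschemeι, jacSheaf_comap, Scheme.IdealSheafData.support_comap]
    exact hw
  exact h

/-- The unramified points of the singular scheme commute with base change. -/
theorem unramAt_jac_bc (w : ↑(pullback f g)) (z : (jacSheaf f).subscheme)
    (z' : (jacSheaf (pullback.snd f g)).subscheme) (hz : (jacSheaf f).subschemeι z = pullback.fst f g w)
    (hz' : (jacSheaf (pullback.snd f g)).subschemeι z' = w) :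
    UnramAt ((jacSheaf (pullback.snd f g)).subschemeι ≫ pullback.snd f g) z' ↔
      UnramAt ((jacSheaf f).subschemeι ≫ f) z := by
  obtain ⟨z₀, h₀, hiff⟩ := unramAt_comap_iff f g (jacSheaf f) (jacSheaf_comap f g) z'
  rw [hz', ← hz] at h₀
  rwa [(jacSheaf f).subschemeι.isEmbedding.injective h₀] at hiff

end BaseChange

end Groth.Agent.NodePtLib
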