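import Groth.Agent.NodePtLib.Crit
import Groth.Agent.NodePtLib.Geom
import Groth.Agent.GeomRedPtLib.Basic
import Groth.Agent.S6892
import Mathlib.RingTheory.Kaehler.TensorProduct
import Mathlib.RingTheory.Etale.Kaehler

/-!
# Jacobian ideals of local rings under change of the base field
-/

set_option autoImplicit false
set_option backward.isDefEq.respectTransparency false
set_option linter.style.haveILetI false
set_option linter.unusedSectionVars false

universe u

open CategoryTheory CategoryTheory.Limits AlgebraicGeometry IsLocalRing TensorProduct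

noncomputable section

namespace Groth.Agent.NodePtLib

theorem fitt_congr {R : Type u} [CommRing R] {M M' : Type u} [AddCommGroup M] [Module R M] [AddCommGroup M']
    [Module R M'] [Module.Finite R M] (e : M ≃ₗ[R] M') (r : ℕ) : Fitt.ideal R M r = Fitt.ideal R M' r := by
  haveI : Module.Finite R M' := Module.Finite.equiv e
  exact le_antisymm ((Groth.Agent.S6892.result M M' r).2.2 e.toLinearMap e.surjective)
    ((Groth.Agent.S6892.result M' M r).2.2 e.symm.toLinearMap e.symm.surjective)

/-- Jacobian ideals under base change and localisation. -/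
theorem fitt_kaehler_baseChange {k K A B L : Type u} [CommRing k] [CommRing K] [Algebra k K] [CommRing A]
    [Algebra k A] [CommRing B] [Algebra k B] [Algebra A B] [Algebra K B] [IsScalarTower k A B] [IsScalarTower k K B]
    [Algebra.IsPushout k K A B] [Algebra.EssFiniteType k A]
    [CommRing L] [Algebra B L] [Algebra K L] [IsScalarTower K B L] [Algebra A L] [IsScalarTower A B L]
    (M : Submonoid B) [IsLocalization M L] (r : ℕ) :
    Fitt.ideal L Ω[L⁄K] r = (Fitt.ideal A Ω[A⁄k] r).map (algebraMap A L) := by
  haveI : Algebra.FormallyEtale B L := Algebra.FormallyEtale.of_isLocalization (Rₘ := L) M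
  haveI : Module.Finite B Ω[B⁄K] := Module.Finite.equiv (KaehlerDifferential.tensorKaehlerEquiv k K A B)
  rw [← fitt_congr (KaehlerDifferential.tensorKaehlerEquivOfFormallyEtale K B L) r, FittLib.ideal_baseChange L r,
    ← fitt_congr (KaehlerDifferential.tensorKaehlerEquiv k K A B) r, FittLib.ideal_baseChange B r, Ideal.map_map,
    ← IsScalarTower.algebraMap_eq]

attribute [local instance] Curv2.stalkAlgebra

variable {k : Type u} [Field k] {X : Scheme.{u}} [X.Over (Spec (CommRingCat.of k))]

theorem essFiniteType_stalk [LocallyOfFiniteType (X ↘ Spec (CommRingCat.of k))] (x : X) :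
    Algebra.EssFiniteType k (X.presheaf.stalk x) := by
  let f := X ↘ Spec (CommRingCat.of k)
  rw [← RingHom.essFiniteType_algebraMap]
  let ι : k →+* (Spec (CommRingCat.of k)).presheaf.stalk (f x) :=
    (StructureSheaf.toStalk (CommRingCat.of k) (f x)).hom
  have hι : Function.Surjective ι := by
    letI : Algebra k ((Spec (CommRingCat.of k)).presheaf.stalk (f x)) := StructureSheaf.stalkAlgebra _ (f x)
    haveI : IsLocalization.AtPrime ((Spec (CommRingCat.of k)).presheaf.stalk (f x)) (f x).asIdeal :=
      StructureSheaf.IsLocalization.to_stalk (CommRingCat.of k) (f x)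
    exact (IsLocalization.atUnits k (f x).asIdeal.primeCompl (fun c hc => isUnit_iff_ne_zero.2 fun h => hc (h ▸
      Ideal.zero_mem _)) (S := (Spec (CommRingCat.of k)).presheaf.stalk (f x))).surjective
  have hc : algebraMap k (X.presheaf.stalk x) = (f.stalkMap x).hom.comp ι := by
    refine RingHom.ext fun c => ?_
    show X.presheaf.germ ⊤ x trivial (f.appTop ((Scheme.ΓSpecIso (CommRingCat.of k)).inv c)) = _
    rw [RingHom.comp_apply]
    exact (Scheme.Hom.germ_stalkMap_apply f ⊤ x trivial ((Scheme.ΓSpecIso (CommRingCat.of k)).inv c)).symm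
  rw [hc]
  exact RingHom.EssFiniteType.comp (RingHom.FiniteType.of_surjective ι hι).essFiniteType
    (LocallyOfFiniteType.stalkMap f x)

/-- The Jacobian ideal of a point of a base change is extended from the point below. -/
theorem fitt_stalk_bc [LocallyOfFiniteType (X ↘ Spec (CommRingCat.of k))] (K : Type u) [Field K] [Algebra k K]
    (z : Curv2.bc k X K) (r : ℕ) :
    letI : (Curv2.bc k X K).Over (Spec (CommRingCat.of K)) := ⟨Curv2.bcSnd k X K⟩
    Fitt.ideal ((Curv2.bc k X K).presheaf.stalk z) Ω[(Curv2.bc k X K).presheaf.stalk z⁄K] r =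
      (Fitt.ideal (X.presheaf.stalk (Curv2.bcFst k X K z)) Ω[X.presheaf.stalk (Curv2.bcFst k X K z)⁄k] r).map
        ((Curv2.bcFst k X K).stalkMap z).hom := by
  letI : (Curv2.bc k X K).Over (Spec (CommRingCat.of K)) := ⟨Curv2.bcSnd k X K⟩
  let x := Curv2.bcFst k X K z
  let A := X.presheaf.stalk x
  let L := (Curv2.bc k X K).presheaf.stalk z
  haveI := essFiniteType_stalk (k := k) x
  let φ : A →+* L := ((Curv2.bcFst k X K).stalkMap z).hom
  let T := A ⊗[k] K
  letI : Algebra K T := Algebra.TensorProduct.rightAlgebra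
  haveI : IsScalarTower k K T := IsScalarTower.of_algebraMap_eq fun c => by
    show algebraMap k T c = (Algebra.TensorProduct.includeRight : K →ₐ[k] T) (algebraMap k K c)
    rw [AlgHom.commutes]
  haveI : Algebra.IsPushout k A K T := TensorProduct.isPushout
  haveI : Algebra.IsPushout k K A T := Algebra.IsPushout.symm inferInstance
  have hkφ : φ.comp (algebraMap k A) = (algebraMap K L).comp (algebraMap k K) := by
    refine RingHom.ext fun c => ?_
    show (Curv2.bcFst k X K).stalkMap z (X.presheaf.germ ⊤ x trivial
        ((X ↘ Spec (CommRingCat.of k)).appTop ((Scheme.ΓSpecIso (CommRingCat.of k)).inv c))) =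
      (Curv2.bc k X K).presheaf.germ ⊤ z trivial ((Curv2.bcSnd k X K).appTop
        ((Scheme.ΓSpecIso (CommRingCat.of K)).inv (algebraMap k K c)))
    rw [Scheme.Hom.germ_stalkMap_apply]
    refine congrArg ((Curv2.bc k X K).presheaf.germ ⊤ z trivial) ?_
    have hn : (Scheme.ΓSpecIso (CommRingCat.of K)).inv (algebraMap k K c) =
        (Spec.map (CommRingCat.ofHom (algebraMap k K))).appTop ((Scheme.ΓSpecIso (CommRingCat.of k)).inv c) :=
      congrArg (fun g => g c) (Scheme.ΓSpecIso_inv_naturality (CommRingCat.ofHom (algebraMap k K)))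
    rw [hn]
    have hsq := congrArg (fun g => g.appTop ((Scheme.ΓSpecIso (CommRingCat.of k)).inv c))
      (pullback.condition : Curv2.bcFst k X K ≫ (X ↘ Spec (CommRingCat.of k)) =
        Curv2.bcSnd k X K ≫ Spec.map (CommRingCat.ofHom (algebraMap k K)))
    simpa using hsq
  letI : Algebra k L := ((algebraMap K L).comp (algebraMap k K)).toAlgebra
  haveI : IsScalarTower k K L := IsScalarTower.of_algebraMap_eq fun c => rfl
  let φ' : A →ₐ[k] L := { φ with commutes' := fun c => RingHom.congr_fun hkφ c }
  let ψ : T →ₐ[k] L := Algebra.TensorProduct.lift φ' (IsScalarTower.toAlgHom k K L) fun a b => Commute.all _ _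
  have hψl : ∀ a : A, ψ (a ⊗ₜ (1 : K)) = φ a := fun a =>
    (Algebra.TensorProduct.lift_tmul φ' (IsScalarTower.toAlgHom k K L) _ a 1).trans (by rw [map_one, mul_one]; rfl)
  have hψr : ∀ c : K, ψ ((1 : A) ⊗ₜ c) = algebraMap K L c := fun c =>
    (Algebra.TensorProduct.lift_tmul φ' (IsScalarTower.toAlgHom k K L) _ 1 c).trans (by rw [map_one, one_mul]; rfl)
  letI : Algebra T L := ψ.toRingHom.toAlgebra
  letI : Algebra A L := φ.toAlgebra
  haveI : IsScalarTower A T L := IsScalarTower.of_algebraMap_eq fun a => by
    exact (hψl a).symm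
  haveI : IsScalarTower K T L := IsScalarTower.of_algebraMap_eq fun a => by
    exact (hψr a).symm
  -- the local ring is a localisation of the tensor product
  obtain ⟨p, hp, -⟩ := Scheme.exists_preimage_of_isPullback (GeomRedPtLib.isPullback_tensorPt (k := k) K x) z
    (closedPoint A) (Scheme.fromSpecStalk_closedPoint).symm
  have hfac : Spec.map (CommRingCat.ofHom ψ.toRingHom) ≫ GeomRedPtLib.tensorPt k X K x =
      (Curv2.bc k X K).fromSpecStalk z := by
    refine pullback.hom_ext ?_ ?_
    · rw [Category.assoc]
      erw [pullback.lift_fst]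
      rw [← Category.assoc, ← Spec.map_comp]
      refine Eq.trans ?_ (Scheme.SpecMap_stalkMap_fromSpecStalk (f := Curv2.bcFst k X K) (x := z))
      congr 2
      ext a
      exact hψl a
    · rw [Category.assoc]
      erw [pullback.lift_snd]
      rw [← Spec.map_comp]
      refine Eq.trans ?_ (GeomRedPtLib.fromSpecStalk_over (k := K) (X := Curv2.bc k X K) z).symm
      congr 1
      ext a
      exact hψr a
  haveI : IsIso ((GeomRedPtLib.tensorPt k X K x).stalkMap p) := by
    let t := GeomRedPtLib.tensorPt k X K x
    refine (ConcreteCategory.isIso_iff_bijective _).2 ⟨?_, t.stalkMap_surjective p⟩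
    exact ASp.injective_stalkMap_of_flat t p
  haveI : Mono (GeomRedPtLib.tensorPt k X K x) := inferInstance
  let θ := (Curv2.bc k X K).presheaf.stalkCongr (.of_eq hp :
    Inseparable (GeomRedPtLib.tensorPt k X K x p) z)
  have hθ : Spec.map θ.hom ≫ (Curv2.bc k X K).fromSpecStalk (GeomRedPtLib.tensorPt k X K x p) =
      (Curv2.bc k X K).fromSpecStalk z := Scheme.SpecMap_stalkSpecializes_fromSpecStalk (specializes_of_eq hp.symm)
  have hψ : CommRingCat.ofHom ψ.toRingHom =
      StructureSheaf.toStalk (CommRingCat.of T) p ≫ inv ((GeomRedPtLib.tensorPt k X K x).stalkMap p) ≫ θ.hom := by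
    refine Spec.map_injective ?_
    rw [← cancel_mono (GeomRedPtLib.tensorPt k X K x), hfac, Spec.map_comp, Spec.map_comp, Category.assoc,
      Category.assoc, ← hθ]
    have h := Scheme.SpecMap_stalkMap_fromSpecStalk (f := GeomRedPtLib.tensorPt k X K x) (x := p)
    rw [Spec.fromSpecStalk_eq'] at h
    congr 1
    rw [← h, ← Category.assoc, ← Spec.map_comp, IsIso.hom_inv_id, Spec.map_id, Category.id_comp]
  letI : Algebra T ((Spec (CommRingCat.of T)).presheaf.stalk p) := StructureSheaf.stalkAlgebra _ p
  haveI : IsLocalization p.asIdeal.primeCompl ((Spec (CommRingCat.of T)).presheaf.stalk p) :=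
    StructureSheaf.IsLocalization.to_stalk (CommRingCat.of T) p
  let σ : (Spec (CommRingCat.of T)).presheaf.stalk p ≃ₐ[T] L :=
    { ((asIso ((GeomRedPtLib.tensorPt k X K x).stalkMap p)).symm ≪≫ θ).commRingCatIsoToRingEquiv with
      commutes' := fun a => (congrArg (fun g => g.hom a) hψ).symm }
  haveI : IsLocalization p.asIdeal.primeCompl L := IsLocalization.isLocalization_of_algEquiv _ σ
  exact fitt_kaehler_baseChange (k := k) (K := K) (A := A) (B := T) (L := L) p.asIdeal.primeCompl r

end Groth.Agent.NodePtLib
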