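import Groth.Agent.NodePtLib.NodeFitt
import Groth.Agent.NodePtLib.Family
import Groth.Agent.S14105

/-!
# Regular points and closed subschemes of at-worst-nodal curves
-/

set_option autoImplicit false
set_option backward.isDefEq.respectTransparency false
set_option linter.style.haveILetI false
set_option linter.unusedSectionVars false

universe u

open CategoryTheory CategoryTheory.Limits AlgebraicGeometry IsLocalRing TensorProduct

noncomputable section

namespace Groth.Agent.NodePtLib

attribute [local instance] Curv2.stalkAlgebra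

theorem smooth_of_nhds {X S : Scheme.{u}} (f : X ⟶ S) [LocallyOfFinitePresentation f]
    (h : ∀ x : X, ∃ U : X.Opens, x ∈ U ∧ Smooth (U.ι ≫ f)) : Smooth f := by
  rw [← Scheme.Hom.smoothLocus_eq_top_iff, ← top_le_iff]
  exact fun x _ => (FlatLocus.exists_smooth_nhd_iff f x).1 (h x)

/-- A node is not a regular point. -/
theorem not_regular_of_isNode {k : Type u} [Field k] {X : Scheme.{u}} [X.Over (Spec (CommRingCat.of k))]
    [LocallyOfFiniteType (X ↘ Spec (CommRingCat.of k))] {x : X} (hx : Curv2.IsNode k X x) :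
    ¬ IsRegularLocalRing (X.presheaf.stalk x) := fun hr => by
  let K := AlgebraicClosure k
  obtain ⟨z, rfl⟩ := surjective_bcFst k X K x
  letI : (Curv2.bc k X K).Over (Spec (CommRingCat.of K)) := ⟨Curv2.bcSnd k X K⟩
  haveI : LocallyOfFiniteType (Curv2.bc k X K ↘ Spec (CommRingCat.of K)) :=
    inferInstanceAs (LocallyOfFiniteType (pullback.snd (X ↘ Spec (CommRingCat.of k)) _))
  haveI := LocallyOfFiniteType.isLocallyNoetherian (Curv2.bc k X K ↘ Spec (CommRingCat.of K))
  haveI := LocallyOfFiniteType.isLocallyNoetherian (X ↘ Spec (CommRingCat.of k))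
  refine not_regular_of_ordDoublePt (K := K) (A := (Curv2.bc k X K).presheaf.stalk z)
    (ordPtBc_of_isNode k X _ hx z rfl) (IsRegularLocalRing.of_spanFinrank_maximalIdeal_le _ (le_trans ?_
      (?_ : ringKrullDim (X.presheaf.stalk (Curv2.bcFst k X K z)) ≤ _)))
  · rw [← map_maximal_of_isNode hx, ← IsRegularLocalRing.spanFinrank_maximalIdeal (R := X.presheaf.stalk _)]
    exact_mod_cast Ideal.spanFinrank_map_le_of_fg _ (Ideal.fg_of_isNoetherianRing _)
  · haveI := flat_bcFst k X K
    algebraize [((Curv2.bcFst k X K).stalkMap z).hom]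
    haveI : IsLocalHom (algebraMap (X.presheaf.stalk (Curv2.bcFst k X K z)) ((Curv2.bc k X K).presheaf.stalk z)) :=
      (Curv2.bcFst k X K).toLRSHom.prop z
    haveI : Module.Flat (X.presheaf.stalk (Curv2.bcFst k X K z)) ((Curv2.bc k X K).presheaf.stalk z) :=
      Flat.stalkMap (Curv2.bcFst k X K) z
    exact Groth.Agent.S14105.ringKrullDim_le_of_flat_local

/-- An at-worst-nodal curve with regular local rings is smooth. -/
theorem smooth_of_regular {k : Type u} [Field k] (X : Scheme.{u}) [X.Over (Spec (CommRingCat.of k))]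
    [LocallyOfFiniteType (X ↘ Spec (CommRingCat.of k))] (hdim : NodalLib.Comps1 X) (hX : Curv2.AtWorstNodal k X)
    (hreg : ∀ x : X, IsRegularLocalRing (X.presheaf.stalk x)) : Smooth (X ↘ Spec (CommRingCat.of k)) := by
  haveI := LocallyOfFiniteType.isLocallyNoetherian (X ↘ Spec (CommRingCat.of k))
  haveI : LocallyOfFinitePresentation (X ↘ Spec (CommRingCat.of k)) :=
    LocallyOfFinitePresentation.iff_locallyOfFiniteType.mpr inferInstance
  refine smooth_of_nhds _ fun x => ?_
  by_cases hx : IsClosed ({x} : Set X)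
  · exact (hX x hx).resolve_right fun hn => not_regular_of_isNode hn (hreg x)
  · exact smooth_nhd_of_not_closed k X (fun Z hZ => (hdim Z hZ).le) hX hx

/-- A surjection of algebras enlarges the Jacobian ideal. -/
theorem fitt_map_le_of_surjective {k A B : Type u} [CommRing k] [CommRing A] [CommRing B] [Algebra k A] [Algebra k B]
    [Algebra.EssFiniteType k A] (φ : A →+* B) (hφ : Function.Surjective φ)
    (hk : φ.comp (algebraMap k A) = algebraMap k B) (r : ℕ) :
    (Fitt.ideal A Ω[A⁄k] r).map φ ≤ Fitt.ideal B Ω[B⁄k] r := by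
  letI := φ.toAlgebra
  haveI : IsScalarTower k A B := IsScalarTower.of_algebraMap_eq fun c => (RingHom.congr_fun hk c).symm
  haveI : SMulCommClass k A B := inferInstance
  let g : B ⊗[A] Ω[A⁄k] →ₗ[B] Ω[B⁄k] := (KaehlerDifferential.map k k A B).liftBaseChange B
  have hg : Function.Surjective g := fun w => by
    obtain ⟨v, hv⟩ := KaehlerDifferential.map_surjective_of_surjective k k A B hφ w
    exact ⟨1 ⊗ₜ v, (LinearMap.liftBaseChange_tmul B _ 1 v).trans ((one_smul B _).trans hv)⟩
  haveI : Module.Finite B Ω[B⁄k] := Module.Finite.of_surjective g hg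
  have h := (Groth.Agent.S6892.result (B ⊗[A] Ω[A⁄k]) Ω[B⁄k] r).2.2 g hg
  rwa [FittLib.ideal_baseChange B r] at h

/-- A reduced closed subscheme of dimension one of an at-worst-nodal curve is at-worst-nodal. -/
theorem atWorstNodal_sub {k : Type u} [Field k] {X Y : Scheme.{u}} [X.Over (Spec (CommRingCat.of k))]
    [Y.Over (Spec (CommRingCat.of k))] [LocallyOfFiniteType (X ↘ Spec (CommRingCat.of k))] (ι : Y ⟶ X)
    [IsClosedImmersion ι] [IsReduced Y]
    (w : ι ≫ (X ↘ Spec (CommRingCat.of k)) = (Y ↘ Spec (CommRingCat.of k)))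
    (hX1 : NodalLib.Comps1 X) (hY1 : NodalLib.Comps1 Y) (hX : Curv2.AtWorstNodal k X) :
    Curv2.AtWorstNodal k Y := by
  classical
  haveI := LocallyOfFiniteType.isLocallyNoetherian (X ↘ Spec (CommRingCat.of k))
  haveI : LocallyOfFinitePresentation (X ↘ Spec (CommRingCat.of k)) :=
    LocallyOfFinitePresentation.iff_locallyOfFiniteType.mpr inferInstance
  haveI : LocallyOfFiniteType (Y ↘ Spec (CommRingCat.of k)) := by rw [← w]; infer_instance
  haveI := LocallyOfFiniteType.isLocallyNoetherian (Y ↘ Spec (CommRingCat.of k))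
  haveI : LocallyOfFinitePresentation (Y ↘ Spec (CommRingCat.of k)) :=
    LocallyOfFinitePresentation.iff_locallyOfFiniteType.mpr inferInstance
  intro y hy
  have hxc : IsClosed ({ι y} : Set X) := by
    have h := ι.isClosedEmbedding.isClosedMap _ hy
    rwa [Set.image_singleton] at h
  -- the local ring of `Y` has positive dimension
  have hpos : ¬ ∀ v : Y, v ⤳ y → v = y := fun hmax => by
    have hcomp : ({y} : Set Y) ∈ irreducibleComponents Y := by
      have h := Groth.Agent.S4673.component_of_maximal hmax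
      rwa [hy.closure_eq] at h
    have h1 := hY1 _ hcomp
    haveI : Subsingleton ({y} : Set Y) := Set.subsingleton_singleton.coe_sort
    have h0 : topologicalKrullDim ({y} : Set Y) ≤ 0 := by
      haveI : Subsingleton (TopologicalSpace.IrreducibleCloseds ({y} : Set Y)) := ⟨fun a b => by
        refine TopologicalSpace.IrreducibleCloseds.ext ?_
        obtain ⟨u, hu⟩ := a.2.1
        obtain ⟨v, hv⟩ := b.2.1
        ext c
        exact iff_of_true (Subsingleton.elim u c ▸ hu) (Subsingleton.elim v c ▸ hv)⟩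
      exact Order.krullDim_nonpos_of_subsingleton
    rw [h1] at h0
    exact absurd h0 (by decide)
  have hnf : ¬ IsField (Y.presheaf.stalk y) := fun hF => hpos fun v hv =>
    ASp.eq_of_ringKrullDim_stalk_eq_zero (ringKrullDim_eq_zero_of_isField hF) hv
  obtain ⟨t, ht, htd⟩ : ∃ t ∈ maximalIdeal (Y.presheaf.stalk y), t ∈ nonZeroDivisors _ := by
    by_contra! hcon
    let A := Y.presheaf.stalk y
    have hsub : (maximalIdeal A : Set A) ⊆ ⋃ p ∈ associatedPrimes A A, (p : Set A) := fun a ha => by
      rw [biUnion_associatedPrimes_eq_compl_nonZeroDivisors A]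
      exact hcon a ha
    obtain ⟨p, hp, hle⟩ := (Ideal.subset_union_prime_finite (associatedPrimes.finite A A) (maximalIdeal A)
      (maximalIdeal A) (fun p hp _ _ => hp.isPrime)).1 hsub
    obtain ⟨hprime, c, hc⟩ := hp
    have hp' : p = maximalIdeal A := ((maximalIdeal.isMaximal A).eq_of_le hprime.ne_top hle).symm
    have hkill : ∀ a ∈ maximalIdeal A, a * c = 0 := fun a ha => by
      rw [← hp', hc] at ha
      obtain ⟨n, hn⟩ := ha
      rw [Submodule.mem_colon_singleton, Submodule.mem_bot, smul_eq_mul] at hn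
      exact eq_zero_of_pow_eq_zero (n := n + 1) (by rw [show (a * c) ^ (n + 1) = a * c ^ n * (a ^ n * c) by ring, hn, mul_zero])
    have hc0 : c ≠ 0 := fun h => hprime.ne_top (by
      rw [hc, h, Ideal.eq_top_iff_one]
      exact Ideal.le_radical (Submodule.mem_colon_singleton.2 (by simp)))
    by_cases hcm : c ∈ maximalIdeal A
    · exact hc0 (eq_zero_of_pow_eq_zero (n := 2) (by rw [pow_two]; exact hkill c hcm))
    · refine hnf (isField_iff_maximalIdeal_eq.2 ((Submodule.eq_bot_iff _).2 fun a ha => ?_))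
      obtain ⟨e, he⟩ := notMem_maximalIdeal.1 hcm
      have := hkill a ha
      rwa [← he, e.mul_left_eq_zero] at this
  rcases hX (ι y) hxc with hs | hn
  · -- `Y` equals `X` near a smooth point
    left
    obtain ⟨U, hU, hUs⟩ := hs
    haveI := hUs
    haveI : IsRegularLocalRing (X.presheaf.stalk (ι y)) :=
      haveI := ASp.isRegularLocalRing_stalk_of_smooth_field (U.ι ≫ (X ↘ Spec (CommRingCat.of k))) ⟨ι y, hU⟩
      IsRegularLocalRing.of_ringEquiv (asIso (U.ι.stalkMap ⟨ι y, hU⟩)).commRingCatIsoToRingEquiv.symm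
    obtain ⟨d, hd⟩ : ∃ d : ℕ, ringKrullDim (X.presheaf.stalk (ι y)) = d :=
      ⟨_, (IsRegularLocalRing.spanFinrank_maximalIdeal (R := X.presheaf.stalk (ι y))).symm⟩
    haveI : IsDomain (X.presheaf.stalk (ι y)) := RegLocal.isDomain_aux d _ hd
    haveI : Ring.KrullDimLE 1 (X.presheaf.stalk (ι y)) := Ring.krullDimLE_iff.2 (by
      rw [ringKrullDim_stalk_eq_coheight]
      have h : Order.coheight (ι y) ≤ (1 : ℕ) := Order.coheight_le_coe_iff.2 fun b hb => by
        have hbs : b ⤳ ι y := hb.le
        have hbc : ¬ IsClosed ({b} : Set X) := fun hbc => hb.2 (specializes_of_eq (hbs.mem_closed hbc rfl))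
        have hb0 : Order.coheight b = 0 := Order.coheight_eq_zero.2 fun v hv => by
          rw [maximal_of_not_closed (fun Z hZ => (hX1 Z hZ).le) hbc v hv]
        rw [hb0]
        exact_mod_cast Nat.zero_lt_one
      exact_mod_cast h)
    have hinj : Function.Injective (ι.stalkMap y).hom := by
      rw [RingHom.injective_iff_ker_eq_bot]
      by_contra hne
      refine hpos fun v hv => ASp.eq_of_ringKrullDim_stalk_eq_zero ?_ hv
      refine le_antisymm (Ring.krullDimLE_iff.1 (Ring.KrullDimLE.mk₀ fun P hP => ?_)) ringKrullDim_nonneg_of_nontrivial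
      have hs := ι.stalkMap_surjective y
      haveI : (P.comap (ι.stalkMap y).hom).IsPrime := P.comap_isPrime _
      have hne' : P.comap (ι.stalkMap y).hom ≠ ⊥ := fun h => hne (le_bot_iff.1 (h ▸ Ideal.ker_le_comap _))
      haveI : (P.comap (ι.stalkMap y).hom).IsMaximal :=
        Ring.krullDimLE_one_iff_of_noZeroDivisors.1 inferInstance _ hne' inferInstance
      have hmap := Ideal.map_eq_top_or_isMaximal_of_surjective (ι.stalkMap y).hom hs ‹(P.comap (ι.stalkMap y).hom).IsMaximal›
      rw [Ideal.map_comap_of_surjective _ hs] at hmap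
      exact hmap.resolve_left hP.ne_top
    have hbij : Function.Bijective (ι.stalkMap y).hom := ⟨hinj, ι.stalkMap_surjective y⟩
    refine (FlatLocus.exists_smooth_nhd_iff _ y).2 ?_
    have hx := (FlatLocus.exists_smooth_nhd_iff (X ↘ Spec (CommRingCat.of k)) (ι y)).1 ⟨U, hU, hUs⟩
    have hcomp : ((ι ≫ (X ↘ Spec (CommRingCat.of k))).stalkMap y).hom.FormallySmooth := by
      rw [Scheme.Hom.stalkMap_comp]
      exact RingHom.FormallySmooth.respectsIso.1 _ (RingEquiv.ofBijective _ hbij) hx
    have key : ∀ g : Y ⟶ Spec (CommRingCat.of k), ∀ g' : Y ⟶ Spec (CommRingCat.of k), g = g' →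
        (g.stalkMap y).hom.FormallySmooth → (g'.stalkMap y).hom.FormallySmooth := by
      rintro g _ rfl h; exact h
    exact key _ _ w hcomp
  · -- at a node
    let K := AlgebraicClosure k
    letI : (Curv2.bc k X K).Over (Spec (CommRingCat.of K)) := ⟨Curv2.bcSnd k X K⟩
    letI : (Curv2.bc k Y K).Over (Spec (CommRingCat.of K)) := ⟨Curv2.bcSnd k Y K⟩
    haveI : LocallyOfFiniteType (Curv2.bc k X K ↘ Spec (CommRingCat.of K)) :=
      inferInstanceAs (LocallyOfFiniteType (pullback.snd (X ↘ Spec (CommRingCat.of k)) _))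
    obtain ⟨z, rfl⟩ := surjective_bcFst k Y K y
    let j : Curv2.bc k Y K ⟶ Curv2.bc k X K := pullback.lift (Curv2.bcFst k Y K ≫ ι) (Curv2.bcSnd k Y K) (by
      rw [Category.assoc, w]; exact pullback.condition)
    have hj : j ≫ Curv2.bcFst k X K = Curv2.bcFst k Y K ≫ ι := pullback.lift_fst _ _ _
    have hj2 : j ≫ (Curv2.bc k X K ↘ Spec (CommRingCat.of K)) = (Curv2.bc k Y K ↘ Spec (CommRingCat.of K)) :=
      pullback.lift_snd _ _ _
    have sq : IsPullback j (Curv2.bcFst k Y K) (Curv2.bcFst k X K) ι := by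
      refine IsPullback.of_right ?_ hj (IsPullback.of_hasPullback (X ↘ Spec (CommRingCat.of k)) _).flip
      rw [pullback.lift_snd, w]
      exact (IsPullback.of_hasPullback (Y ↘ Spec (CommRingCat.of k)) _).flip
    haveI : IsClosedImmersion j := MorphismProperty.of_isPullback sq.flip inferInstance
    have hz : Curv2.bcFst k X K (j z) = ι (Curv2.bcFst k Y K z) := by
      rw [← Scheme.Hom.comp_apply, hj, Scheme.Hom.comp_apply]
    have hord : OrdPt K (Curv2.bc k X K) (j z) := ordPtBc_of_isNode k X _ hn (j z) hz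
    haveI := essFiniteType_stalk (k := K) (j z)
    have hle : maximalIdeal _ ≤ @jac K _ (Curv2.bc k Y K) ⟨Curv2.bcSnd k Y K⟩ z := by
      refine le_trans ?_ (fitt_map_le_of_surjective (j.stalkMap z).hom (j.stalkMap_surjective z)
        (NodalLib.stalkMap_comp j hj2 z) 1)
      rw [((ordPt_iff_fitt (NodalLib.closed_over hxc (j z) hz)).1 hord).1]
      intro b hb
      obtain ⟨a, rfl⟩ := j.stalkMap_surjective z b
      exact Ideal.mem_map_of_mem _ ((mem_maximalIdeal _).2 fun hu => (mem_maximalIdeal _).1 hb (hu.map _))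
    rw [jac_bc k Y K z] at hle
    by_cases htop : jac k Y (Curv2.bcFst k Y K z) = ⊤
    · exact Or.inl (smooth_of_jac_top hy htop ht htd)
    · exact Or.inr (isNode_of_jac hy (le_antisymm
        ((Ideal.map_mono (IsLocalRing.le_maximalIdeal htop)).trans (map_maximal_le k Y K z)) hle) ht htd)

end Groth.Agent.NodePtLib
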