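import Groth.Agent.NodePtLib.NodeLCI
import Groth.Agent.NodePtLib.EtaleLocal.Smooth
import Groth.Agent.CILib.CIMorphism

/-!
# Nodal families and syntomic morphisms
-/

set_option autoImplicit false
set_option backward.isDefEq.respectTransparency false
set_option linter.unusedSectionVars false
set_option linter.style.haveILetI false

universe u

open CategoryTheory CategoryTheory.Limits AlgebraicGeometry IsLocalRing

noncomputable section

namespace Groth.Agent.NodePtLib

attribute [local instance] Curv2.stalkAlgebra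

theorem isLCIMor_of_ci {k : Type u} [Field k] {X : Scheme.{u}} [X.Over (Spec (CommRingCat.of k))]
    [LocallyOfFiniteType (X ↘ Spec (CommRingCat.of k))]
    (h : ∀ x : X, Pi1.IsCompleteIntersection (X.presheaf.stalk x)) :
    Dual3.IsLCIMor (X ↘ Spec (CommRingCat.of k)) := by
  intro x
  let f := X ↘ Spec (CommRingCat.of k)
  obtain ⟨U, hU, hxU, -⟩ := exists_isAffineOpen_mem_and_subset (X := X) (x := x) (U := ⊤) trivial
  refine ⟨⟨U, hU⟩, ⟨⊤, isAffineOpen_top _⟩, le_top, hxU, ?_⟩
  letI := (f.appLE ⊤ U le_top).hom.toAlgebra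
  haveI : Algebra.FiniteType Γ(Spec (CommRingCat.of k), ⊤) Γ(X, U) := f.finiteType_appLE (isAffineOpen_top _) hU le_top
  haveI : IsRegularRing Γ(Spec (CommRingCat.of k), ⊤) := by
    have e : k ≃+* Γ(Spec (CommRingCat.of k), ⊤) := (Scheme.ΓSpecIso (CommRingCat.of k)).symm.commRingCatIsoToRingEquiv
    exact IsRegularRing.of_ringEquiv e
  refine isLCI_of_ci fun q hq => ?_
  have hy : hU.fromSpec ⟨q, hq⟩ ∈ U := hU.range_fromSpec.le ⟨⟨q, hq⟩, rfl⟩
  letI := TopCat.Presheaf.algebra_section_stalk X.presheaf ⟨hU.fromSpec ⟨q, hq⟩, hy⟩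
  haveI : IsLocalization.AtPrime (X.presheaf.stalk (hU.fromSpec ⟨q, hq⟩)) q := hU.isLocalization_stalk' ⟨q, hq⟩ hy
  exact (CIFlatLib.isCI_congr (IsLocalization.algEquiv q.primeCompl (X.presheaf.stalk (hU.fromSpec ⟨q, hq⟩))
    (Localization.AtPrime q)).toRingEquiv).1 (h _)

variable {X S : Scheme.{u}} (f : X ⟶ S)

theorem syntomic_of_family (hf : Curv2.IsNodalFamily f) : Synt.IsSyntomicMor f := by
  haveI := hf.1
  haveI := hf.2.1
  intro x
  refine (CILib.isSyntomicAt_iff_isCompleteIntersection f x).2 ?_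
  obtain ⟨hc, hn⟩ := hf.2.2 (f.base x)
  letI : (f.fiber (f.base x)).Over (Spec (CommRingCat.of (S.residueField (f.base x)))) :=
    ⟨f.fiberToSpecResidueField (f.base x)⟩
  haveI : LocallyOfFiniteType (f.fiber (f.base x) ↘ Spec (CommRingCat.of (S.residueField (f.base x)))) :=
    inferInstanceAs (LocallyOfFiniteType (pullback.snd f _))
  exact isCI_stalk (k := S.residueField (f.base x)) hc hn (f.asFiber x)

theorem family_of_syntomic [QuasiSeparated f] (hs : Synt.IsSyntomicMor f)
    (hd : ∀ x : X, Dual3.localFibreDim f x = 1)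
    (hu : FormallyUnramified ((Fitt.sheafIdeal (Omega.sheaf f) 1).subschemeι ≫ f)) : Curv2.IsNodalFamily f := by
  classical
  obtain ⟨hfl, hlfp, hci⟩ := (CILib.isCIMorphism_iff_isSyntomicMor f).2 hs
  haveI := hfl
  haveI := hlfp
  have hc : ∀ s : S, NodalLib.Comps1 (f.fiber s) :=
    EtaleLocal.comps_of_fibreDimAt f fun x => by rw [← EtaleLocal.localFibreDim_eq]; exact hd x
  refine ⟨hfl, hlfp, fun s => ⟨hc s, ?_⟩⟩
  let F := f.fiber s
  letI : F.Over (Spec (CommRingCat.of (S.residueField s))) := ⟨f.fiberToSpecResidueField s⟩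
  haveI : LocallyOfFiniteType (F ↘ Spec (CommRingCat.of (S.residueField s))) :=
    inferInstanceAs (LocallyOfFiniteType (pullback.snd f _))
  haveI : QuasiSeparated (F ↘ Spec (CommRingCat.of (S.residueField s))) :=
    inferInstanceAs (QuasiSeparated (pullback.snd f _))
  haveI : QuasiSeparated (f.fiberToSpecResidueField s) := inferInstanceAs (QuasiSeparated (pullback.snd f _))
  have hst : ∀ z : F, Pi1.IsCompleteIntersection (F.presheaf.stalk z) := fun z => by
    have hsx : f (f.fiberι s z) = s := by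
      have : f.fiberι s z ∈ f ⁻¹' {s} := by rw [← f.range_fiberι s]; exact ⟨z, rfl⟩
      exact this
    have gen : ∀ (s' : S) (_ : s' = s) (z' : f.fiber s'), f.fiberι s' z' = f.fiberι s z →
        Pi1.IsCompleteIntersection ((f.fiber s').presheaf.stalk z') →
          Pi1.IsCompleteIntersection ((f.fiber s).presheaf.stalk z) := by
      intro s' e z' hz' hci'
      subst e
      obtain rfl := (f.fiberι _).isEmbedding.injective hz'
      exact hci'
    exact gen _ hsx _ (f.fiberι_asFiber _) (hci (f.fiberι s z))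
  refine atWorstNodal_of_lci_unram (hc s) (isLCIMor_of_ci hst) ?_
  let Z := jacSheaf f
  let ZF := jacSheaf (f.fiberToSpecResidueField s)
  have key : ∀ z' : ZF.subscheme, UnramAt (ZF.subschemeι ≫ f.fiberToSpecResidueField s) z' := by
    intro z'
    obtain ⟨z, hz⟩ : ∃ z, Z.subschemeι z = f.fiberι s (ZF.subschemeι z') := by
      have h : f.fiberι s (ZF.subschemeι z') ∈ Set.range Z.subschemeι := by
        rw [Scheme.IdealSheafData.range_subschemeι]
        have h' : ZF.subschemeι z' ∈ Set.range ZF.subschemeι := ⟨z', rfl⟩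
        rw [Scheme.IdealSheafData.range_subschemeι] at h'
        exact (show (jacSheaf (pullback.snd f (S.fromSpecResidueField s))).support ≤
          (Z.support.preimage (pullback.fst f (S.fromSpecResidueField s)).continuous) by
            rw [jacSheaf_comap, Scheme.IdealSheafData.support_comap]) h'
      exact h
    have huz : UnramAt (Z.subschemeι ≫ f) z :=
      ⟨⊤, trivial, MorphismProperty.comp_mem _ _ _ (inferInstanceAs (FormallyUnramified (Scheme.Opens.ι _))) hu⟩
    exact (unramAt_jac_bc f (S.fromSpecResidueField s) (ZF.subschemeι z') z z' hz rfl).2 huz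
  choose U hzU hU using key
  haveI := hU
  exact IsZariskiLocalAtSource.of_openCover
    (Scheme.openCoverOfIsOpenCover _ U (TopologicalSpace.IsOpenCover.mk (top_le_iff.1 fun z _ =>
      TopologicalSpace.Opens.mem_iSup.2 ⟨z, hzU z⟩))) fun i => hU i

end Groth.Agent.NodePtLib
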